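/-
The order on rational polynomials by leading coefficients, and reduced comparisons.
-/
import Groth.Prelude.Def_StabCat
import Mathlib

set_option autoImplicit false

open Polynomial StabCat Filter

namespace Groth.Agent.StabLib

/-- `P` is eventually positive. -/
def Pos (P : ℚ[X]) : Prop := 0 < P.leadingCoeff

/-- `P` is eventually non-negative. -/
def Nn (P : ℚ[X]) : Prop := 0 ≤ P.leadingCoeff

variable {P Q R : ℚ[X]}

lemma Pos.nn (h : Pos P) : Nn P := le_of_lt h
lemma Pos.ne_zero (h : Pos P) : P ≠ 0 := fun e => by simp [Pos, e] at h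
lemma nn_zero : Nn (0 : ℚ[X]) := by simp [Nn]
lemma nn_iff : Nn P ↔ P = 0 ∨ Pos P := by
  rw [Nn, Pos, le_iff_lt_or_eq, eq_comm, leadingCoeff_eq_zero, or_comm]

lemma nn_neg_iff : Nn (-P) ↔ ¬ Pos P := by rw [Nn, Pos, leadingCoeff_neg, neg_nonneg, not_lt]
lemma pos_neg_iff : Pos (-P) ↔ ¬ Nn P := by rw [Nn, Pos, leadingCoeff_neg, neg_pos, not_le]

lemma eq_zero_of_nn_neg (h : Nn P) (h' : Nn (-P)) : P = 0 :=
  (nn_iff.1 h).resolve_right (nn_neg_iff.1 h')

lemma Pos.eventually (h : Pos P) : ∀ᶠ m : ℕ in atTop, 0 < P.eval (m : ℚ) := by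
  rcases Nat.eq_zero_or_pos P.natDegree with hd | hd
  · refine Filter.Eventually.of_forall fun m => ?_
    rw [eq_C_of_natDegree_eq_zero hd, eval_C]
    have h' : 0 < P.coeff P.natDegree := h
    rwa [hd] at h'
  · have := (P.tendsto_atTop_of_leadingCoeff_nonneg (natDegree_pos_iff_degree_pos.1 hd) h.le).comp
      (tendsto_natCast_atTop_atTop (R := ℚ))
    exact this.eventually (eventually_gt_atTop 0)

lemma nn_of_eventually (h : ∀ᶠ m : ℕ in atTop, 0 ≤ P.eval (m : ℚ)) : Nn P := by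
  by_contra hn
  obtain ⟨m, h1, h2⟩ := (h.and (pos_neg_iff.2 hn).eventually).exists
  simp only [eval_neg] at h2
  linarith

lemma Nn.eventually (h : Nn P) : ∀ᶠ m : ℕ in atTop, 0 ≤ P.eval (m : ℚ) := by
  rcases nn_iff.1 h with rfl | hp
  · simp
  · exact hp.eventually.mono fun _ hm => hm.le

lemma pos_iff_eventually : Pos P ↔ ∀ᶠ m : ℕ in atTop, 0 < P.eval (m : ℚ) := by
  refine ⟨Pos.eventually, fun h => ?_⟩
  refine (nn_iff.1 (nn_of_eventually (h.mono fun _ hm => hm.le))).resolve_left fun e => ?_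
  obtain ⟨m, hm⟩ := h.exists
  simp [e] at hm

lemma Nn.add (h : Nn P) (h' : Nn Q) : Nn (P + Q) :=
  nn_of_eventually ((h.eventually.and h'.eventually).mono fun m hm => by
    rw [eval_add]; linarith [hm.1, hm.2])

lemma Pos.add_nn (h : Pos P) (h' : Nn Q) : Pos (P + Q) :=
  pos_iff_eventually.2 ((h.eventually.and h'.eventually).mono fun m hm => by
    rw [eval_add]; linarith [hm.1, hm.2])

lemma Nn.add_pos (h : Nn P) (h' : Pos Q) : Pos (P + Q) := add_comm P Q ▸ h'.add_nn h

lemma Pos.smul (h : Pos P) {c : ℚ} (hc : 0 < c) : Pos (c • P) :=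
  pos_iff_eventually.2 (h.eventually.mono fun m hm => by
    rw [eval_smul, smul_eq_mul]; positivity)

lemma Nn.smul (h : Nn P) {c : ℚ} (hc : 0 ≤ c) : Nn (c • P) :=
  nn_of_eventually (h.eventually.mono fun m hm => by
    rw [eval_smul, smul_eq_mul]; positivity)

lemma pos_smul_iff {c : ℚ} (hc : 0 < c) : Pos (c • P) ↔ Pos P :=
  ⟨fun h => by simpa [smul_smul, inv_mul_cancel₀ hc.ne'] using h.smul (inv_pos.2 hc),
    fun h => h.smul hc⟩

lemma nn_smul_iff {c : ℚ} (hc : 0 < c) : Nn (c • P) ↔ Nn P :=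
  ⟨fun h => by simpa [smul_smul, inv_mul_cancel₀ hc.ne'] using h.smul (inv_pos.2 hc).le,
    fun h => h.smul hc.le⟩

lemma polyLE_iff : PolyLE P Q ↔ Nn (Q - P) := by
  constructor
  · rintro ⟨N, hN⟩
    exact nn_of_eventually (eventually_atTop.2 ⟨N, fun m hm => by
      rw [eval_sub]; linarith [hN m hm]⟩)
  · intro h
    obtain ⟨N, hN⟩ := eventually_atTop.1 h.eventually
    exact ⟨N, fun m hm => by have := hN m hm; rw [eval_sub] at this; linarith⟩

lemma polyLT_iff : PolyLT P Q ↔ Pos (Q - P) := by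
  rw [pos_iff_eventually]
  constructor
  · rintro ⟨N, hN⟩
    exact eventually_atTop.2 ⟨N, fun m hm => by rw [eval_sub]; linarith [hN m hm]⟩
  · intro h
    obtain ⟨N, hN⟩ := eventually_atTop.1 h
    exact ⟨N, fun m hm => by have := hN m hm; rw [eval_sub] at this; linarith⟩

/-- Polynomials are determined by their values at the natural numbers. -/
lemma eq_of_eval_nat (h : ∀ m : ℕ, P.eval (m : ℚ) = Q.eval (m : ℚ)) : P = Q :=
  eq_of_infinite_eval_eq P Q (Set.Infinite.mono (fun x hx => by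
    obtain ⟨m, rfl⟩ := hx; exact h m) (Set.infinite_range_of_injective Nat.cast_injective))

section alpha

variable (d : ℕ)

lemma alpha_add : alpha d (P + Q) = alpha d P + alpha d Q := by
  simp [alpha, mul_add]

lemma alpha_sub : alpha d (P - Q) = alpha d P - alpha d Q := by
  simp [alpha, mul_sub]

lemma alpha_smul (c : ℚ) : alpha d (c • P) = c * alpha d P := by
  simp [alpha, mul_left_comm]

lemma alpha_zero : alpha d (0 : ℚ[X]) = 0 := by simp [alpha]

lemma alpha_nonneg (h : Nn P) (hd : P.natDegree ≤ d) : 0 ≤ alpha d P := by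
  refine mul_nonneg (Nat.cast_nonneg _) ?_
  rcases hd.lt_or_eq with hlt | rfl
  · rw [coeff_eq_zero_of_natDegree_lt hlt]
  · exact h

lemma alpha_pos_iff (h : Nn P) (hd : P.natDegree ≤ d) :
    0 < alpha d P ↔ P ≠ 0 ∧ P.natDegree = d := by
  have hfac : (0 : ℚ) < (d.factorial : ℚ) := by exact_mod_cast d.factorial_pos
  constructor
  · intro ha
    have hc : P.coeff d ≠ 0 := fun e => by simp [alpha, e] at ha
    exact ⟨fun e => by simp [e] at hc, le_antisymm hd (le_natDegree_of_ne_zero hc)⟩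
  · rintro ⟨h0, rfl⟩
    exact mul_pos hfac ((nn_iff.1 h).resolve_left h0)

/-- The cross-multiplied difference of reduced polynomials. -/
noncomputable def D (P Q : ℚ[X]) : ℚ[X] := alpha d P • Q - alpha d Q • P

lemma redLE_iff : RedLE d P Q ↔ Nn (D d P Q) := polyLE_iff
lemma redLT_iff : RedLT d P Q ↔ Pos (D d P Q) := polyLT_iff
lemma redEq_iff : RedEq d P Q ↔ D d P Q = 0 := by rw [RedEq, D, sub_eq_zero, eq_comm]

lemma D_self : D d P P = 0 := by simp [D]
lemma D_neg : -D d P Q = D d Q P := by simp [D]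
lemma D_add_left : D d (P + Q) R = D d P R + D d Q R := by
  simp only [D, alpha_add, add_smul, smul_add]; abel
lemma D_add_right : D d P (Q + R) = D d P Q + D d P R := by
  simp only [D, alpha_add, add_smul, smul_add]; abel
lemma D_sub_left : D d (P - Q) R = D d P R - D d Q R := by
  simp only [D, alpha_sub, sub_smul, smul_sub]; abel
lemma D_sub_right : D d P (Q - R) = D d P Q - D d P R := by
  simp only [D, alpha_sub, sub_smul, smul_sub]; abel
lemma D_zero_left : D d 0 P = 0 := by simp [D, alpha_zero]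
lemma D_zero_right : D d P 0 = 0 := by simp [D, alpha_zero]

/-- The cocycle identity. -/
lemma D_trans : alpha d Q • D d P R = alpha d R • D d P Q + alpha d P • D d Q R := by
  simp only [D, smul_sub, smul_smul]
  rw [mul_comm (alpha d R) (alpha d P), mul_comm (alpha d R) (alpha d Q),
    mul_comm (alpha d P) (alpha d Q)]
  abel

lemma nn_D_trans (hQ : 0 < alpha d Q) (hP : 0 ≤ alpha d P) (hR : 0 ≤ alpha d R)
    (h₁ : Nn (D d P Q)) (h₂ : Nn (D d Q R)) : Nn (D d P R) := by
  rw [← nn_smul_iff hQ, D_trans]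
  exact (h₁.smul hR).add (h₂.smul hP)

lemma pos_D_trans_left (hQ : 0 < alpha d Q) (hP : 0 ≤ alpha d P) (hR : 0 < alpha d R)
    (h₁ : Pos (D d P Q)) (h₂ : Nn (D d Q R)) : Pos (D d P R) := by
  rw [← pos_smul_iff hQ, D_trans]
  exact (h₁.smul hR).add_nn (h₂.smul hP)

lemma pos_D_trans_right (hQ : 0 < alpha d Q) (hP : 0 < alpha d P) (hR : 0 ≤ alpha d R)
    (h₁ : Nn (D d P Q)) (h₂ : Pos (D d Q R)) : Pos (D d P R) := by
  rw [← pos_smul_iff hQ, D_trans]
  exact (h₁.smul hR).add_pos (h₂.smul hP)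

lemma not_pos_D (h : Nn (D d P Q)) : ¬ Pos (D d Q P) := by
  rwa [← nn_neg_iff, D_neg]

lemma eq_zero_of_D (h : Nn (D d P Q)) (h' : Nn (D d Q P)) : D d P Q = 0 :=
  eq_zero_of_nn_neg h (by rwa [D_neg])

end alpha

end Groth.Agent.StabLib
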