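/-
Harder-Narasimhan and Jordan-Hölder theory for a polynomial valuation on a lattice.
-/
import Groth.Agent.StabLib.Poly

set_option autoImplicit false

open Polynomial StabCat

namespace Groth.Agent.StabLib

/-- A polynomial valuation of degree at most `d` on a lattice. -/
structure Val (L : Type*) [Lattice L] (d : ℕ) where
  /-- the value -/
  v : L → ℚ[X]
  modular : ∀ x y, v (x ⊓ y) + v (x ⊔ y) = v x + v y
  mono : ∀ x y, x ≤ y → Nn (v y - v x)
  deg : ∀ x, (v x).natDegree ≤ d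
  int : ∀ x, ∃ n : ℤ, alpha d (v x) = n

namespace Val

variable {L : Type*} [Lattice L] {d : ℕ} (V : Val L d)

/-- The value of an interval. -/
noncomputable def q (x y : L) : ℚ[X] := V.v y - V.v x

/-- The multiplicity of an interval. -/
noncomputable def a (x y : L) : ℚ := alpha d (V.q x y)

lemma q_self (x : L) : V.q x x = 0 := sub_self _
lemma q_add (x y z : L) : V.q x y + V.q y z = V.q x z := by simp only [q]; abel
lemma a_self (x : L) : V.a x x = 0 := by rw [a, q_self, alpha_zero]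
lemma a_add (x y z : L) : V.a x y + V.a y z = V.a x z := by
  rw [a, a, a, ← alpha_add, q_add]

lemma q_inf_sup (x y : L) : V.q (x ⊓ y) x = V.q y (x ⊔ y) := by
  rw [q, q, sub_eq_sub_iff_add_eq_add, ← V.modular x y]; abel

lemma q_modular (K x y : L) : V.q K (x ⊓ y) + V.q K (x ⊔ y) = V.q K x + V.q K y := by
  have := V.modular x y
  simp only [q]
  linear_combination this

lemma nn_q {x y : L} (h : x ≤ y) : Nn (V.q x y) := V.mono x y h

lemma deg_q (x y : L) : (V.q x y).natDegree ≤ d :=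
  (natDegree_sub_le _ _).trans (max_le (V.deg y) (V.deg x))

lemma a_nonneg {x y : L} (h : x ≤ y) : 0 ≤ V.a x y := alpha_nonneg d (V.nn_q h) (V.deg_q x y)

lemma a_mono {x y z : L} (hyz : y ≤ z) : V.a x y ≤ V.a x z := by
  linarith [V.a_add x y z, V.a_nonneg hyz]

lemma exists_nat {x y : L} (h : x ≤ y) : ∃ n : ℕ, V.a x y = n := by
  obtain ⟨m, hm⟩ := V.int x
  obtain ⟨n, hn⟩ := V.int y
  have he : V.a x y = ((n - m : ℤ) : ℚ) := by rw [a, q, alpha_sub, hm, hn]; push_cast; ring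
  have h0 : (0 : ℤ) ≤ n - m := by exact_mod_cast he ▸ V.a_nonneg h
  obtain ⟨k, hk⟩ := Int.eq_ofNat_of_zero_le h0
  exact ⟨k, by rw [he, hk]; norm_cast⟩

/-- All intervals above `K` have positive multiplicity. -/
def PureAbove (K : L) : Prop := ∀ N, K < N → 0 < V.a K N

/-- The interval is semistable (and pure). -/
def SS (x y : L) : Prop :=
  x < y ∧ ∀ z, x < z → z ≤ y → 0 < V.a x z ∧ Nn (D d (V.q x z) (V.q x y))

/-- The interval is stable (and pure). -/
def St (x y : L) : Prop :=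
  x < y ∧ 0 < V.a x y ∧ ∀ z, x < z → z < y → 0 < V.a x z ∧ Pos (D d (V.q x z) (V.q x y))

lemma SS.lt {x y : L} (h : V.SS x y) : x < y := h.1
lemma SS.pos {x y : L} (h : V.SS x y) : 0 < V.a x y := (h.2 y h.1 le_rfl).1

variable {V} in
lemma SS.nn_le {x y : L} (h : V.SS x y) {z : L} (hxz : x ≤ z) (hzy : z ≤ y) :
    Nn (D d (V.q x z) (V.q x y)) := by
  rcases hxz.lt_or_eq with hlt | rfl
  · exact (h.2 z hlt hzy).2
  · rw [q_self, D_zero_left]; exact nn_zero

variable {V} in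
lemma St.ss {x y : L} (h : V.St x y) : V.SS x y := by
  refine ⟨h.1, fun z hz hzy => ?_⟩
  rcases hzy.lt_or_eq with hlt | rfl
  · exact ⟨(h.2.2 z hz hlt).1, (h.2.2 z hz hlt).2.nn⟩
  · exact ⟨h.2.1, by rw [D_self]; exact nn_zero⟩

variable [WellFoundedGT L]

omit V in
lemma exists_maximal_of_nonempty (S : Set L) (h : S.Nonempty) :
    ∃ M ∈ S, ∀ x ∈ S, M ≤ x → x = M := by
  obtain ⟨M, hM, hmax⟩ := wellFounded_gt.has_min S h
  exact ⟨M, hM, fun x hx hle => (hle.lt_or_eq.resolve_left (hmax x hx)).symm⟩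

/-- Existence of a saturation. -/
lemma exists_saturation (K N : L) :
    ∃ M, N ≤ M ∧ V.a K M = V.a K N ∧ V.PureAbove M := by
  obtain ⟨M, ⟨hNM, ha⟩, hmax⟩ :=
    exists_maximal_of_nonempty {M | N ≤ M ∧ V.a K M = V.a K N} ⟨N, le_rfl, rfl⟩
  refine ⟨M, hNM, ha, fun P hP => (V.a_nonneg hP.le).lt_of_ne' fun h0 => ?_⟩
  refine hP.ne (hmax P ⟨hNM.trans hP.le, ?_⟩ hP.le).symm
  rw [← V.a_add K M P, ha, h0, add_zero]

section destab

variable {K : L} (hK : V.PureAbove K)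
include hK

lemma pos_or_nn {M N : L} (hN : K < N) (hM : K < M) :
    Nn (D d (V.q K M) (V.q K N)) ∨ Pos (D d (V.q K N) (V.q K M)) := by
  have := hK N hN; have := hK M hM
  by_cases h : Nn (D d (V.q K M) (V.q K N))
  · exact Or.inl h
  · exact Or.inr (D_neg d (P := V.q K M) ▸ pos_neg_iff.2 h)

/-- Above any element there is one which cannot be enlarged without decreasing the reduced value. -/
lemma exists_top_above {G : L} (hG : K < G) :
    ∃ M, G ≤ M ∧ Nn (D d (V.q K G) (V.q K M)) ∧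
      ∀ N, M < N → Pos (D d (V.q K N) (V.q K M)) := by
  obtain ⟨M, ⟨hGM, hM⟩, hmax⟩ := exists_maximal_of_nonempty
    {M | G ≤ M ∧ Nn (D d (V.q K G) (V.q K M))} ⟨G, le_rfl, by rw [D_self]; exact nn_zero⟩
  refine ⟨M, hGM, hM, fun N hN => ?_⟩
  have hKM : K < M := hG.trans_le hGM
  refine (V.pos_or_nn hK (hKM.trans hN) hKM).resolve_left fun h => hN.ne' ?_
  exact hmax N ⟨hGM.trans hN.le, nn_D_trans d (hK M hKM) (hK G hG).le
    (hK N (hKM.trans hN)).le hM h⟩ hN.le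

lemma inf_improves {F G : L} (hF : K < F) (hG : K < G)
    (hFmax : ∀ N, F < N → Pos (D d (V.q K N) (V.q K F))) (hGF : ¬ G ≤ F)
    (hlt : Pos (D d (V.q K F) (V.q K G))) :
    K < G ⊓ F ∧ Pos (D d (V.q K G) (V.q K (G ⊓ F))) := by
  have hsup : Pos (D d (V.q K (G ⊔ F)) (V.q K F)) := hFmax _ (right_lt_sup.2 hGF)
  have e1 : D d (V.q K F) (V.q K (G ⊓ F)) + D d (V.q K F) (V.q K (G ⊔ F)) =
      D d (V.q K F) (V.q K G) := by
    rw [← D_add_right, q_modular, D_add_right, D_self, add_zero]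
  have e2 : V.a K F • D d (V.q K G) (V.q K (G ⊓ F)) =
      (V.a K G - V.a K (G ⊓ F)) • D d (V.q K F) (V.q K G) +
        V.a K G • D d (V.q K (G ⊔ F)) (V.q K F) := by
    rw [show V.a K F = alpha d (V.q K F) from rfl, D_trans (Q := V.q K F),
      ← D_neg d (P := V.q K F) (Q := V.q K G), ← D_neg d (P := V.q K F) (Q := V.q K (G ⊔ F)),
      eq_sub_of_add_eq e1]
    simp only [a, sub_smul, smul_sub, smul_neg]
    abel
  have hpos : Pos (D d (V.q K G) (V.q K (G ⊓ F))) := by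
    rw [← pos_smul_iff (hK F hF), e2]
    exact (hlt.nn.smul (sub_nonneg.2 (V.a_mono inf_le_left))).add_pos (hsup.smul (hK G hG))
  refine ⟨(le_inf hG.le hF.le).lt_of_ne fun e => ?_, hpos⟩
  rw [← e, q_self, D_zero_right] at hpos
  exact hpos.ne_zero rfl

/-- The maximal destabilising element. -/
lemma exists_maxDestab (hne : ∃ N, K < N) :
    ∃ M, K < M ∧ ∀ N, K < N → Nn (D d (V.q K N) (V.q K M)) ∧
      (D d (V.q K N) (V.q K M) = 0 → N ≤ M) := by
  classical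
  have hex : ∃ n : ℕ, ∃ F, K < F ∧ (∀ N, F < N → Pos (D d (V.q K N) (V.q K F))) ∧
      V.a K F = n := by
    obtain ⟨N, hN⟩ := hne
    obtain ⟨F, hNF, -, hF⟩ := V.exists_top_above hK hN
    obtain ⟨n, hn⟩ := V.exists_nat (hN.trans_le hNF).le
    exact ⟨n, F, hN.trans_le hNF, hF, hn⟩
  obtain ⟨F, hKF, hFmax, hFn⟩ := Nat.find_spec hex
  have hFmin : ∀ F', K < F' → (∀ N, F' < N → Pos (D d (V.q K N) (V.q K F'))) →
      V.a K F ≤ V.a K F' := by
    intro F' h1 h2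
    obtain ⟨n, hn⟩ := V.exists_nat h1.le
    rw [hFn, hn]
    exact_mod_cast Nat.find_min' hex ⟨F', h1, h2, hn⟩
  have hdom : ∀ N, K < N → Nn (D d (V.q K N) (V.q K F)) := by
    intro N hN
    by_contra hc
    have hlt : Pos (D d (V.q K F) (V.q K N)) := D_neg d (P := V.q K N) ▸ pos_neg_iff.2 hc
    obtain ⟨G₀, hG₀, hG₀F, hlt₀⟩ :
        ∃ G₀, K < G₀ ∧ G₀ ≤ F ∧ Pos (D d (V.q K F) (V.q K G₀)) := by
      by_cases hNF : N ≤ F
      · exact ⟨N, hN, hNF, hlt⟩
      · obtain ⟨h1, h2⟩ := V.inf_improves hK hKF hN hFmax hNF hlt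
        exact ⟨N ⊓ F, h1, inf_le_right,
          pos_D_trans_left d (hK N hN) (hK F hKF).le (hK _ h1) hlt h2.nn⟩
    obtain ⟨G, ⟨hGK, hGF, hG⟩, hGmax⟩ := exists_maximal_of_nonempty
      {M | K < M ∧ M ≤ F ∧ Nn (D d (V.q K G₀) (V.q K M))}
      ⟨G₀, hG₀, hG₀F, by rw [D_self]; exact nn_zero⟩
    have hFG : Pos (D d (V.q K F) (V.q K G)) :=
      pos_D_trans_left d (hK G₀ hG₀) (hK F hKF).le (hK G hGK) hlt₀ hG
    obtain ⟨G', hGG', hG', hG'max⟩ := V.exists_top_above hK hGK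
    have hKG' : K < G' := hGK.trans_le hGG'
    have hG₀G' : Nn (D d (V.q K G₀) (V.q K G')) :=
      nn_D_trans d (hK G hGK) (hK G₀ hG₀).le (hK G' hKG').le hG hG'
    have hFG' : Pos (D d (V.q K F) (V.q K G')) :=
      pos_D_trans_left d (hK G hGK) (hK F hKF).le (hK G' hKG') hFG hG'
    by_cases hle : G' ≤ F
    · obtain rfl : G' = G := hGmax G' ⟨hKG', hle, hG₀G'⟩ hGG'
      have heq : V.a K G' = V.a K F := le_antisymm (V.a_mono hle) (hFmin G' hGK hG'max)
      refine not_pos_D d ?_ hFG'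
      rw [D, show alpha d (V.q K F) = V.a K F from rfl, show alpha d (V.q K G') = V.a K F from heq,
        ← smul_sub, ← V.q_add K G' F, add_sub_cancel_left]
      exact (V.nn_q hle).smul (hK F hKF).le
    · obtain ⟨h1, h2⟩ := V.inf_improves hK hKF hKG' hFmax hle hFG'
      have he : G' ⊓ F = G := hGmax _ ⟨h1, inf_le_right,
        nn_D_trans d (hK G' hKG') (hK G₀ hG₀).le (hK _ h1).le hG₀G' h2.nn⟩ (le_inf hGG' hGF)
      rw [he] at h2
      exact not_pos_D d hG' h2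
  obtain ⟨M, ⟨hKM, hM⟩, hMmax⟩ := exists_maximal_of_nonempty
    {M | K < M ∧ D d (V.q K F) (V.q K M) = 0} ⟨F, hKF, D_self d⟩
  have hdom' : ∀ N, K < N → Nn (D d (V.q K N) (V.q K M)) := fun N hN =>
    nn_D_trans d (hK F hKF) (hK N hN).le (hK M hKM).le (hdom N hN) (by rw [hM]; exact nn_zero)
  refine ⟨M, hKM, fun N hN => ⟨hdom' N hN, fun h0 => ?_⟩⟩
  have hdom₀ : ∀ x, K ≤ x → Nn (D d (V.q K x) (V.q K F)) := by
    intro x hx
    rcases hx.lt_or_eq with hlt | rfl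
    · exact hdom x hlt
    · rw [q_self, D_zero_left]; exact nn_zero
  have hN0 : D d (V.q K F) (V.q K N) = 0 := by
    refine eq_zero_of_D d ?_ (hdom N hN)
    refine nn_D_trans d (hK M hKM) (hK F hKF).le (hK N hN).le (by rw [hM]; exact nn_zero) ?_
    rw [← D_neg d (P := V.q K N), h0, neg_zero]; exact nn_zero
  have e : D d (V.q K F) (V.q K (M ⊓ N)) + D d (V.q K F) (V.q K (M ⊔ N)) = 0 := by
    rw [← D_add_right, q_modular, D_add_right, hM, hN0, add_zero]
  have hs : D d (V.q K F) (V.q K (M ⊔ N)) = 0 := by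
    refine eq_zero_of_D d ?_ (hdom₀ _ (hKM.le.trans le_sup_left))
    rw [eq_neg_of_add_eq_zero_right e, D_neg]
    exact hdom₀ _ (le_inf hKM.le hN.le)
  exact sup_eq_left.1 (hMmax _ ⟨hKM.trans_le le_sup_left, hs⟩ le_sup_left)

lemma ss_of_maxDestab {M : L} (hKM : K < M)
    (hM : ∀ N, K < N → Nn (D d (V.q K N) (V.q K M))) : V.SS K M :=
  ⟨hKM, fun z hz _ => ⟨hK z hz, hM z hz⟩⟩

omit [WellFoundedGT L] in
lemma maxDestab_step {M N : L} (hKM : K < M)
    (hM : ∀ N, K < N → Nn (D d (V.q K N) (V.q K M)) ∧ (D d (V.q K N) (V.q K M) = 0 → N ≤ M))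
    (hMN : M < N) : 0 < V.a M N ∧ Pos (D d (V.q M N) (V.q K M)) := by
  obtain ⟨h1, h2⟩ := hM N (hKM.trans hMN)
  have hp : Pos (D d (V.q K N) (V.q K M)) :=
    (nn_iff.1 h1).resolve_left fun e => (h2 e).not_gt hMN
  have e : D d (V.q M N) (V.q K M) = D d (V.q K N) (V.q K M) := by
    rw [← V.q_add K M N, D_add_left, D_self, zero_add]
  refine ⟨(V.a_nonneg hMN.le).lt_of_ne' fun h0 => not_pos_D d ?_ (e ▸ hp), e ▸ hp⟩
  rw [D, show alpha d (V.q M N) = 0 from h0, zero_smul, sub_zero]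
  exact (V.nn_q hMN.le).smul (hK M hKM).le

end destab

end Val

end Groth.Agent.StabLib
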