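/-
Harder-Narasimhan and Jordan-Hölder chains for a polynomial valuation on a lattice.
-/
import Groth.Agent.StabLib.Lattice

set_option autoImplicit false

open Polynomial StabCat

namespace Groth.Agent.StabLib

namespace Val

variable {L : Type*} [Lattice L] {d : ℕ} (V : Val L d)

/-- A Harder-Narasimhan chain. -/
structure IsHN (n : ℕ) (f : ℕ → L) : Prop where
  ss : ∀ i < n, V.SS (f i) (f (i + 1))
  dec : ∀ i, i + 1 < n →
    Pos (D d (V.q (f (i + 1)) (f (i + 2))) (V.q (f i) (f (i + 1))))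

variable {V}

lemma IsHN.mono_le {n : ℕ} {f : ℕ → L} (h : V.IsHN n f) :
    ∀ {i j : ℕ}, i ≤ j → j ≤ n → f i ≤ f j := by
  intro i j hij hj
  induction j, hij using Nat.le_induction with
  | base => exact le_rfl
  | succ m him ih => exact (ih (by omega)).trans (h.ss m (by omega)).lt.le

lemma IsHN.lt_first {n : ℕ} {f : ℕ → L} (h : V.IsHN n f) :
    ∀ j, 0 < j → j < n → Pos (D d (V.q (f j) (f (j + 1))) (V.q (f 0) (f 1))) := by
  intro j hj hjn
  induction j with
  | zero => omega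
  | succ m ih =>
    rcases Nat.eq_zero_or_pos m with rfl | hm
    · exact h.dec 0 hjn
    · exact pos_D_trans_left d (h.ss m (by omega)).pos (h.ss (m + 1) hjn).pos.le
        (h.ss 0 (by omega)).pos (h.dec m hjn) (ih hm (by omega)).nn

lemma IsHN.tail {n : ℕ} {f : ℕ → L} (h : V.IsHN (n + 1) f) : V.IsHN n fun i => f (i + 1) :=
  ⟨fun i hi => h.ss (i + 1) (by omega), fun i hi => h.dec (i + 1) (by omega)⟩

/-- The first term of a Harder-Narasimhan chain dominates all intermediate elements. -/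
lemma IsHN.dominates {n : ℕ} {f : ℕ → L} (h : V.IsHN n f) (hn : 0 < n) :
    ∀ j, 1 ≤ j → j ≤ n → ∀ N, f 0 < N → N ≤ f j →
      0 < V.a (f 0) N ∧ Nn (D d (V.q (f 0) N) (V.q (f 0) (f 1))) ∧
        (D d (V.q (f 0) N) (V.q (f 0) (f 1)) = 0 → N ≤ f 1) := by
  intro j hj hjn
  induction j, hj using Nat.le_induction with
  | base => exact fun N hN hNj => ⟨((h.ss 0 hn).2 N hN hNj).1, ((h.ss 0 hn).2 N hN hNj).2,
      fun _ => hNj⟩
  | succ m hm ih =>
    intro N hN hNj
    by_cases hle : N ≤ f m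
    · exact ih (by omega) N hN hle
    have hsp : V.q (f 0) N = V.q (f 0) (N ⊓ f m) + V.q (f m) (N ⊔ f m) := by
      rw [← V.q_inf_sup, V.q_add]
    obtain ⟨hpa, hp⟩ := (h.ss m (by omega)).2 (N ⊔ f m) (right_lt_sup.2 hle)
      (sup_le hNj (h.mono_le (Nat.le_succ m) hjn))
    have hfirst := h.lt_first m (by omega) (by omega)
    have hp' : Pos (D d (V.q (f m) (N ⊔ f m)) (V.q (f 0) (f 1))) :=
      pos_D_trans_right d (h.ss m (by omega)).pos hpa (h.ss 0 hn).pos.le hp hfirst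
    have hi : 0 ≤ V.a (f 0) (N ⊓ f m) ∧
        Nn (D d (V.q (f 0) (N ⊓ f m)) (V.q (f 0) (f 1))) := by
      have h0 : f 0 ≤ N ⊓ f m := le_inf hN.le (h.mono_le (Nat.zero_le m) (by omega))
      refine ⟨V.a_nonneg h0, ?_⟩
      rcases h0.lt_or_eq with hlt | e
      · exact (ih (by omega) _ hlt inf_le_right).2.1
      · rw [← e, V.q_self, D_zero_left]; exact nn_zero
    have hpos : Pos (D d (V.q (f 0) N) (V.q (f 0) (f 1))) := by
      rw [hsp, D_add_left]; exact hi.2.add_pos hp'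
    refine ⟨?_, hpos.nn, fun e => absurd e hpos.ne_zero⟩
    rw [a, hsp, alpha_add]
    exact add_pos_of_nonneg_of_pos hi.1 hpa

/-- The reduced value of the last factor is below that of all quotients of the whole chain. -/
lemma IsHN.quot_bound {n : ℕ} {f : ℕ → L} (h : V.IsHN (n + 1) f) (N : L) :
    Nn (D d (V.q (f n) (f (n + 1))) (V.q (N ⊔ f 0) (N ⊔ f (n + 1)))) := by
  suffices H : ∀ j ≤ n, Nn (D d (V.q (f j) (f (j + 1))) (V.q (N ⊔ f 0) (N ⊔ f (j + 1)))) from
    H n le_rfl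
  have piece : ∀ j ≤ n, Nn (D d (V.q (f j) (f (j + 1))) (V.q (N ⊔ f j) (N ⊔ f (j + 1)))) := by
    intro j hj
    have hs := h.ss j (by omega)
    have e : f (j + 1) ⊔ (N ⊔ f j) = N ⊔ f (j + 1) := by
      rw [sup_left_comm, sup_eq_left.2 hs.lt.le]
    have e2 : V.q (N ⊔ f j) (N ⊔ f (j + 1)) =
        V.q (f j) (f (j + 1)) - V.q (f j) (f (j + 1) ⊓ (N ⊔ f j)) := by
      rw [← e, ← V.q_inf_sup, ← V.q_add (f j) (f (j + 1) ⊓ (N ⊔ f j)) (f (j + 1)),
        add_sub_cancel_left]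
    rw [e2, D_sub_right, D_self, zero_sub, D_neg]
    exact hs.nn_le (le_inf hs.lt.le le_sup_right) inf_le_left
  intro j hj
  induction j with
  | zero => exact piece 0 hj
  | succ m ih =>
    rw [← V.q_add (N ⊔ f 0) (N ⊔ f (m + 1)) (N ⊔ f (m + 1 + 1)), D_add_right]
    refine Nn.add ?_ (piece (m + 1) hj)
    exact nn_D_trans d (h.ss m (by omega)).pos (h.ss (m + 1) (by omega)).pos.le
      (V.a_nonneg (sup_le_sup_left (h.mono_le (Nat.zero_le _) (by omega)) N))
      (h.dec m (by omega)).nn (ih (by omega))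

lemma IsHN.pureAbove [OrderTop L] {n : ℕ} {f : ℕ → L} (h : V.IsHN n f) (hn : f n = ⊤) :
    V.PureAbove (f 0) := by
  intro N hN
  rcases Nat.eq_zero_or_pos n with rfl | hpos
  · exact absurd (hN.trans_le le_top) (by rw [hn]; exact lt_irrefl _)
  · exact (h.dominates hpos n hpos le_rfl N hN (hn ▸ le_top)).1

/-- Harder-Narasimhan chains with the same ends coincide. -/
theorem IsHN.unique [OrderTop L] {n : ℕ} {f : ℕ → L} (hf : V.IsHN n f) (hfn : f n = ⊤) :
    ∀ {m : ℕ} {g : ℕ → L}, V.IsHN m g → g m = ⊤ → f 0 = g 0 →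
      n = m ∧ ∀ i ≤ n, f i = g i := by
  induction n generalizing f with
  | zero =>
    intro m g hg hgm h0
    rcases Nat.eq_zero_or_pos m with rfl | hm
    · exact ⟨rfl, fun i hi => by rw [Nat.le_zero.1 hi]; exact h0⟩
    · exact absurd ((hg.ss 0 hm).lt.trans_le le_top) (by rw [← h0, hfn]; exact lt_irrefl _)
  | succ k ih =>
    intro m g hg hgm h0
    rcases Nat.eq_zero_or_pos m with rfl | hm
    · exact absurd ((hf.ss 0 (by omega)).lt.trans_le le_top)
        (by rw [h0, hgm]; exact lt_irrefl _)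
    have hf1 := (hf.ss 0 (by omega)).lt
    have hg1 := (hg.ss 0 hm).lt
    obtain ⟨-, h2, h3⟩ := hf.dominates (Nat.succ_pos k) (k + 1) (by omega) le_rfl (g 1)
      (h0 ▸ hg1) (hfn ▸ le_top)
    obtain ⟨-, h2', h3'⟩ := hg.dominates hm m hm le_rfl (f 1) (h0 ▸ hf1) (hgm ▸ le_top)
    rw [← h0] at h2' h3'
    have e := eq_zero_of_D d h2' h2
    have h1 : f 1 = g 1 := by
      refine le_antisymm (h3' e) (h3 ?_)
      rw [← D_neg d, e, neg_zero]
    obtain ⟨m, rfl⟩ : ∃ m', m = m' + 1 := ⟨m - 1, by omega⟩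
    obtain ⟨rfl, he⟩ := ih hf.tail hfn hg.tail hgm h1
    refine ⟨rfl, fun i hi => ?_⟩
    rcases i with _ | i
    · exact h0
    · exact he i (by omega)

variable (V)

/-- Existence of Harder-Narasimhan chains. -/
theorem exists_isHN [OrderTop L] [WellFoundedGT L] (K : L) (hK : V.PureAbove K) :
    ∃ (n : ℕ) (f : ℕ → L), V.IsHN n f ∧ f 0 = K ∧ f n = ⊤ := by
  induction K using (wellFounded_gt (α := L)).induction with
  | _ K ih =>
    rcases eq_or_lt_of_le (le_top : K ≤ ⊤) with e | hlt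
    · exact ⟨0, fun _ => K, ⟨fun i hi => absurd hi (Nat.not_lt_zero i),
        fun i hi => absurd hi (by omega)⟩, rfl, e⟩
    obtain ⟨M, hKM, hM⟩ := V.exists_maxDestab hK ⟨⊤, hlt⟩
    obtain ⟨n, f, hf, hf0, hfn⟩ :=
      ih M hKM fun N hN => (V.maxDestab_step hK hKM hM hN).1
    refine ⟨n + 1, fun i => Nat.casesOn i K f, ⟨?_, ?_⟩, rfl, hfn⟩
    · intro i hi
      rcases i with _ | i
      · show V.SS K (f 0)
        rw [hf0]
        exact V.ss_of_maxDestab hK hKM fun N hN => (hM N hN).1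
      · exact hf.ss i (by omega)
    · intro i hi
      rcases i with _ | i
      · show Pos (D d (V.q (f 0) (f 1)) (V.q K (f 0)))
        rw [hf0]
        have hlt' := (hf.ss 0 (by omega)).lt
        rw [hf0] at hlt'
        exact (V.maxDestab_step hK hKM hM hlt').2
      · exact hf.dec i (by omega)

/-- The elements with the reduced value of the whole. -/
def SameSlope [BoundedOrder L] (x : L) : Prop := D d (V.q ⊥ x) (V.q ⊥ ⊤) = 0

lemma sameSlope_inf_sup [BoundedOrder L] (hS : V.SS ⊥ ⊤) {x y : L}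
    (hx : V.SameSlope x) (hy : V.SameSlope y) : V.SameSlope (x ⊓ y) ∧ V.SameSlope (x ⊔ y) := by
  have e : D d (V.q ⊥ (x ⊓ y)) (V.q ⊥ ⊤) + D d (V.q ⊥ (x ⊔ y)) (V.q ⊥ ⊤) = 0 := by
    rw [← D_add_left, V.q_modular, D_add_left]
    exact (congrArg₂ (· + ·) hx hy).trans (add_zero 0)
  have h1 := hS.nn_le (z := x ⊓ y) bot_le le_top
  have h2 := hS.nn_le (z := x ⊔ y) bot_le le_top
  refine ⟨eq_zero_of_nn_neg h1 ?_, eq_zero_of_nn_neg h2 ?_⟩
  · rwa [neg_eq_of_add_eq_zero_right e]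
  · rwa [neg_eq_of_add_eq_zero_left e]

lemma sameSlope_bot [BoundedOrder L] : V.SameSlope ⊥ := by
  rw [SameSlope, V.q_self, D_zero_left]

lemma sameSlope_top [BoundedOrder L] : V.SameSlope ⊤ := D_self d

lemma D_step [BoundedOrder L] {K z : L} (hK : V.SameSlope K) :
    D d (V.q K z) (V.q ⊥ ⊤) = D d (V.q ⊥ z) (V.q ⊥ ⊤) := by
  rw [← V.q_add ⊥ K z, D_add_left, hK, zero_add]

/-- Existence of Jordan-Hölder chains. -/
theorem exists_isJH [BoundedOrder L] [WellFoundedGT L] (hS : V.SS ⊥ ⊤)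
    (hstrict : ∀ x y, x < y → V.q x y ≠ 0) (K : L) (hK : V.SameSlope K) :
    ∃ (n : ℕ) (f : ℕ → L), f 0 = K ∧ f n = ⊤ ∧ ∀ i < n,
      V.St (f i) (f (i + 1)) ∧ D d (V.q (f i) (f (i + 1))) (V.q ⊥ ⊤) = 0 := by
  induction K using (wellFounded_gt (α := L)).induction with
  | _ K ih =>
    classical
    rcases eq_or_lt_of_le (le_top : K ≤ ⊤) with e | hlt
    · exact ⟨0, fun _ => K, rfl, e, fun i hi => absurd hi (Nat.not_lt_zero i)⟩
    have hT : 0 < V.a ⊥ ⊤ := hS.pos
    have hapos : ∀ z, K < z → 0 < V.a K z := by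
      intro z hz
      refine (V.a_nonneg hz.le).lt_of_ne' fun h0 => hstrict K z hz ?_
      have h := hS.nn_le (z := z) bot_le le_top
      rw [← V.D_step hK, D, show alpha d (V.q K z) = 0 from h0, zero_smul, zero_sub, ← smul_neg,
        nn_smul_iff (show 0 < alpha d (V.q ⊥ ⊤) from hT)] at h
      exact eq_zero_of_nn_neg (V.nn_q hz.le) h
    have hex : ∃ m : ℕ, ∃ M, K < M ∧ V.SameSlope M ∧ V.a K M = m := by
      obtain ⟨m, hm⟩ := V.exists_nat hlt.le
      exact ⟨m, ⊤, hlt, V.sameSlope_top, hm⟩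
    obtain ⟨M, hKM, hM, hMn⟩ := Nat.find_spec hex
    have hKM0 : D d (V.q K M) (V.q ⊥ ⊤) = 0 := by rw [V.D_step hK]; exact hM
    have hst : V.St K M := by
      refine ⟨hKM, hapos M hKM, fun z hz hzM => ⟨hapos z hz, ?_⟩⟩
      have h := hS.nn_le (z := z) bot_le le_top
      rw [← V.D_step hK] at h
      have hp : Pos (D d (V.q K z) (V.q ⊥ ⊤)) := by
        refine (nn_iff.1 h).resolve_left fun e0 => ?_
        obtain ⟨m, hm⟩ := V.exists_nat hz.le
        have hz' : V.SameSlope z := by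
          have e0' := e0; rw [V.D_step hK] at e0'; exact e0'
        have hle : V.a K M ≤ V.a K z := by
          rw [hMn, hm]; exact_mod_cast Nat.find_min' hex ⟨z, hz, hz', hm⟩
        have ha : V.a z M = 0 := by
          linarith [V.a_add K z M, V.a_nonneg hzM.le]
        refine hstrict z M hzM ?_
        have e1 : D d (V.q z M) (V.q ⊥ ⊤) = 0 := by rw [V.D_step hz']; exact hM
        rw [D, show alpha d (V.q z M) = 0 from ha, zero_smul, zero_sub, neg_eq_zero] at e1
        exact (smul_eq_zero.1 e1).resolve_left hT.ne'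
      refine pos_D_trans_left d hT (hapos z hz).le (hapos M hKM) hp ?_
      rw [← D_neg d, hKM0, neg_zero]; exact nn_zero
    obtain ⟨n, f, hf0, hfn, hf⟩ := ih M hKM hM
    refine ⟨n + 1, fun i => Nat.casesOn i K f, rfl, hfn, fun i hi => ?_⟩
    rcases i with _ | i
    · show V.St K (f 0) ∧ D d (V.q K (f 0)) (V.q ⊥ ⊤) = 0
      rw [hf0]
      exact ⟨hst, hKM0⟩
    · exact hf i (by omega)

end Val

end Groth.Agent.StabLib
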