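/-
Additive polynomial invariants on abelian categories and the lattice of tested subobjects.
-/
import Groth.Agent.StabLib.Chain
import Groth.Agent.AbJH.Basic

set_option autoImplicit false
set_option linter.style.haveILetI false
set_option backward.isDefEq.respectTransparency false
set_option backward.isDefEq.respectTransparency.types false

universe v u

open StabCat CategoryTheory CategoryTheory.Limits
open scoped Polynomial

namespace Groth.Agent.StabLib

lemma natDegree_le_of_nn {P Q : ℚ[X]} (hP : Nn P) (hQ : Nn Q) :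
    P.natDegree ≤ (P + Q).natDegree := by
  rcases nn_iff.1 hP with rfl | hP'
  · simp
  by_contra hc
  push Not at hc
  have h0 := Polynomial.coeff_eq_zero_of_natDegree_lt hc
  rw [Polynomial.coeff_add] at h0
  have hPl : 0 < P.coeff P.natDegree := hP'
  have hQd : Q.natDegree ≤ P.natDegree := by
    have h := Polynomial.natDegree_sub_le (P + Q) P
    rw [add_sub_cancel_left] at h
    omega
  have : 0 ≤ Q.coeff P.natDegree := by
    rcases hQd.lt_or_eq with h | h
    · rw [Polynomial.coeff_eq_zero_of_natDegree_lt h]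
    · rw [← h]; exact hQ
  linarith

/-- An additive, positive polynomial invariant on a class of objects of an abelian category. -/
structure Inv (C : Type u) [Category.{v} C] [Abelian C] where
  /-- the tested objects -/
  ok : C → Prop
  ok_iso : ∀ {A B : C}, (A ≅ B) → ok A → ok B
  ok_kernel : ∀ {A B : C} (f : A ⟶ B), ok A → ok B → ok (kernel f)
  ok_cokernel : ∀ {A B : C} (f : A ⟶ B), ok A → ok B → ok (cokernel f)
  ok_biprod : ∀ {A B : C}, ok A → ok B → ok (A ⊞ B)
  /-- the invariant -/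
  hp : C → ℚ[X]
  hp_add : ∀ {S : ShortComplex C}, S.ShortExact → ok S.X₁ → ok S.X₂ → ok S.X₃ →
    hp S.X₂ = hp S.X₁ + hp S.X₃
  hp_pos : ∀ {A : C}, ok A → ¬ IsZero A → Pos (hp A)
  hp_int : ∀ {A : C}, ok A → ∀ d : ℕ, (hp A).natDegree ≤ d → ∃ n : ℤ, alpha d (hp A) = n
  acc : ∀ {E : C}, ok E → ∀ F : ℕ →o Subobject E, (∀ n, ok (F n : C)) →
    ∃ n, ∀ m, n ≤ m → F m = F n

variable {C : Type u} [Category.{v} C] [Abelian C]

namespace Inv

variable (I : Inv C)

lemma ok_zero {A : C} (hA : I.ok A) {Z : C} (hZ : IsZero Z) : I.ok Z :=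
  I.ok_iso ((isZero_cokernel_of_epi (𝟙 A)).iso hZ) (I.ok_cokernel (𝟙 A) hA hA)

lemma hp_zero {A : C} (hA : IsZero A) (h : I.ok A) : I.hp A = 0 := by
  have hS : (ShortComplex.mk (𝟙 A) (0 : A ⟶ A) comp_zero).ShortExact :=
    { exact := ShortComplex.exact_of_isZero_X₂ _ hA
      mono_f := inferInstanceAs (Mono (𝟙 A))
      epi_g := hA.epi (0 : A ⟶ A) }
  simpa using I.hp_add hS h h h

lemma nn_hp {A : C} (hA : I.ok A) : Nn (I.hp A) := by
  by_cases h : IsZero A
  · rw [I.hp_zero h hA]; exact nn_zero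
  · exact (I.hp_pos hA h).nn

lemma hp_eq_zero_iff {A : C} (hA : I.ok A) : I.hp A = 0 ↔ IsZero A :=
  ⟨fun h => by_contra fun hn => (I.hp_pos hA hn).ne_zero h, fun h => I.hp_zero h hA⟩

lemma hp_cokernel {A B : C} (f : A ⟶ B) [Mono f] (hA : I.ok A) (hB : I.ok B) :
    I.hp B = I.hp A + I.hp (cokernel f) :=
  I.hp_add (S := ShortComplex.mk f (cokernel.π f) (cokernel.condition f))
    { exact := ShortComplex.exact_cokernel f
      mono_f := ‹Mono f›
      epi_g := inferInstanceAs (Epi (cokernel.π f)) } hA hB (I.ok_cokernel f hA hB)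

lemma hp_kernel {A B : C} (f : A ⟶ B) [Epi f] (hA : I.ok A) (hB : I.ok B) :
    I.hp A = I.hp (kernel f) + I.hp B :=
  I.hp_add (S := ShortComplex.mk (kernel.ι f) f (kernel.condition f))
    { exact := ShortComplex.exact_kernel f
      mono_f := inferInstanceAs (Mono (kernel.ι f))
      epi_g := ‹Epi f› } (I.ok_kernel f hA hB) hA hB

lemma hp_iso {A B : C} (e : A ≅ B) (hA : I.ok A) : I.hp A = I.hp B := by
  have h := I.hp_cokernel e.hom hA (I.ok_iso e hA)
  rw [I.hp_zero (isZero_cokernel_of_epi _) (I.ok_cokernel _ hA (I.ok_iso e hA)), add_zero] at h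
  exact h.symm

lemma deg_le_of_mono {A B : C} (f : A ⟶ B) [Mono f] (hA : I.ok A) (hB : I.ok B) :
    (I.hp A).natDegree ≤ (I.hp B).natDegree := by
  rw [I.hp_cokernel f hA hB]
  exact natDegree_le_of_nn (I.nn_hp hA) (I.nn_hp (I.ok_cokernel f hA hB))

variable {E : C} (hE : I.ok E)
include hE

lemma ok_imageSubobject {A : C} (f : A ⟶ E) (hA : I.ok A) :
    I.ok (imageSubobject f : C) :=
  I.ok_iso (Abelian.imageIsoImage f ≪≫ (imageSubobjectIso f).symm)
    (I.ok_kernel _ hE (I.ok_cokernel f hA hE))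

omit hE in
lemma sup_eq_image (x y : Subobject E) :
    x ⊔ y = imageSubobject (biprod.desc x.arrow y.arrow) := by
  refine le_antisymm (sup_le ?_ ?_) ?_
  · exact Subobject.le_of_comm (biprod.inl ≫ factorThruImageSubobject _) (by simp)
  · exact Subobject.le_of_comm (biprod.inr ≫ factorThruImageSubobject _) (by simp)
  · refine imageSubobject_le _ (biprod.desc (Subobject.ofLE x (x ⊔ y) le_sup_left)
      (Subobject.ofLE y (x ⊔ y) le_sup_right)) ?_
    apply biprod.hom_ext' <;> simp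

lemma ok_sup {x y : Subobject E} (hx : I.ok (x : C)) (hy : I.ok (y : C)) :
    I.ok ((x ⊔ y : Subobject E) : C) := by
  rw [sup_eq_image]
  exact I.ok_imageSubobject hE _ (I.ok_biprod hx hy)

omit hE in
lemma inf_eq_mk (x y : Subobject E) :
    x ⊓ y = Subobject.mk (kernel.ι (x.arrow ≫ cokernel.π y.arrow) ≫ x.arrow) := by
  refine le_antisymm ?_ (le_inf ?_ ?_)
  · refine Subobject.le_mk_of_comm (kernel.lift _ (Subobject.ofLE (x ⊓ y) x inf_le_left) ?_) ?_
    · rw [← Category.assoc, Subobject.ofLE_arrow,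
        ← Subobject.ofLE_arrow (inf_le_right : x ⊓ y ≤ y), Category.assoc, cokernel.condition,
        comp_zero]
    · rw [kernel.lift_ι_assoc, Subobject.ofLE_arrow]
  · exact Subobject.mk_le_of_comm (kernel.ι _) rfl
  · exact Subobject.mk_le_of_comm (Abelian.monoLift y.arrow
      (kernel.ι (x.arrow ≫ cokernel.π y.arrow) ≫ x.arrow)
      (by rw [Category.assoc, kernel.condition])) (Abelian.monoLift_comp _ _ _)

lemma ok_inf {x y : Subobject E} (hx : I.ok (x : C)) (hy : I.ok (y : C)) :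
    I.ok ((x ⊓ y : Subobject E) : C) := by
  rw [inf_eq_mk]
  exact I.ok_iso (Subobject.underlyingIso _).symm
    (I.ok_kernel _ hx (I.ok_cokernel _ hy hE))

end Inv

/-- The tested subobjects. -/
def OkSub (I : Inv C) (E : C) (_hE : I.ok E) : Type max u v :=
  {x : Subobject E // I.ok (x : C)}

namespace OkSub

variable {I : Inv C} {E : C} {hE : I.ok E}

noncomputable instance : Lattice (OkSub I E hE) :=
  Subtype.lattice (fun _ _ hx hy => I.ok_sup hE hx hy) fun _ _ hx hy => I.ok_inf hE hx hy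

noncomputable instance : OrderBot (OkSub I E hE) :=
  Subtype.orderBot (I.ok_zero hE ((isZero_zero C).of_iso Subobject.botCoeIsoZero))

noncomputable instance : OrderTop (OkSub I E hE) :=
  Subtype.orderTop (I.ok_iso (asIso (⊤ : Subobject E).arrow).symm hE)

noncomputable instance : BoundedOrder (OkSub I E hE) := BoundedOrder.mk

lemma coe_bot : (⊥ : OkSub I E hE).1 = ⊥ := rfl
lemma coe_top : (⊤ : OkSub I E hE).1 = ⊤ := rfl

instance : WellFoundedGT (OkSub I E hE) := by
  rw [wellFoundedGT_iff_monotone_chain_condition]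
  intro a
  obtain ⟨n, hn⟩ := I.acc hE ⟨fun i => (a i).1, fun i j h => a.monotone h⟩ fun i => (a i).2
  exact ⟨n, fun m hm => Subtype.ext (hn m hm).symm⟩

/-- The quotient of two tested subobjects. -/
noncomputable def quo (x y : OkSub I E hE) (h : x ≤ y) : C := AbJH.quo x.1 y.1 h

lemma ok_quo {x y : OkSub I E hE} (h : x ≤ y) : I.ok (quo x y h) :=
  I.ok_cokernel _ x.2 y.2

lemma hp_quo {x y : OkSub I E hE} (h : x ≤ y) :
    I.hp (quo x y h) = I.hp (y.1 : C) - I.hp (x.1 : C) := by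
  rw [eq_sub_iff_add_eq, add_comm]
  exact (I.hp_cokernel (Subobject.ofLE x.1 y.1 h) x.2 y.2).symm

lemma hp_top : I.hp ((⊤ : OkSub I E hE).1 : C) = I.hp E :=
  I.hp_iso (asIso (⊤ : Subobject E).arrow) (⊤ : OkSub I E hE).2

lemma hp_bot : I.hp ((⊥ : OkSub I E hE).1 : C) = 0 :=
  I.hp_zero ((isZero_zero C).of_iso Subobject.botCoeIsoZero) (⊥ : OkSub I E hE).2

variable (hE)

/-- The valuation of the lattice of tested subobjects. -/
noncomputable def val (d : ℕ) (hd : (I.hp E).natDegree ≤ d) : Val (OkSub I E hE) d where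
  v x := I.hp (x.1 : C)
  modular x y := by
    have h1 := hp_quo (x := x ⊓ y) (y := x) inf_le_left
    have h2 := hp_quo (x := y) (y := x ⊔ y) le_sup_right
    have e : I.hp (quo (x ⊓ y) x inf_le_left) = I.hp (quo y (x ⊔ y) le_sup_right) :=
      I.hp_iso (AbJH.secondIso x.1 y.1) (ok_quo _)
    rw [h1, h2] at e
    linear_combination -e
  mono x y h := hp_quo h ▸ I.nn_hp (ok_quo h)
  deg x := (I.deg_le_of_mono x.1.arrow x.2 hE).trans hd
  int x := I.hp_int x.2 d ((I.deg_le_of_mono x.1.arrow x.2 hE).trans hd)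

variable {hE} {d : ℕ} {hd : (I.hp E).natDegree ≤ d}

lemma q_eq {x y : OkSub I E hE} (h : x ≤ y) : (val hE d hd).q x y = I.hp (quo x y h) :=
  (hp_quo h).symm

lemma q_bot (x : OkSub I E hE) : (val hE d hd).q ⊥ x = I.hp (x.1 : C) := by
  show I.hp (x.1 : C) - I.hp _ = _
  rw [hp_bot, sub_zero]

lemma q_top : (val hE d hd).q ⊥ ⊤ = I.hp E := by rw [q_bot, hp_top]

lemma q_ne_zero {x y : OkSub I E hE} (h : x < y) : (val hE d hd).q x y ≠ 0 := by
  rw [q_eq h.le]
  intro e
  have hz : IsZero (quo x y h.le) := (I.hp_eq_zero_iff (ok_quo _)).1 e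
  haveI : Epi (Subobject.ofLE x.1 y.1 h.le) :=
    Abelian.epi_of_cokernel_π_eq_zero _ (hz.eq_of_tgt _ _)
  exact h.ne (Subtype.ext (AbJH.isIso_of_epi_ofLE h.le))

/-- Subobjects of a quotient come from intermediate subobjects. -/
lemma exists_of_mono {x y : OkSub I E hE} (h : x ≤ y) {G : C} (ι : G ⟶ quo x y h) [Mono ι]
    (hG : I.ok G) :
    ∃ N : OkSub I E hE, x ≤ N ∧ N ≤ y ∧ (val hE d hd).q x N = I.hp G ∧
      (x = N ↔ IsZero G) ∧ (N = y ↔ IsIso ι) := by
  let π : (y.1 : C) ⟶ quo x y h := cokernel.π (Subobject.ofLE x.1 y.1 h)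
  let g := π ≫ cokernel.π ι
  haveI : Epi π := inferInstanceAs (Epi (cokernel.π _))
  haveI : Epi g := epi_comp _ _
  have hok : I.ok (Subobject.mk (kernel.ι g ≫ y.1.arrow) : C) :=
    I.ok_iso (Subobject.underlyingIso _).symm
      (I.ok_kernel g y.2 (I.ok_cokernel ι hG (ok_quo h)))
  let N : OkSub I E hE := ⟨_, hok⟩
  have hxN : x ≤ N := Subobject.le_mk_of_comm (kernel.lift g (Subobject.ofLE x.1 y.1 h) (by
      show Subobject.ofLE x.1 y.1 h ≫ cokernel.π (Subobject.ofLE x.1 y.1 h) ≫ cokernel.π ι = 0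
      rw [cokernel.condition_assoc, zero_comp]))
    (by rw [kernel.lift_ι_assoc, Subobject.ofLE_arrow])
  have hNy : N ≤ y := Subobject.mk_le_of_comm (kernel.ι g) rfl
  have hc : I.ok (cokernel ι) := I.ok_cokernel ι hG (ok_quo h)
  have e1 : I.hp (y.1 : C) = I.hp (N.1 : C) + I.hp (cokernel ι) := by
    rw [I.hp_kernel g y.2 hc]
    congr 1
    exact (I.hp_iso (Subobject.underlyingIso _) hok).symm
  have e2 : I.hp (quo x y h) = I.hp G + I.hp (cokernel ι) :=
    I.hp_cokernel ι hG (ok_quo h)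
  have hq : (val hE d hd).q x N = I.hp G := by
    show I.hp (N.1 : C) - I.hp (x.1 : C) = _
    rw [hp_quo h] at e2
    linear_combination e2 - e1
  refine ⟨N, hxN, hNy, hq, ⟨fun e => (I.hp_eq_zero_iff hG).1 ?_, fun hz => ?_⟩,
    ⟨fun e => ?_, fun hiso => ?_⟩⟩
  · rw [← hq, ← e, Val.q_self]
  · by_contra hne
    exact q_ne_zero (hd := hd) (hxN.lt_of_ne hne) (hq.trans ((I.hp_eq_zero_iff hG).2 hz))
  · have hz : IsZero (cokernel ι) := by
      refine (I.hp_eq_zero_iff hc).1 ?_
      rw [e] at e1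
      linear_combination -e1
    haveI : Epi ι := Abelian.epi_of_cokernel_π_eq_zero _ (hz.eq_of_tgt _ _)
    exact isIso_of_mono_of_epi ι
  · by_contra hne
    refine q_ne_zero (hd := hd) (hNy.lt_of_ne hne) ?_
    show I.hp (y.1 : C) - I.hp (N.1 : C) = 0
    rw [e1, I.hp_zero (isZero_cokernel_of_epi ι) hc]
    simp

/-- Intermediate subobjects give subobjects of the quotient. -/
lemma exists_mono_of_le {x z y : OkSub I E hE} (hxz : x ≤ z) (hzy : z ≤ y) :
    ∃ m : quo x z hxz ⟶ quo x y (hxz.trans hzy), Mono m := by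
  refine ⟨cokernel.map _ _ (𝟙 _) (Subobject.ofLE z.1 y.1 hzy) (by simp), ?_⟩
  refine Preadditive.mono_of_cancel_zero _ fun {T} t ht => ?_
  obtain ⟨T', π, hπ, s, hs⟩ :=
    surjective_up_to_refinements_of_epi (cokernel.π (Subobject.ofLE x.1 z.1 hxz)) t
  have h0 : (s ≫ Subobject.ofLE z.1 y.1 hzy) ≫
      cokernel.π (Subobject.ofLE x.1 y.1 (hxz.trans hzy)) = 0 := by
    have h1 := congrArg (π ≫ ·) ht
    simp only [comp_zero] at h1
    rw [← Category.assoc, hs, Category.assoc, cokernel.π_desc] at h1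
    rw [Category.assoc]
    exact h1
  have hs' : s = Abelian.monoLift _ _ h0 ≫ Subobject.ofLE x.1 z.1 hxz := by
    rw [← cancel_mono (Subobject.ofLE z.1 y.1 hzy), Category.assoc, Subobject.ofLE_comp_ofLE,
      Abelian.monoLift_comp]
  rw [← cancel_epi π, hs, hs', Category.assoc, cokernel.condition]
  simp

end OkSub

end Groth.Agent.StabLib
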