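/-
Semistable and stable objects for a polynomial invariant.
-/
import Groth.Agent.StabLib.Obj

set_option autoImplicit false
set_option linter.style.haveILetI false
set_option backward.isDefEq.respectTransparency false
set_option backward.isDefEq.respectTransparency.types false

universe v u

open StabCat CategoryTheory CategoryTheory.Limits
open scoped Polynomial

namespace Groth.Agent.StabLib

variable {C : Type u} [Category.{v} C] [Abelian C]

namespace Inv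

variable (I : Inv C) (d : ℕ)

/-- Pure of dimension `d`. -/
def Pure (X : C) : Prop :=
  ∀ (F : C) (ι : F ⟶ X), Mono ι → I.ok F → ¬ IsZero F → (I.hp F).natDegree = d

/-- Semistable. -/
def SSo (X : C) : Prop :=
  I.ok X ∧ ¬ IsZero X ∧ I.Pure d X ∧ ∀ (F : C) (ι : F ⟶ X), Mono ι → I.ok F → ¬ IsZero F →
    ¬ IsIso ι → Nn (D d (I.hp F) (I.hp X))

/-- Stable. -/
def Sto (X : C) : Prop :=
  I.ok X ∧ ¬ IsZero X ∧ I.Pure d X ∧ ∀ (F : C) (ι : F ⟶ X), Mono ι → I.ok F → ¬ IsZero F →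
    ¬ IsIso ι → Pos (D d (I.hp F) (I.hp X))

variable {I d}

lemma Pure.deg_le {X : C} (h : I.Pure d X) (hX : I.ok X) : (I.hp X).natDegree ≤ d := by
  by_cases hz : IsZero X
  · rw [I.hp_zero hz hX]; simp
  · exact (h X (𝟙 X) inferInstance hX hz).le

lemma Pure.alpha_pos {X : C} (h : I.Pure d X) {F : C} (ι : F ⟶ X) [Mono ι] (hF : I.ok F)
    (h0 : ¬ IsZero F) : 0 < alpha d (I.hp F) := by
  have hd := h F ι inferInstance hF h0
  exact (alpha_pos_iff d (I.nn_hp hF) hd.le).2 ⟨(I.hp_pos hF h0).ne_zero, hd⟩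

lemma Pure.of_mono {X Y : C} (h : I.Pure d Y) (f : X ⟶ Y) [Mono f] : I.Pure d X :=
  fun F ι hι hF h0 => h F (ι ≫ f) (mono_comp ι f) hF h0

lemma SSo.deg {X : C} (h : I.SSo d X) : (I.hp X).natDegree ≤ d := h.2.2.1.deg_le h.1

lemma Sto.ss {X : C} (h : I.Sto d X) : I.SSo d X :=
  ⟨h.1, h.2.1, h.2.2.1, fun F ι hι hF h0 hi => (h.2.2.2 F ι hι hF h0 hi).nn⟩

lemma SSo.alpha_pos {X : C} (h : I.SSo d X) : 0 < alpha d (I.hp X) :=
  h.2.2.1.alpha_pos (𝟙 X) h.1 h.2.1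

lemma SSo.nn_sub {X : C} (h : I.SSo d X) {F : C} (ι : F ⟶ X) [Mono ι] (hF : I.ok F) :
    Nn (D d (I.hp F) (I.hp X)) := by
  by_cases h0 : IsZero F
  · rw [I.hp_zero h0 hF, D_zero_left]; exact nn_zero
  by_cases hi : IsIso ι
  · rw [I.hp_iso (asIso ι) hF, D_self]; exact nn_zero
  exact h.2.2.2 F ι inferInstance hF h0 hi

end Inv

namespace OkSub

variable {I : Inv C} {E : C} {hE : I.ok E} {d : ℕ} {hd : (I.hp E).natDegree ≤ d}

local notation "V" => val hE d hd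

lemma not_isZero_quo {x y : OkSub I E hE} (h : x < y) (hd : (I.hp E).natDegree ≤ d) :
    ¬ IsZero (quo x y h.le) := fun hz =>
  q_ne_zero (hd := hd) h (by rw [q_eq h.le]; exact I.hp_zero hz (ok_quo _))

lemma pure_quo_iff {x y : OkSub I E hE} (h : x ≤ y) :
    I.Pure d (quo x y h) ↔ ∀ z, x < z → z ≤ y → 0 < (val hE d hd).a x z := by
  constructor
  · intro hp z hz hzy
    obtain ⟨m, hm⟩ := exists_mono_of_le hz.le hzy
    have := hp.alpha_pos m (ok_quo _) (not_isZero_quo hz hd)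
    rwa [Val.a, q_eq hz.le]
  · intro hp G ι hι hG h0
    obtain ⟨N, hxN, hNy, hq, hz, -⟩ := exists_of_mono (hd := hd) h ι hG
    have hpos := hp N (hxN.lt_of_ne fun e => h0 (hz.1 e)) hNy
    rw [Val.a, hq] at hpos
    exact ((alpha_pos_iff d (I.nn_hp hG) (hq ▸ Val.deg_q _ _ _)).1 hpos).2

lemma ss_quo_iff {x y : OkSub I E hE} (h : x ≤ y) :
    I.SSo d (quo x y h) ↔ (val hE d hd).SS x y := by
  constructor
  · intro hs
    have hlt : x < y := h.lt_of_ne fun e => hs.2.1 ((I.hp_eq_zero_iff (ok_quo _)).1 (by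
      rw [← q_eq (hd := hd) h, e, Val.q_self]))
    refine ⟨hlt, fun z hz hzy => ⟨(pure_quo_iff h).1 hs.2.2.1 z hz hzy, ?_⟩⟩
    obtain ⟨m, hm⟩ := exists_mono_of_le hz.le hzy
    rw [q_eq hz.le, q_eq h]
    exact hs.nn_sub m (ok_quo _)
  · intro hs
    refine ⟨ok_quo _, not_isZero_quo hs.lt hd, (pure_quo_iff h).2 fun z hz hzy => (hs.2 z hz hzy).1,
      fun G ι hι hG h0 _ => ?_⟩
    obtain ⟨N, hxN, hNy, hq, hz, -⟩ := exists_of_mono (hd := hd) h ι hG
    rw [← hq, ← q_eq (hd := hd) h]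
    exact hs.nn_le hxN hNy

lemma st_quo_iff {x y : OkSub I E hE} (h : x ≤ y) :
    I.Sto d (quo x y h) ↔ (val hE d hd).St x y := by
  constructor
  · intro hs
    have hss := (ss_quo_iff (hd := hd) h).1 hs.ss
    refine ⟨hss.lt, hss.pos, fun z hz hzy => ⟨(hss.2 z hz hzy.le).1, ?_⟩⟩
    obtain ⟨m, hm⟩ := exists_mono_of_le hz.le hzy.le
    rw [q_eq hz.le, q_eq h]
    refine hs.2.2.2 _ m hm (ok_quo _) (not_isZero_quo hz hd) fun hi => ?_
    have e := I.hp_iso (@asIso _ _ _ _ m hi) (ok_quo _)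
    rw [← q_eq (hd := hd), ← q_eq (hd := hd), ← Val.q_add (val hE d hd) x z y,
      left_eq_add] at e
    exact q_ne_zero hzy e
  · intro hs
    have hss := (ss_quo_iff (hd := hd) h).2 hs.ss
    refine ⟨hss.1, hss.2.1, hss.2.2.1, fun G ι hι hG h0 hi => ?_⟩
    obtain ⟨N, hxN, hNy, hq, hz, hy⟩ := exists_of_mono (hd := hd) h ι hG
    rw [← hq, ← q_eq (hd := hd) h]
    exact (hs.2.2 N (hxN.lt_of_ne fun e => h0 (hz.1 e))
      (hNy.lt_of_ne fun e => hi (hy.1 e))).2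

variable (hE) in
/-- A tested subobject as an element of the lattice. -/
noncomputable def mk {F : C} (ι : F ⟶ E) [Mono ι] (hF : I.ok F) : OkSub I E hE :=
  ⟨Subobject.mk ι, I.ok_iso (Subobject.underlyingIso ι).symm hF⟩

lemma q_mk {F : C} (ι : F ⟶ E) [Mono ι] (hF : I.ok F) :
    (val hE d hd).q ⊥ (mk hE ι hF) = I.hp F := by
  rw [q_bot]; exact I.hp_iso (Subobject.underlyingIso ι) (mk hE ι hF).2

lemma bot_lt_mk {F : C} (ι : F ⟶ E) [Mono ι] (hF : I.ok F) (h0 : ¬ IsZero F)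
    (hd : (I.hp E).natDegree ≤ d) : ⊥ < mk hE ι hF := by
  refine bot_le.lt_of_ne fun e => (I.hp_pos hF h0).ne_zero ?_
  rw [← q_mk (hE := hE) (hd := hd) ι hF, ← e, Val.q_self]

lemma mk_lt_top {F : C} (ι : F ⟶ E) [Mono ι] (hF : I.ok F) (hi : ¬ IsIso ι) :
    mk hE ι hF < ⊤ := by
  refine le_top.lt_of_ne fun e => hi ?_
  rw [Subobject.isIso_iff_mk_eq_top]
  exact congrArg Subtype.val e

lemma not_isZero_coe {z : OkSub I E hE} (hz : ⊥ < z) (hd : (I.hp E).natDegree ≤ d) :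
    ¬ IsZero (z.1 : C) := fun h0 => q_ne_zero (hd := hd) hz (by rw [q_bot, I.hp_zero h0 z.2])

lemma not_isIso_arrow {z : OkSub I E hE} (hz : z < ⊤) : ¬ IsIso z.1.arrow := fun hi => by
  haveI := hi
  exact hz.ne (Subtype.ext (Subobject.eq_top_of_isIso_arrow z.1))

lemma pure_iff : I.Pure d E ↔ (val hE d hd).PureAbove ⊥ := by
  constructor
  · intro hp z hz
    rw [Val.a, q_bot]
    exact hp.alpha_pos z.1.arrow z.2 (not_isZero_coe hz hd)
  · intro hp F ι hι hF h0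
    have := hp _ (bot_lt_mk ι hF h0 hd)
    rw [Val.a, q_mk] at this
    exact ((alpha_pos_iff d (I.nn_hp hF) ((I.deg_le_of_mono ι hF hE).trans hd)).1 this).2

lemma ss_iff : I.SSo d E ↔ (val hE d hd).SS ⊥ ⊤ := by
  constructor
  · intro hs
    refine ⟨bot_le.lt_of_ne fun e => hs.2.1 ((I.hp_eq_zero_iff hE).1 ?_), fun z hz _ =>
      ⟨(pure_iff (hE := hE) (hd := hd)).1 hs.2.2.1 z hz, ?_⟩⟩
    · rw [← q_top (hE := hE) (hd := hd), ← e, Val.q_self]
    · rw [q_bot, q_top]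
      exact hs.nn_sub z.1.arrow z.2
  · intro hs
    refine ⟨hE, fun h0 => q_ne_zero (hd := hd) hs.lt (by rw [q_top, I.hp_zero h0 hE]),
      (pure_iff (hE := hE) (hd := hd)).2 fun z hz => (hs.2 z hz le_top).1, fun F ι hι hF h0 _ => ?_⟩
    rw [← q_mk (hE := hE) (hd := hd) ι hF, ← q_top (hE := hE) (hd := hd)]
    exact hs.nn_le bot_le le_top

lemma st_iff : I.Sto d E ↔ (val hE d hd).St ⊥ ⊤ := by
  constructor
  · intro hs
    have hss := (ss_iff (hE := hE) (hd := hd)).1 hs.ss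
    refine ⟨hss.lt, hss.pos, fun z hz hzt => ⟨(hss.2 z hz hzt.le).1, ?_⟩⟩
    rw [q_bot, q_top]
    exact hs.2.2.2 _ z.1.arrow inferInstance z.2 (not_isZero_coe hz hd) (not_isIso_arrow hzt)
  · intro hs
    have hss := (ss_iff (hE := hE) (hd := hd)).2 hs.ss
    refine ⟨hss.1, hss.2.1, hss.2.2.1, fun F ι hι hF h0 hi => ?_⟩
    rw [← q_mk (hE := hE) (hd := hd) ι hF, ← q_top (hE := hE) (hd := hd)]
    exact (hs.2.2 _ (bot_lt_mk ι hF h0 hd) (mk_lt_top ι hF hi)).2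

end OkSub

namespace Inv

variable {I : Inv C} {d : ℕ}

section morphism

variable {X Y : C} (hX : I.ok X) (hY : I.ok Y) (φ : X ⟶ Y)
include hX hY

lemma ok_image : I.ok (Abelian.image φ) := I.ok_kernel _ hY (I.ok_cokernel φ hX hY)

lemma hp_image : I.hp X = I.hp (kernel φ) + I.hp (Abelian.image φ) := by
  rw [I.hp_kernel (Abelian.factorThruImage φ) hX (ok_image hX hY φ)]
  congr 1
  have e : kernel φ ≅ kernel (Abelian.factorThruImage φ) :=
    kernelIsoOfEq (Abelian.image.fac φ).symm ≪≫ kernelCompMono _ _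
  exact (I.hp_iso e (I.ok_kernel φ hX hY)).symm

lemma not_isZero_image (hφ : φ ≠ 0) : ¬ IsZero (Abelian.image φ) := fun h => hφ (by
  rw [← Abelian.image.fac φ, h.eq_of_src (Abelian.image.ι φ) 0, comp_zero])

end morphism

/-- Semistable objects have all quotients above them. -/
lemma SSo.nn_image {X Y : C} (hX : I.SSo d X) (hY : I.ok Y) (φ : X ⟶ Y) :
    Nn (D d (I.hp X) (I.hp (Abelian.image φ))) := by
  rw [eq_sub_of_add_eq' (hp_image hX.1 hY φ).symm, D_sub_right, D_self, zero_sub, D_neg]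
  exact hX.nn_sub (kernel.ι φ) (I.ok_kernel φ hX.1 hY)

theorem hom_eq_zero {X Y : C} (hX : I.SSo d X) (hY : I.SSo d Y)
    (hlt : Pos (D d (I.hp Y) (I.hp X))) (φ : X ⟶ Y) : φ = 0 := by
  by_contra hφ
  have hi := ok_image hX.1 hY.1 φ
  have hpos := hY.2.2.1.alpha_pos (Abelian.image.ι φ) hi (not_isZero_image hX.1 hY.1 φ hφ)
  exact not_pos_D d (nn_D_trans d hpos hX.alpha_pos.le hY.alpha_pos.le (hX.nn_image hY.1 φ)
    (hY.nn_sub (Abelian.image.ι φ) hi)) hlt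

theorem mono_of_ne_zero {X Y : C} (hX : I.Sto d X) (hY : I.SSo d Y)
    (heq : D d (I.hp X) (I.hp Y) = 0) (φ : X ⟶ Y) (hφ : φ ≠ 0) : Mono φ := by
  refine Preadditive.mono_of_isZero_kernel φ ?_
  by_contra h0
  have hK := I.ok_kernel φ hX.1 hY.1
  have hi := ok_image hX.1 hY.1 φ
  have hnk : ¬ IsIso (kernel.ι φ) := fun h => hφ (by
    haveI := h
    rw [← cancel_epi (kernel.ι φ), kernel.condition, comp_zero])
  have h1 : Pos (D d (I.hp X) (I.hp (Abelian.image φ))) := by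
    rw [eq_sub_of_add_eq' (hp_image hX.1 hY.1 φ).symm, D_sub_right, D_self, zero_sub, D_neg]
    exact hX.2.2.2 _ (kernel.ι φ) inferInstance hK h0 hnk
  have hpos := hY.2.2.1.alpha_pos (Abelian.image.ι φ) hi (not_isZero_image hX.1 hY.1 φ hφ)
  exact (pos_D_trans_left d hpos hX.ss.alpha_pos.le hY.alpha_pos h1
    (hY.nn_sub (Abelian.image.ι φ) hi)).ne_zero heq

theorem epi_of_ne_zero {X Y : C} (hX : I.SSo d X) (hY : I.Sto d Y)
    (heq : D d (I.hp X) (I.hp Y) = 0) (φ : X ⟶ Y) (hφ : φ ≠ 0) : Epi φ := by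
  by_cases hiso : IsIso (Abelian.image.ι φ)
  · haveI := hiso
    rw [← Abelian.image.fac φ]
    exact epi_comp _ _
  exfalso
  have hi := ok_image hX.1 hY.1 φ
  have hne := not_isZero_image hX.1 hY.1 φ hφ
  have hpos := hY.2.2.1.alpha_pos (Abelian.image.ι φ) hi hne
  exact (pos_D_trans_right d hpos hX.alpha_pos hY.ss.alpha_pos.le (hX.nn_image hY.1 φ)
    (hY.2.2.2 _ (Abelian.image.ι φ) inferInstance hi hne hiso)).ne_zero heq

theorem isIso_of_ne_zero {X Y : C} (hX : I.SSo d X) (hY : I.SSo d Y)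
    (hst : I.Sto d X ∨ I.Sto d Y) (heq : I.hp X = I.hp Y) (φ : X ⟶ Y) (hφ : φ ≠ 0) :
    IsIso φ := by
  have h0 : D d (I.hp X) (I.hp Y) = 0 := by rw [heq, D_self]
  rcases hst with h | h
  · haveI := mono_of_ne_zero h hY h0 φ hφ
    have e := I.hp_cokernel φ hX.1 hY.1
    rw [← heq, left_eq_add] at e
    have hz := (I.hp_eq_zero_iff (I.ok_cokernel φ hX.1 hY.1)).1 e
    haveI : Epi φ := Abelian.epi_of_cokernel_π_eq_zero _ (hz.eq_of_tgt _ _)
    exact isIso_of_mono_of_epi φ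
  · haveI := epi_of_ne_zero hX h h0 φ hφ
    have e := I.hp_kernel φ hX.1 hY.1
    rw [← heq, right_eq_add] at e
    have hz := (I.hp_eq_zero_iff (I.ok_kernel φ hX.1 hY.1)).1 e
    haveI : Mono φ := Preadditive.mono_of_isZero_kernel φ hz
    exact isIso_of_mono_of_epi φ

theorem pure_of_sub {X : C} (hX : I.ok X) (hdeg : (I.hp X).natDegree = d) (h0 : ¬ IsZero X)
    (h : ∀ (F : C) (ι : F ⟶ X), Mono ι → I.ok F → ¬ IsZero F → ¬ IsIso ι →
      Nn (D d (I.hp F) (I.hp X))) : I.Pure d X := by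
  intro F ι hι hF hF0
  have hFd : (I.hp F).natDegree ≤ d := hdeg ▸ I.deg_le_of_mono ι hF hX
  by_cases hi : IsIso ι
  · rw [I.hp_iso (@asIso _ _ _ _ ι hi) hF, hdeg]
  by_contra hne
  have ha : alpha d (I.hp F) = 0 := by
    rw [alpha, Polynomial.coeff_eq_zero_of_natDegree_lt (lt_of_le_of_ne hFd hne), mul_zero]
  have hpos : 0 < alpha d (I.hp X) :=
    (alpha_pos_iff d (I.nn_hp hX) hdeg.le).2 ⟨(I.hp_pos hX h0).ne_zero, hdeg⟩
  have hn := h F ι hι hF hF0 hi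
  rw [D, ha, zero_smul, zero_sub, ← smul_neg, nn_smul_iff hpos, nn_neg_iff] at hn
  exact hn (I.hp_pos hF hF0)

end Inv

end Groth.Agent.StabLib
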