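/-
Harder-Narasimhan and Jordan-Hölder filtrations for a polynomial invariant.
-/
import Groth.Agent.StabLib.Stab

set_option autoImplicit false
set_option linter.style.haveILetI false
set_option backward.isDefEq.respectTransparency false
set_option backward.isDefEq.respectTransparency.types false

universe v u

open StabCat CategoryTheory CategoryTheory.Limits
open scoped Polynomial

namespace Groth.Agent.StabLib

variable {C : Type u} [Category.{v} C] [Abelian C]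

namespace OkSub

variable {I : Inv C} {E : C} {hE : I.ok E}

/-- A chain of tested subobjects as a series. -/
noncomputable def toSeries (n : ℕ) (f : ℕ → OkSub I E hE) (h : ∀ i < n, f i < f (i + 1)) :
    LTSeries (Subobject E) where
  length := n
  toFun i := (f i).1
  step i := h i i.2

lemma toSeries_head (n : ℕ) (f : ℕ → OkSub I E hE) (h : ∀ i < n, f i < f (i + 1))
    (h0 : f 0 = ⊥) : (toSeries n f h).head = ⊥ := congrArg Subtype.val h0

lemma toSeries_last (n : ℕ) (f : ℕ → OkSub I E hE) (h : ∀ i < n, f i < f (i + 1))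
    (hn : f n = ⊤) : (toSeries n f h).last = ⊤ := congrArg Subtype.val hn

variable (hE) in
/-- A series with tested factors consists of tested subobjects. -/
lemma exists_lift (s : LTSeries (Subobject E)) (hlast : s.last = ⊤)
    (hf : ∀ i : Fin s.length, I.ok (factor s i)) :
    ∃ f : ℕ → OkSub I E hE, ∀ i : Fin (s.length + 1), (f i.1).1 = s i := by
  classical
  have hok : ∀ i : Fin (s.length + 1), I.ok (s i : C) := by
    intro i
    induction i using Fin.reverseInduction with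
    | last =>
      rw [show s (Fin.last s.length) = ⊤ from hlast]
      exact I.ok_iso (asIso (⊤ : Subobject E).arrow).symm hE
    | cast i ih =>
      exact I.ok_iso (asIso (Abelian.factorThruImage (Subobject.ofLE (s i.castSucc) (s i.succ)
        (le_of_lt (s.step i))))).symm (I.ok_kernel _ ih (hf i))
  let g : ℕ → OkSub I E hE := fun n =>
    if h : n < s.length + 1 then ⟨s ⟨n, h⟩, hok ⟨n, h⟩⟩ else ⊥
  refine ⟨g, fun i => ?_⟩
  have : g i.1 = ⟨s i, hok i⟩ := dif_pos i.2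
  rw [this]

lemma factor_eq (s : LTSeries (Subobject E)) (f : ℕ → OkSub I E hE)
    (hf : ∀ i : Fin (s.length + 1), (f i.1).1 = s i) (i : ℕ) (hi : i < s.length) :
    ∃ h : f i < f (i + 1), Nonempty (factor s ⟨i, hi⟩ ≅ quo (f i) (f (i + 1)) h.le) := by
  have e0 : (f i).1 = s (Fin.castSucc ⟨i, hi⟩) := hf (Fin.castSucc ⟨i, hi⟩)
  have e1 : (f (i + 1)).1 = s (Fin.succ ⟨i, hi⟩) := hf (Fin.succ ⟨i, hi⟩)
  have hlt : f i < f (i + 1) := by
    show (f i).1 < (f (i + 1)).1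
    rw [e0, e1]
    exact s.step ⟨i, hi⟩
  exact ⟨hlt, AbJH.nonempty_quo_congr e0.symm e1.symm _ _⟩

lemma eq_toSeries (s : LTSeries (Subobject E)) (n : ℕ) (f : ℕ → OkSub I E hE)
    (h : ∀ i < n, f i < f (i + 1)) (hn : s.length = n)
    (hs : ∀ i : Fin (s.length + 1), (f i.1).1 = s i) : s = toSeries n f h :=
  RelSeries.ext hn (funext fun i => (hs i).symm)

end OkSub

namespace Inv

variable (I : Inv C) (d : ℕ)

/-- A Harder-Narasimhan filtration. -/
def IsHNo {E : C} (s : LTSeries (Subobject E)) : Prop :=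
  s.head = ⊥ ∧ s.last = ⊤ ∧ (∀ i : Fin s.length, I.SSo d (factor s i)) ∧
    ∀ i j : Fin s.length, i.val + 1 = j.val →
      Pos (D d (I.hp (factor s j)) (I.hp (factor s i)))

/-- A Jordan-Hölder filtration. -/
def IsJHo {E : C} (s : LTSeries (Subobject E)) : Prop :=
  s.head = ⊥ ∧ s.last = ⊤ ∧
    ∀ i : Fin s.length, I.Sto d (factor s i) ∧ D d (I.hp (factor s i)) (I.hp E) = 0

variable {I d}

lemma ok_of_iso' {A B : C} (e : A ≅ B) (h : I.ok B) : I.ok A := I.ok_iso e.symm h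

lemma Pure.of_iso {A B : C} (e : A ≅ B) (h : I.Pure d B) : I.Pure d A := h.of_mono e.hom

lemma not_isIso_comp {A B X : C} (e : B ≅ X) {f : A ⟶ B} (h : ¬ IsIso f) :
    ¬ IsIso (f ≫ e.hom) := fun hi => h (IsIso.of_isIso_comp_right f e.hom)

lemma SSo.of_iso {A B : C} (e : A ≅ B) (h : I.SSo d B) : I.SSo d A :=
  ⟨ok_of_iso' e h.1, fun h0 => h.2.1 (h0.of_iso e.symm), h.2.2.1.of_iso e,
    fun F ι hι hF h0 hi => by
      rw [I.hp_iso e (ok_of_iso' e h.1)]
      exact h.2.2.2 F (ι ≫ e.hom) (mono_comp _ _) hF h0 (not_isIso_comp e hi)⟩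

lemma Sto.of_iso {A B : C} (e : A ≅ B) (h : I.Sto d B) : I.Sto d A :=
  ⟨ok_of_iso' e h.1, fun h0 => h.2.1 (h0.of_iso e.symm), h.2.2.1.of_iso e,
    fun F ι hι hF h0 hi => by
      rw [I.hp_iso e (ok_of_iso' e h.1)]
      exact h.2.2.2 F (ι ≫ e.hom) (mono_comp _ _) hF h0 (not_isIso_comp e hi)⟩

section filtrations

variable {E : C}

/-- The lattice chain of a Harder-Narasimhan filtration. -/
lemma IsHNo.exists_chain {s : LTSeries (Subobject E)} (hs : I.IsHNo d s) (hE : I.ok E)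
    (hd : (I.hp E).natDegree ≤ d) :
    ∃ f : ℕ → OkSub I E hE, (∀ i : Fin (s.length + 1), (f i.1).1 = s i) ∧
      (OkSub.val hE d hd).IsHN s.length f ∧ f 0 = ⊥ ∧ f s.length = ⊤ ∧
      ∀ (i : ℕ) (hi : i < s.length),
        (OkSub.val hE d hd).q (f i) (f (i + 1)) = I.hp (factor s ⟨i, hi⟩) := by
  obtain ⟨h0, hn, hss, hdec⟩ := hs
  obtain ⟨f, hf⟩ := OkSub.exists_lift hE s hn fun i => (hss i).1
  have key : ∀ (i : ℕ) (hi : i < s.length),
      (OkSub.val hE d hd).SS (f i) (f (i + 1)) ∧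
      (OkSub.val hE d hd).q (f i) (f (i + 1)) = I.hp (factor s ⟨i, hi⟩) := by
    intro i hi
    obtain ⟨hlt, ⟨e⟩⟩ := OkSub.factor_eq s f hf i hi
    refine ⟨(OkSub.ss_quo_iff (hd := hd) hlt.le).1 ((hss ⟨i, hi⟩).of_iso e.symm), ?_⟩
    rw [OkSub.q_eq hlt.le, I.hp_iso e.symm (OkSub.ok_quo _)]
  refine ⟨f, hf, ⟨fun i hi => (key i hi).1, fun i hi => ?_⟩, Subtype.ext ?_, Subtype.ext ?_,
    fun i hi => (key i hi).2⟩
  · rw [(key i (by omega)).2, (key (i + 1) hi).2]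
    exact hdec ⟨i, by omega⟩ ⟨i + 1, hi⟩ rfl
  · exact (hf 0).trans h0
  · exact (hf (Fin.last _)).trans hn

/-- Existence and uniqueness of the Harder-Narasimhan filtration. -/
theorem existsUnique_isHNo (hE : I.ok E) (hp : I.Pure d E) :
    ∃! s : LTSeries (Subobject E), I.IsHNo d s := by
  have hd := hp.deg_le hE
  obtain ⟨n, f, hf, hf0, hfn⟩ :=
    (OkSub.val hE d hd).exists_isHN ⊥ ((OkSub.pure_iff (hE := hE) (hd := hd)).1 hp)
  have hlt : ∀ i < n, f i < f (i + 1) := fun i hi => (hf.ss i hi).lt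
  refine ⟨OkSub.toSeries n f hlt, ⟨OkSub.toSeries_head n f hlt hf0,
    OkSub.toSeries_last n f hlt hfn,
    fun i => (OkSub.ss_quo_iff (hd := hd) (hlt i.1 i.2).le).2 (hf.ss i.1 i.2),
    fun i j hij => ?_⟩, fun t ht => ?_⟩
  · have := hf.dec i.1 (hij ▸ j.2)
    rw [OkSub.q_eq (hlt i.1 i.2).le, OkSub.q_eq (hlt (i.1 + 1) (hij ▸ j.2)).le] at this
    have hj : j = ⟨i.1 + 1, hij ▸ j.2⟩ := Fin.ext hij.symm
    rw [hj]
    exact this
  · obtain ⟨g, hg, hgHN, hg0, hgn, -⟩ := ht.exists_chain hE hd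
    obtain ⟨hlen, heq⟩ := hgHN.unique hgn hf hfn (hg0.trans hf0.symm)
    exact OkSub.eq_toSeries t n f hlt hlen fun i => by
      rw [← heq i.1 (Nat.lt_succ_iff.1 i.2)]; exact hg i

/-- Existence of a Jordan-Hölder filtration. -/
theorem exists_isJHo (hS : I.SSo d E) : ∃ s : LTSeries (Subobject E), I.IsJHo d s := by
  have hE := hS.1
  have hd := hS.deg
  obtain ⟨n, f, hf0, hfn, hf⟩ := (OkSub.val hE d hd).exists_isJH
    ((OkSub.ss_iff (hE := hE) (hd := hd)).1 hS) (fun x y h => OkSub.q_ne_zero h) ⊥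
    (Val.sameSlope_bot _)
  have hlt : ∀ i < n, f i < f (i + 1) := fun i hi => (hf i hi).1.1
  refine ⟨OkSub.toSeries n f hlt, OkSub.toSeries_head n f hlt hf0,
    OkSub.toSeries_last n f hlt hfn,
    fun i => ⟨(OkSub.st_quo_iff (hd := hd) (hlt i.1 i.2).le).2 (hf i.1 i.2).1, ?_⟩⟩
  have := (hf i.1 i.2).2
  rw [OkSub.q_eq (hlt i.1 i.2).le, OkSub.q_top] at this
  exact this

/-- Vanishing of morphisms between objects with separated slopes. -/
theorem hom_eq_zero_of_isHNo {F G : C} (hF : I.ok F) (hFp : I.Pure d F) (hG : I.ok G)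
    (hGp : I.Pure d G) {s : LTSeries (Subobject F)} (hs : I.IsHNo d s)
    {t : LTSeries (Subobject G)} (ht : I.IsHNo d t) (i : Fin s.length)
    (hi : i.val + 1 = s.length) (j : Fin t.length) (hj : j.val = 0)
    (hlt : Pos (D d (I.hp (factor t j)) (I.hp (factor s i)))) (φ : F ⟶ G) : φ = 0 := by
  by_contra hφ
  have hdF := hFp.deg_le hF
  have hdG := hGp.deg_le hG
  obtain ⟨f, hf, hfHN, hf0, hfn, hfq⟩ := hs.exists_chain hF hdF
  obtain ⟨g, hg, hgHN, hg0, hgn, hgq⟩ := ht.exists_chain hG hdG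
  have hM := ok_image hF hG φ
  have hne := not_isZero_image hF hG φ hφ
  -- the image below the first slope
  have h1 : Nn (D d (I.hp (Abelian.image φ)) (I.hp (factor t j))) := by
    have := (hgHN.dominates (hj ▸ j.2) t.length (by have := j.2; omega) le_rfl
      (OkSub.mk hG (Abelian.image.ι φ) hM) (hg0 ▸ OkSub.bot_lt_mk _ hM hne hdG)
      (hgn ▸ le_top)).2.1
    have e := hgq 0 (by have := j.2; omega)
    rw [hg0] at this e
    rw [OkSub.q_mk, e] at this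
    rwa [show j = ⟨0, by have := j.2; omega⟩ from Fin.ext hj]
  -- the image above the last slope
  have h2 : Nn (D d (I.hp (factor s i)) (I.hp (Abelian.image φ))) := by
    obtain ⟨m, hm⟩ : ∃ m, s.length = m + 1 := ⟨i.1, hi.symm⟩
    have hfHN' := hfHN
    rw [hm] at hfHN' hfn
    have := hfHN'.quot_bound (OkSub.mk hF (kernel.ι φ) (I.ok_kernel φ hF hG))
    have e := hfq m (by omega)
    rw [hfn] at e
    rw [hf0, hfn, sup_bot_eq, sup_top_eq, e,
      eq_sub_of_add_eq' ((OkSub.val hF d hdF).q_add ⊥ _ ⊤), OkSub.q_top, OkSub.q_mk,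
      hp_image hF hG φ, add_sub_cancel_left] at this
    rwa [show i = ⟨m, by omega⟩ from Fin.ext (by simp only; omega)]
  have ha := hGp.alpha_pos (Abelian.image.ι φ) hM hne
  exact not_pos_D d (nn_D_trans d ha (hs.2.2.1 i).alpha_pos.le (ht.2.2.1 j).alpha_pos.le h2 h1)
    hlt

end filtrations

section maxDestab

variable {E : C}

/-- Existence of the maximal destabilising subobject. -/
theorem exists_maxDestab (hE : I.ok E) (h0 : ¬ IsZero E) (hp : I.Pure d E) :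
    ∃ (F : C) (ι : F ⟶ E), Mono ι ∧ I.ok F ∧ ¬ IsZero F ∧
      ∀ (G : C) (κ : G ⟶ E), Mono κ → I.ok G → ¬ IsZero G →
        Nn (D d (I.hp G) (I.hp F)) ∧
          (D d (I.hp G) (I.hp F) = 0 → ∃ φ : G ⟶ F, φ ≫ ι = κ) := by
  have hd := hp.deg_le hE
  obtain ⟨M, hM0, hM⟩ := (OkSub.val hE d hd).exists_maxDestab
    ((OkSub.pure_iff (hE := hE) (hd := hd)).1 hp)
    ⟨⊤, bot_le.lt_of_ne fun e => (I.hp_pos hE h0).ne_zero (by
      rw [← OkSub.q_top (hE := hE) (hd := hd), ← e, Val.q_self])⟩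
  refine ⟨(M.1 : C), M.1.arrow, inferInstance, M.2, OkSub.not_isZero_coe hM0 hd,
    fun G κ hκ hG hG0 => ?_⟩
  obtain ⟨h1, h2⟩ := hM _ (OkSub.bot_lt_mk κ hG hG0 hd)
  rw [OkSub.q_mk, OkSub.q_bot] at h1 h2
  exact ⟨h1, fun e => ⟨Subobject.ofMkLE κ M.1 (h2 e), Subobject.ofMkLE_arrow _⟩⟩

/-- Uniqueness of maximal destabilising subobjects. -/
theorem maxDestab_unique {F₁ F₂ : C} (ι₁ : F₁ ⟶ E) (ι₂ : F₂ ⟶ E) [Mono ι₁] [Mono ι₂]
    (h12 : Nn (D d (I.hp F₁) (I.hp F₂)) ∧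
      (D d (I.hp F₁) (I.hp F₂) = 0 → ∃ φ : F₁ ⟶ F₂, φ ≫ ι₂ = ι₁))
    (h21 : Nn (D d (I.hp F₂) (I.hp F₁)) ∧
      (D d (I.hp F₂) (I.hp F₁) = 0 → ∃ φ : F₂ ⟶ F₁, φ ≫ ι₁ = ι₂)) :
    ∃ e : F₁ ≅ F₂, e.hom ≫ ι₂ = ι₁ := by
  have e := eq_zero_of_D d h12.1 h21.1
  obtain ⟨φ, hφ⟩ := h12.2 e
  obtain ⟨ψ, hψ⟩ := h21.2 (eq_zero_of_D d h21.1 h12.1)
  exact ⟨⟨φ, ψ, by rw [← cancel_mono ι₁, Category.assoc, hψ, hφ, Category.id_comp],
    by rw [← cancel_mono ι₂, Category.assoc, hφ, hψ, Category.id_comp]⟩, hφ⟩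

end maxDestab

section tfae

variable {E : C}

/-- The comparison with a quotient. -/
lemma D_quot {G : C} (hE : I.ok E) (hG : I.ok G) (π : E ⟶ G) [Epi π] :
    D d (I.hp E) (I.hp G) = D d (I.hp (kernel π)) (I.hp E) := by
  rw [eq_sub_of_add_eq' (I.hp_kernel π hE hG).symm, D_sub_right, D_self, zero_sub, D_neg]

/-- Saturation of a subobject. -/
lemma exists_saturated (hE : I.ok E) (hp : I.Pure d E) {F : C} (ι : F ⟶ E) [Mono ι]
    (hF : I.ok F) (h0 : ¬ IsZero F) :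
    ∃ (M : C) (j : M ⟶ E), Mono j ∧ I.ok M ∧ ¬ IsZero M ∧ I.Pure d (cokernel j) ∧
      alpha d (I.hp M) = alpha d (I.hp F) ∧ Nn (I.hp M - I.hp F) ∧
      (IsIso j → I.hp M = I.hp E) := by
  have hd := hp.deg_le hE
  obtain ⟨M, hle, ha, hpa⟩ :=
    (OkSub.val hE d hd).exists_saturation ⊥ (OkSub.mk hE ι hF)
  have hq : (OkSub.val hE d hd).q (OkSub.mk hE ι hF) M = I.hp (M.1 : C) - I.hp F := by
    rw [eq_sub_of_add_eq' ((OkSub.val hE d hd).q_add ⊥ _ M), OkSub.q_bot, OkSub.q_mk]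
  refine ⟨(M.1 : C), M.1.arrow, inferInstance, M.2,
    OkSub.not_isZero_coe ((OkSub.bot_lt_mk ι hF h0 hd).trans_le hle) hd, ?_, ?_,
    hq ▸ Val.nn_q _ hle, fun hi => @Inv.hp_iso _ _ _ I _ _ (@asIso _ _ _ _ _ hi) M.2⟩
  · have hle' : M ≤ (⊤ : OkSub I E hE) := le_top
    refine Pure.of_iso (B := OkSub.quo M ⊤ hle') ?_
      ((OkSub.pure_quo_iff (hd := hd) hle').2 fun z hz _ => hpa z hz)
    exact cokernelIsoOfEq (Subobject.ofLE_arrow (show M.1 ≤ (⊤ : Subobject E) from le_top)).symm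
      ≪≫ cokernelCompIsIso _ _
  · rw [Val.a, Val.a, OkSub.q_bot, OkSub.q_mk] at ha
    exact ha

end tfae

end Inv

end Groth.Agent.StabLib
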