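/-
Hilbert polynomials of coherent sheaves as a polynomial invariant.
-/
import Groth.Prelude.Def_ShStab
import Groth.Agent.StabLib.Series
import Groth.Agent.Intersect.Asymp
import Groth.Agent.Nakai.Main
import Groth.Agent.Devissage.Power

set_option autoImplicit false
set_option linter.style.haveILetI false
set_option linter.unusedSectionVars false
set_option backward.isDefEq.respectTransparency false
set_option backward.isDefEq.respectTransparency.types false

universe u

open CategoryTheory CategoryTheory.Limits AlgebraicGeometry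
open scoped Polynomial Nat
open Groth.Agent.Intersect (χt)

noncomputable section

namespace Groth.Agent.StabLib.Sh

variable {X : Scheme.{u}}

lemma isEmpty_support {E : X.Modules} (h : IsZero E) : CohB1.support E = ∅ :=
  Set.eq_empty_iff_forall_notMem.2 fun x hx =>
    hx (ModuleCat.subsingleton_of_isZero ((DerSch.stalkFunctor X x).map_isZero h))

lemma dim_empty : topologicalKrullDim (∅ : Set X) = ⊥ := by
  haveI : IsEmpty (TopologicalSpace.IrreducibleCloseds (∅ : Set X)) :=
    ⟨fun p => by obtain ⟨⟨x, hx⟩, -⟩ := p.isIrreducible.nonempty; exact hx⟩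
  exact Order.krullDim_eq_bot

lemma support_nonempty {E : X.Modules} (h : ¬ IsZero E) : (CohB1.support E).Nonempty := by
  by_contra hn
  exact h (KFlat.isZero_of_stalks E fun x =>
    @ModuleCat.isZero_of_subsingleton _ _ _ (not_not.1 fun hx => hn ⟨x, hx⟩))

variable (k : Type u) [Field k] [X.Over (Spec (CommRingCat.of k))]
  [IsProper (X ↘ Spec (CommRingCat.of k))]

include k in
lemma exists_dim {E : X.Modules} (h : ¬ IsZero E) :
    ∃ e : ℕ, topologicalKrullDim (CohB1.support E) = (e : WithBot ℕ∞) := by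
  obtain ⟨N, hN⟩ := Nakai.exists_dim_bound k (X := X)
  have hle := (topologicalKrullDim_subspace_le X (CohB1.support E)).trans hN
  haveI := (support_nonempty h).to_subtype
  obtain ⟨x⟩ := (inferInstance : Nonempty (CohB1.support E))
  haveI : Nonempty (TopologicalSpace.IrreducibleCloseds (CohB1.support E)) :=
    ⟨⟨_, (isIrreducible_singleton (x := x)).closure, isClosed_closure⟩⟩
  have h0 : (0 : WithBot ℕ∞) ≤ topologicalKrullDim (CohB1.support E) := Order.krullDim_nonneg
  generalize topologicalKrullDim (CohB1.support E) = D at hle h0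
  cases D with
  | bot => exact absurd h0 (by simp)
  | coe a =>
    cases a with
    | top =>
      exact absurd (WithBot.coe_le_coe.1 (show ((⊤ : ℕ∞) : WithBot ℕ∞) ≤ ((N : ℕ∞) : WithBot ℕ∞) from hle))
        (by simp)
    | coe e => exact ⟨e, rfl⟩

include k in
lemma exists_dim_le (E : X.Modules) :
    ∃ e : ℕ, topologicalKrullDim (CohB1.support E) ≤ (e : WithBot ℕ∞) := by
  obtain ⟨N, hN⟩ := Nakai.exists_dim_bound k (X := X)
  exact ⟨N, (topologicalKrullDim_subspace_le X (CohB1.support E)).trans hN⟩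

/-- The candidate polynomial. -/
def cand (M F : X.Modules) (D : ℕ) : ℚ[X] :=
  ∑ i ∈ Finset.range (D + 1),
    (Intersect.alt (χt k F fun _ : Fin i => M) / (i ! : ℚ)) • ascPochhammer ℚ i

lemma natDegree_cand_le (M F : X.Modules) (D : ℕ) : (cand k M F D).natDegree ≤ D :=
  Polynomial.natDegree_sum_le_of_forall_le _ _ fun i hi =>
    (Polynomial.natDegree_smul_le _ _).trans
      (by rw [ascPochhammer_natDegree]; exact Finset.mem_range_succ_iff.1 hi)

lemma alpha_cand (M F : X.Modules) (D : ℕ) :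
    StabCat.alpha D (cand k M F D) = Intersect.alt (χt k F fun _ : Fin D => M) := by
  rw [StabCat.alpha, cand, Polynomial.finsetSum_coeff, Finset.sum_range_succ,
    Finset.sum_eq_zero fun i hi => by
      rw [Polynomial.coeff_smul, Polynomial.coeff_eq_zero_of_natDegree_lt
        (by rw [ascPochhammer_natDegree]; exact Finset.mem_range.1 hi), smul_zero],
    zero_add, Polynomial.coeff_smul]
  have h := (monic_ascPochhammer ℚ D).coeff_natDegree
  rw [ascPochhammer_natDegree] at h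
  rw [h, smul_eq_mul, mul_one, mul_div_cancel₀ _ (by exact_mod_cast Nat.factorial_ne_zero D)]

lemma isHilbPoly_cand {L M F : X.Modules} (hL : PicF.IsInvertible L) (hM : PicF.IsInvertible M)
    (e : CohB1.tensorMod L M ≅ Coh.structureModule X) (hF : Coh.IsCoh F) {D : ℕ}
    (hD : topologicalKrullDim (CohB1.support F) ≤ (D : WithBot ℕ∞)) :
    ShStab.IsHilbPoly k X L F (cand k M F D) := by
  intro m
  have h := Intersect.euler_pow_eq_binSum k hL hM e D m F hF (Intersect.lt_succ_of_le' hD)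
  rw [ShStab.twist, CurveRR.euler_eq_of_iso (TMul.commIso F (CohB1.tensorPow L m)), h,
    Intersect.binSum, cand, Polynomial.eval_finsetSum]
  refine Finset.sum_congr rfl fun i _ => ?_
  rw [Polynomial.eval_smul, ← ascPochhammer_eval_cast, ascPochhammer_nat_eq_ascFactorial,
    Nat.ascFactorial_eq_factorial_mul_choose', smul_eq_mul, Nat.cast_mul]
  have : (i ! : ℚ) ≠ 0 := by exact_mod_cast Nat.factorial_ne_zero i
  field_simp

variable {k}

lemma hilb_unique {L E : X.Modules} {P Q : ℚ[X]} (hP : ShStab.IsHilbPoly k X L E P)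
    (hQ : ShStab.IsHilbPoly k X L E Q) : P = Q :=
  eq_of_eval_nat fun m => (hP m).symm.trans (hQ m)

variable (k)

open scoped Classical in
/-- The Hilbert polynomial. -/
def hp (L E : X.Modules) : ℚ[X] :=
  if h : ∃ P, ShStab.IsHilbPoly k X L E P then h.choose else 0

variable {L : X.Modules}

lemma hp_eq_cand {M F : X.Modules} (hL : PicF.IsInvertible L) (hM : PicF.IsInvertible M)
    (e : CohB1.tensorMod L M ≅ Coh.structureModule X) (hF : Coh.IsCoh F) {D : ℕ}
    (hD : topologicalKrullDim (CohB1.support F) ≤ (D : WithBot ℕ∞)) :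
    hp k L F = cand k M F D := by
  have h : ∃ P, ShStab.IsHilbPoly k X L F P := ⟨_, isHilbPoly_cand k hL hM e hF hD⟩
  rw [hp, dif_pos h]
  exact hilb_unique h.choose_spec (isHilbPoly_cand k hL hM e hF hD)

lemma isHilbPoly_hp (hL : PicF.IsInvertible L) {E : X.Modules} (hE : Coh.IsCoh E) :
    ShStab.IsHilbPoly k X L E (hp k L E) := by
  obtain ⟨M, hM, ⟨e⟩⟩ := W7Hull.exists_tensor_inverse hL
  obtain ⟨D, hD⟩ := exists_dim_le k E
  rw [hp_eq_cand k hL hM e hE hD]
  exact isHilbPoly_cand k hL hM e hE hD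

lemma hilb_iff (hL : PicF.IsInvertible L) {E : X.Modules} (hE : Coh.IsCoh E) (P : ℚ[X]) :
    ShStab.IsHilbPoly k X L E P ↔ P = hp k L E :=
  ⟨fun h => hilb_unique h (isHilbPoly_hp k hL hE), fun h => h ▸ isHilbPoly_hp k hL hE⟩

lemma natDegree_hp_le (hL : PicF.IsInvertible L) {E : X.Modules} (hE : Coh.IsCoh E) {D : ℕ}
    (hD : topologicalKrullDim (CohB1.support E) ≤ (D : WithBot ℕ∞)) :
    (hp k L E).natDegree ≤ D := by
  obtain ⟨M, hM, ⟨e⟩⟩ := W7Hull.exists_tensor_inverse hL
  rw [hp_eq_cand k hL hM e hE hD]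
  exact natDegree_cand_le k M E D

lemma hp_pos_deg (hL : CohB1.IsAmple L) {E : X.Modules} (hE : Coh.IsCoh E) {d : ℕ}
    (hd : topologicalKrullDim (CohB1.support E) = (d : WithBot ℕ∞)) :
    (hp k L E).natDegree = d ∧ Pos (hp k L E) := by
  obtain ⟨M, hM, ⟨e⟩⟩ := W7Hull.exists_tensor_inverse hL.1
  have ha : 0 < StabCat.alpha d (hp k L E) := by
    rw [hp_eq_cand k hL.1 hM e hE hd.le, alpha_cand,
      Intersect.alt_inverse k d (fun _ => L) (fun _ => M) (fun _ => hL.1) (fun _ => hM)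
        (fun _ => ⟨e⟩) E hE hd.le]
    exact Intersect.alt_pos k d (fun _ => L) (fun _ => hL) E hE hd
  have hc : 0 < (hp k L E).coeff d := (pos_iff_pos_of_mul_pos ha).1 (by positivity)
  have hdeg : (hp k L E).natDegree = d :=
    le_antisymm (natDegree_hp_le k hL.1 hE hd.le)
      (Polynomial.le_natDegree_of_ne_zero hc.ne')
  refine ⟨hdeg, ?_⟩
  rw [Pos, Polynomial.leadingCoeff, hdeg]
  exact hc

lemma dim_iff (hL : CohB1.IsAmple L) {E : X.Modules} (hE : Coh.IsCoh E) (h0 : ¬ IsZero E)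
    (d : ℕ) : topologicalKrullDim (CohB1.support E) = (d : WithBot ℕ∞) ↔
      (hp k L E).natDegree = d := by
  refine ⟨fun h => (hp_pos_deg k hL hE h).1, fun h => ?_⟩
  obtain ⟨e, he⟩ := exists_dim k h0
  rw [he, ← h, (hp_pos_deg k hL hE he).1]

omit [X.Over (Spec (CommRingCat.of k))] [IsProper (X ↘ Spec (CommRingCat.of k))] in
lemma isCoh_biprod {A B : X.Modules} (hA : Coh.IsCoh A) (hB : Coh.IsCoh B) :
    Coh.IsCoh (A ⊞ B) := by
  let c := BinaryBiproduct.bicone A B
  refine CohFinite.isCoh_of_iso (Iso.mk (biproduct.desc fun j : WalkingPair => ?_)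
      (biprod.desc (biproduct.ι (pairFunction A B) WalkingPair.left)
        (biproduct.ι (pairFunction A B) WalkingPair.right)) ?_ ?_)
    (Devissage.isCoh_biproduct (pairFunction A B) fun j => by cases j <;> assumption)
  · exact WalkingPair.casesOn (motive := fun j => pairFunction A B j ⟶ A ⊞ B) j biprod.inl biprod.inr
  · apply biproduct.hom_ext'
    rintro (_ | _) <;> simp
  · apply biprod.hom_ext' <;> simp

/-- Coherent sheaves with the Hilbert polynomial of an ample module. -/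
def inv (hL : CohB1.IsAmple L) : Inv X.Modules where
  ok := Coh.IsCoh
  ok_iso e h := CohFinite.isCoh_of_iso e h
  ok_kernel f hA hB :=
    haveI := CurveRR.isNoetherian_of_proper k X
    Groth.Agent.QC.isCoh_kernel hA hB.1 f
  ok_cokernel f hA hB := Groth.Agent.QC.isCoh_cokernel hA.1 hB f
  ok_biprod hA hB := isCoh_biprod hA hB
  hp E := hp k L E
  hp_add {S} hS h₁ h₂ h₃ := by
    haveI := CurveRR.isNoetherian_of_proper k X
    refine hilb_unique (isHilbPoly_hp k hL.1 h₂) fun m => ?_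
    have hinv := TMul.isInvertible_tensorPow hL.1 m
    have hc := CurveRR.isCoh_of_inv hinv
    have h := CurveRR.euler_add (k := k) (CohFinite.shortExact_tmap hinv hS)
      (CurveRR.isCoh_tensor' h₁ hc) (CurveRR.isCoh_tensor' h₂ hc) (CurveRR.isCoh_tensor' h₃ hc)
    change Curv2.euler k X (ShStab.twist X L S.X₂ m) =
      Curv2.euler k X (ShStab.twist X L S.X₁ m) + Curv2.euler k X (ShStab.twist X L S.X₃ m) at h
    rw [h, Int.cast_add, isHilbPoly_hp k hL.1 h₁ m, isHilbPoly_hp k hL.1 h₃ m,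
      Polynomial.eval_add]
  hp_pos {A} hA h0 := by
    obtain ⟨e, he⟩ := exists_dim k h0
    exact (hp_pos_deg k hL hA he).2
  hp_int {A} hA d hd := by
    obtain ⟨M, hM, ⟨i⟩⟩ := W7Hull.exists_tensor_inverse hL.1
    have hdim : topologicalKrullDim (CohB1.support A) ≤ (d : WithBot ℕ∞) := by
      by_cases h0 : IsZero A
      · rw [isEmpty_support h0, dim_empty]; exact bot_le
      obtain ⟨e, he⟩ := exists_dim k h0
      rw [(hp_pos_deg k hL hA he).1] at hd
      rw [he]
      exact_mod_cast hd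
    rw [hp_eq_cand k hL.1 hM i hA hdim, alpha_cand]
    exact Intersect.alt_int k A _
  acc {E} hE F hF :=
    haveI := CurveRR.isNoetherian_of_proper k X
    Groth.Agent.QC.acc_subobject hE F fun n => (hF n).1

section translate

variable (hL : CohB1.IsAmple L)

local notation "I" => inv k hL

lemma inv_ok_iff (E : X.Modules) : Inv.ok I E ↔ Coh.IsCoh E := Iff.rfl

lemma isPure_iff (E : X.Modules) (d : ℕ) : ShStab.IsPure X E d ↔ Inv.Pure I d E :=
  forall_congr' fun F => forall_congr' fun ι => forall_congr' fun _ => forall_congr' fun hF =>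
    forall_congr' fun h0 => dim_iff k hL hF h0 d

lemma isSS_iff {E : X.Modules} (hE : Coh.IsCoh E) (d : ℕ) :
    StabCat.IsSS Coh.IsCoh (ShStab.IsHilbPoly k X L) d E ↔
      ∀ (F : X.Modules) (ι : F ⟶ E), Mono ι → Coh.IsCoh F → ¬ IsZero F → ¬ IsIso ι →
        Nn (D d (Inv.hp I F) (Inv.hp I E)) := by
  refine ⟨fun h F ι hι hF h0 hi => (redLE_iff d).1 (h F ι hι hF h0 hi _ _
      (isHilbPoly_hp k hL.1 hF) (isHilbPoly_hp k hL.1 hE)), fun h F ι hι hF h0 hi p q hp hq => ?_⟩
  rw [redLE_iff, (hilb_iff k hL.1 hF p).1 hp, (hilb_iff k hL.1 hE q).1 hq]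
  exact h F ι hι hF h0 hi

lemma isSt_iff {E : X.Modules} (hE : Coh.IsCoh E) (d : ℕ) :
    StabCat.IsSt Coh.IsCoh (ShStab.IsHilbPoly k X L) d E ↔
      ∀ (F : X.Modules) (ι : F ⟶ E), Mono ι → Coh.IsCoh F → ¬ IsZero F → ¬ IsIso ι →
        Pos (D d (Inv.hp I F) (Inv.hp I E)) := by
  refine ⟨fun h F ι hι hF h0 hi => (redLT_iff d).1 (h F ι hι hF h0 hi _ _
      (isHilbPoly_hp k hL.1 hF) (isHilbPoly_hp k hL.1 hE)), fun h F ι hι hF h0 hi p q hp hq => ?_⟩
  rw [redLT_iff, (hilb_iff k hL.1 hF p).1 hp, (hilb_iff k hL.1 hE q).1 hq]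
  exact h F ι hι hF h0 hi

lemma isSemistable_iff (E : X.Modules) (d : ℕ) :
    ShStab.IsSemistable k X L E d ↔ Inv.SSo I d E := by
  constructor
  · rintro ⟨h1, h2, h3, h4⟩
    exact ⟨h1, h2, (isPure_iff k hL E d).1 h3, (isSS_iff k hL h1 d).1 h4⟩
  · rintro ⟨h1, h2, h3, h4⟩
    exact ⟨h1, h2, (isPure_iff k hL E d).2 h3, (isSS_iff k hL h1 d).2 h4⟩

lemma isStable_iff (E : X.Modules) (d : ℕ) :
    ShStab.IsStable k X L E d ↔ Inv.Sto I d E := by
  constructor
  · rintro ⟨h1, h2, h3, h4⟩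
    exact ⟨h1, h2, (isPure_iff k hL E d).1 h3, (isSt_iff k hL h1 d).1 h4⟩
  · rintro ⟨h1, h2, h3, h4⟩
    exact ⟨h1, h2, (isPure_iff k hL E d).2 h3, (isSt_iff k hL h1 d).2 h4⟩

lemma isHN_iff {E : X.Modules} (d : ℕ) (s : LTSeries (Subobject E)) :
    ShStab.IsHNFiltration k X L E d s ↔ Inv.IsHNo I d s := by
  constructor
  · rintro ⟨h1, h2, h3, h4⟩
    exact ⟨h1, h2, fun i => (isSemistable_iff k hL _ d).1 (h3 i), fun i j hij => (redLT_iff d).1
      (h4 i j hij _ _ (isHilbPoly_hp k hL.1 (h3 i).1) (isHilbPoly_hp k hL.1 (h3 j).1))⟩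
  · rintro ⟨h1, h2, h3, h4⟩
    refine ⟨h1, h2, fun i => (isSemistable_iff k hL _ d).2 (h3 i), fun i j hij p q hp hq => ?_⟩
    rw [redLT_iff, (hilb_iff k hL.1 (h3 i).1 p).1 hp, (hilb_iff k hL.1 (h3 j).1 q).1 hq]
    exact h4 i j hij

lemma isJH_iff {E : X.Modules} (hE : Coh.IsCoh E) (d : ℕ) (s : LTSeries (Subobject E)) :
    ShStab.IsJHFiltration k X L E d s ↔ Inv.IsJHo I d s := by
  constructor
  · rintro ⟨h1, h2, h3⟩
    exact ⟨h1, h2, fun i => ⟨(isStable_iff k hL _ d).1 (h3 i).1, (redEq_iff d).1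
      ((h3 i).2 _ _ (isHilbPoly_hp k hL.1 (h3 i).1.1) (isHilbPoly_hp k hL.1 hE))⟩⟩
  · rintro ⟨h1, h2, h3⟩
    refine ⟨h1, h2, fun i => ⟨(isStable_iff k hL _ d).2 (h3 i).1, fun p q hp hq => ?_⟩⟩
    rw [redEq_iff, (hilb_iff k hL.1 (h3 i).1.1 p).1 hp, (hilb_iff k hL.1 hE q).1 hq]
    exact (h3 i).2

end translate

end Groth.Agent.StabLib.Sh

end
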