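/-
Endomorphisms of coherent modules over algebraically closed fields have eigenvalues.
-/
import Groth.Prelude.Def_Coh
import Groth.Prelude.Def_RefHull
import Groth.Agent.NegTwist.Coker
import Groth.Agent.QC.Coherent
import Groth.Agent.KFlat.Pullback
import Mathlib.AlgebraicGeometry.AlgClosed.Basic
import Mathlib.LinearAlgebra.Eigenspace.Triangularizable

set_option autoImplicit false
set_option linter.style.haveILetI false
set_option linter.unusedSectionVars false
set_option backward.isDefEq.respectTransparency false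
set_option backward.isDefEq.respectTransparency.types false

universe u

open CategoryTheory CategoryTheory.Limits AlgebraicGeometry TopologicalSpace Opposite

noncomputable section

namespace Groth.Agent.StabLib.Endo

variable {X : Scheme.{u}}

/-- Multiplication by a global function. -/
def sc (M : X.Modules) (r : Coh.Γtop X) : M ⟶ M :=
  ⟨PresheafOfModules.homMk (Coh.smulAb M r).hom fun U a m => by
    change Coh.resTop X U r • (a • m : M.val.obj U) = a • (Coh.resTop X U r • m : M.val.obj U)
    rw [smul_smul, smul_smul]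
    exact congrArg (· • m) (mul_comm (G := Γ(X, U.unop)) _ _)⟩

theorem exists_closed_mem {X : Scheme.{u}} [CompactSpace X] {S : Set X} (hS : IsClosed S)
    (hne : S.Nonempty) : ∃ x ∈ S, IsClosed ({x} : Set X) :=
  hS.exists_closed_singleton hne

variable (k : Type u) [Field k] [X.Over (Spec (CommRingCat.of k))]

/-- The constant functions surject on the residue field of a closed point. -/
theorem surjective_residue [IsAlgClosed k] [LocallyOfFiniteType (X ↘ Spec (CommRingCat.of k))]
    {x : X} (hx : IsClosed ({x} : Set X)) :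
    Function.Surjective fun c : k => (X.residue x).hom ((X.presheaf.germ ⊤ x trivial).hom
      (Coh.toGlobal (X ↘ Spec (CommRingCat.of k)) c)) := by
  let f := X ↘ Spec (CommRingCat.of k)
  have h : (residueFieldIsoBase f x hx).inv =
      (Scheme.ΓSpecIso (CommRingCat.of k)).inv ≫ f.appTop ≫ X.presheaf.germ ⊤ x trivial ≫
        X.residue x := by
    rw [← cancel_epi (Scheme.ΓSpecIso (CommRingCat.of k)).hom, Iso.hom_inv_id_assoc,
      ← Scheme.ΓSpecIso_naturality, SpecMap_residueFieldIsoBase_inv, Scheme.Hom.comp_appTop]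
    simp only [Scheme.fromSpecResidueField, Scheme.Hom.comp_appTop, Scheme.fromSpecStalk_appTop,
      Category.assoc, Scheme.ΓSpecIso_naturality, Iso.inv_hom_id_assoc]
    simp
  intro z
  obtain ⟨c, hc⟩ := (ConcreteCategory.bijective_of_isIso (residueFieldIsoBase f x hx).inv).2 z
  refine ⟨c, ?_⟩
  rw [← hc, h]
  rfl

theorem stalkMapₗ_sc (M : X.Modules) (r : Coh.Γtop X) (x : X) (v : M.presheaf.stalk x) :
    RefHull.stalkMapₗ (sc M r) x v = (X.presheaf.germ ⊤ x trivial).hom r • v := by
  obtain ⟨U, hx, s, rfl⟩ := TopCat.Presheaf.exists_germ_eq M.presheaf v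
  rw [RefHull.stalkMapₗ_germ]
  change M.presheaf.germ U x hx
    ((X.presheaf.map (homOfLE (le_top : U ≤ ⊤)).op).hom r • s) = _
  rw [show M.presheaf.germ U x hx ((X.presheaf.map (homOfLE (le_top : U ≤ ⊤)).op).hom r • s) =
    (X.presheaf.germ U x hx).hom ((X.presheaf.map (homOfLE (le_top : U ≤ ⊤)).op).hom r) •
      M.presheaf.germ U x hx s from WeakAssLib.mgerm_smul M hx _ _]
  congr 1
  exact TopCat.Presheaf.germ_res_apply X.presheaf (homOfLE le_top) x hx r

theorem stalkMapₗ_sub {F G : X.Modules} (φ ψ : F ⟶ G) (x : X) (v : F.presheaf.stalk x) :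
    RefHull.stalkMapₗ (φ - ψ) x v = RefHull.stalkMapₗ φ x v - RefHull.stalkMapₗ ψ x v := by
  obtain ⟨U, hx, s, rfl⟩ := TopCat.Presheaf.exists_germ_eq F.presheaf v
  rw [RefHull.stalkMapₗ_germ, RefHull.stalkMapₗ_germ, RefHull.stalkMapₗ_germ, ← map_sub]
  rfl

theorem injective_stalkMapₗ_of_isIso {F G : X.Modules} (φ : F ⟶ G) [IsIso φ] (x : X) :
    Function.Bijective (RefHull.stalkMapₗ φ x) := by
  have h : ∀ {A B : X.Modules} (a : A ⟶ B) (b : B ⟶ A), a ≫ b = 𝟙 A →
      ∀ v, RefHull.stalkMapₗ b x (RefHull.stalkMapₗ a x v) = v := by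
    intro A B a b e v
    obtain ⟨U, hx, s, rfl⟩ := TopCat.Presheaf.exists_germ_eq A.presheaf v
    rw [RefHull.stalkMapₗ_germ, RefHull.stalkMapₗ_germ]
    change A.presheaf.germ U x hx ((a ≫ b).app U s) = _
    rw [e]
    rfl
  exact ⟨Function.LeftInverse.injective (h φ (inv φ) (IsIso.hom_inv_id φ)),
    Function.RightInverse.surjective (h (inv φ) φ (IsIso.inv_hom_id φ))⟩

/-- An endomorphism of a non-zero coherent module differs from a scalar by a non-isomorphism. -/
theorem exists_not_isIso [IsAlgClosed k] [LocallyOfFiniteType (X ↘ Spec (CommRingCat.of k))]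
    [IsLocallyNoetherian X] [CompactSpace X] {E : X.Modules} (hE : Coh.IsCoh E) (h0 : ¬ IsZero E)
    (φ : E ⟶ E) :
    ∃ c : k, ¬ IsIso (φ - sc E (Coh.toGlobal (X ↘ Spec (CommRingCat.of k)) c)) := by
  have hne : (CohB1.support E).Nonempty := by
    by_contra hn
    exact h0 (KFlat.isZero_of_stalks E fun x =>
      @ModuleCat.isZero_of_subsingleton _ _ _ (not_not.1 fun hx => hn ⟨x, hx⟩))
  obtain ⟨x, hxS, hx⟩ := exists_closed_mem (QC.isClosed_support hE.2) hne
  haveI := NegTwist.finite_stalk_of_isCoh hE x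
  haveI : Nontrivial (E.presheaf.stalk x) := not_subsingleton_iff_nontrivial.1 hxS
  let m := IsLocalRing.maximalIdeal (X.presheaf.stalk x)
  let N : Submodule (X.presheaf.stalk x) (E.presheaf.stalk x) := m • ⊤
  let V := E.presheaf.stalk x ⧸ N
  haveI : Module.Finite (X.presheaf.stalk x ⧸ m) V :=
    Module.Finite.of_restrictScalars_finite (X.presheaf.stalk x) _ _
  haveI : Nontrivial V := Submodule.Quotient.nontrivial_iff.2 fun e =>
    (top_ne_bot : (⊤ : Submodule (X.presheaf.stalk x) (E.presheaf.stalk x)) ≠ ⊥)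
      (Submodule.eq_bot_of_le_smul_of_le_jacobson_bot m ⊤ Module.Finite.fg_top e.ge
        (IsLocalRing.maximalIdeal_le_jacobson _))
  letI : Field (X.presheaf.stalk x ⧸ m) := Ideal.Quotient.field m
  haveI : IsAlgClosed (X.presheaf.stalk x ⧸ m) :=
    IsAlgClosed.of_ringEquiv k _ (RingEquiv.ofBijective
      ((X.residue x).hom.comp ((X.presheaf.germ ⊤ x trivial).hom.comp
        (Coh.toGlobal (X ↘ Spec (CommRingCat.of k)))))
      ⟨RingHom.injective _, surjective_residue k hx⟩)
  let g : V →ₗ[X.presheaf.stalk x] V := N.mapQ N (RefHull.stalkMapₗ φ x) (by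
    rw [← Submodule.map_le_iff_le_comap, Submodule.map_smul'']
    exact Submodule.smul_mono le_rfl le_top)
  let T : Module.End (X.presheaf.stalk x ⧸ m) V :=
    { toFun := g
      map_add' := map_add g
      map_smul' := fun a v => by
        obtain ⟨a, rfl⟩ := Ideal.Quotient.mk_surjective a
        exact g.map_smul a v }
  obtain ⟨l, hl⟩ := Module.End.exists_eigenvalue T
  obtain ⟨v, hv⟩ := hl.exists_hasEigenvector
  obtain ⟨c, hc⟩ := surjective_residue k hx l
  refine ⟨c, fun hiso => hv.2 ?_⟩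
  let ψ := RefHull.stalkMapₗ (φ - sc E (Coh.toGlobal (X ↘ Spec (CommRingCat.of k)) c)) x
  let e := LinearEquiv.ofBijective ψ (injective_stalkMapₗ_of_isIso _ x)
  obtain ⟨w, rfl⟩ := Submodule.Quotient.mk_surjective N v
  have h1 := hv.apply_eq_smul
  change N.mkQ (RefHull.stalkMapₗ φ x w) = l • N.mkQ w at h1
  have h2 : N.mkQ (ψ w) = 0 := by
    change N.mkQ (RefHull.stalkMapₗ (φ - _) x w) = 0
    rw [stalkMapₗ_sub, map_sub, stalkMapₗ_sc, map_smul, h1, ← hc, sub_eq_zero]
    rfl
  rw [Submodule.mkQ_apply, Submodule.Quotient.mk_eq_zero] at h2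
  rw [Submodule.Quotient.mk_eq_zero]
  have h3 : w ∈ N.map (e.symm : E.presheaf.stalk x →ₗ[X.presheaf.stalk x] E.presheaf.stalk x) :=
    ⟨ψ w, h2, e.symm_apply_apply w⟩
  rw [Submodule.map_smul''] at h3
  exact Submodule.smul_mono le_rfl le_top h3

/-- The formula for a scalar endomorphism. -/
theorem sc_app (M : X.Modules) (r : Coh.Γtop X) (V : X.Opens) (s : M.val.obj (op V)) :
    ((sc M r).val.app (op V)) s =
      (X.ringCatSheaf.obj.map (homOfLE (le_top : V ≤ ⊤)).op (r : X.ringCatSheaf.obj.obj (op ⊤))) • s :=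
  rfl

end Groth.Agent.StabLib.Endo

end
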