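/-
The dimension formula on integral schemes of finite type over a field.
-/
import Groth.Agent.WeilLib.Trdeg
import Groth.Agent.DimFormula.Field
import Mathlib.AlgebraicGeometry.FunctionField

set_option autoImplicit false
set_option linter.style.haveILetI false
set_option linter.unusedSectionVars false
set_option backward.isDefEq.respectTransparency false

universe u

open CategoryTheory AlgebraicGeometry Topology TopologicalSpace
open Groth.Agent.WeilLib (trd kStr secStr evaluation_comp_secStr finiteType_secStr exists_dim_eq_trdeg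
  exists_height_eq_trd)

noncomputable section

namespace Groth.Agent.StabLib

variable {k : Type u} [Field k] {X : Scheme.{u}} (f : X ⟶ Spec (CommRingCat.of k))

attribute [local instance] specializationOrder

/-- The dimension of the quotient by the prime of a point is the height of the point. -/
theorem ringKrullDim_quotient_eq_height [LocallyOfFiniteType f] {W : X.Opens} (hW : IsAffineOpen W)
    {x : X} (hxW : x ∈ W) :
    ringKrullDim (Γ(X, W) ⧸ (hW.primeIdealOf ⟨x, hxW⟩).asIdeal) =
      (Order.height x : WithBot ℕ∞) := by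
  obtain ⟨s, hs, hh⟩ := exists_height_eq_trd f x
  rw [hh]
  letI := (secStr f W).toAlgebra
  haveI : Algebra.FiniteType k Γ(X, W) := finiteType_secStr f hW
  letI := (kStr f x).toAlgebra
  let q := (hW.primeIdealOf ⟨x, hxW⟩).asIdeal
  let ι : Γ(X, W) →ₐ[k] X.residueField x :=
    { (X.evaluation W x hxW).hom with
      commutes' := RingHom.congr_fun (evaluation_comp_secStr f hxW) }
  have hker : RingHom.ker ι = q := by
    let := X.presheaf.algebra_section_stalk ⟨x, hxW⟩
    have := hW.isLocalization_stalk ⟨x, hxW⟩
    show RingHom.ker ((IsLocalRing.residue (X.presheaf.stalk x)).comp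
      (algebraMap Γ(X, W) (X.presheaf.stalk x))) = _
    rw [← RingHom.comap_ker, IsLocalRing.ker_residue]
    exact IsLocalization.AtPrime.under_maximalIdeal (X.presheaf.stalk x) _
  let ψ : (Γ(X, W) ⧸ q) →ₐ[k] X.residueField x := Ideal.Quotient.liftₐ q ι fun a ha ↦ by
    rwa [← hker, RingHom.mem_ker] at ha
  haveI : Algebra.FiniteType k (Γ(X, W) ⧸ q) :=
    .trans (R := k) (S := Γ(X, W)) inferInstance inferInstance
  obtain ⟨t, ht, hdim⟩ := exists_dim_eq_trdeg ψ (by
      rw [injective_iff_map_eq_zero]
      intro a ha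
      obtain ⟨a, rfl⟩ := Ideal.Quotient.mk_surjective a
      rw [Ideal.Quotient.eq_zero_iff_mem]
      exact hker.le ha) (fun z => by
      obtain ⟨z, rfl⟩ := IsLocalRing.residue_surjective z
      let := X.presheaf.algebra_section_stalk ⟨x, hxW⟩
      have := hW.isLocalization_stalk ⟨x, hxW⟩
      obtain ⟨⟨b, d⟩, hbd⟩ := IsLocalization.surj (hW.primeIdealOf ⟨x, hxW⟩).asIdeal.primeCompl z
      refine ⟨Ideal.Quotient.mk q b, Ideal.Quotient.mk q d, fun h ↦ d.2 ?_, ?_⟩
      · exact hker.le (show ι d = 0 from h)
      · show IsLocalRing.residue _ z * IsLocalRing.residue _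
            (algebraMap Γ(X, W) (X.presheaf.stalk x) d) =
          IsLocalRing.residue _ (algebraMap Γ(X, W) (X.presheaf.stalk x) b)
        rw [← map_mul, hbd])
  have he : (t : Cardinal.{u}) = s := ht.symm.trans hs
  rw [hdim, Nat.cast_injective he]
  rfl

/-- The dimension of the closure of a point and of its local ring add up to the dimension. -/
theorem dim_closure_add_stalk [IsIntegral X] [LocallyOfFiniteType f] (x : X) :
    topologicalKrullDim (closure ({x} : Set X)) + ringKrullDim (X.presheaf.stalk x) =
      topologicalKrullDim X := by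
  obtain ⟨W, hW, hxW, -⟩ :=
    exists_isAffineOpen_mem_and_subset (X := X) (x := x) (U := ⊤) trivial
  haveI : Nonempty W := ⟨⟨x, hxW⟩⟩
  haveI : Nonempty (Scheme.Opens.toScheme W) := ⟨⟨x, hxW⟩⟩
  letI := (secStr f W).toAlgebra
  haveI : Algebra.FiniteType k Γ(X, W) := finiteType_secStr f hW
  have hξ : genericPoint X ∈ W :=
    ((genericPoint_spec X).specializes (Set.mem_univ x)).mem_open W.2 hxW
  have h0 := ringKrullDim_quotient_eq_height f hW hξ
  have hq : (hW.primeIdealOf ⟨genericPoint X, hξ⟩).asIdeal = ⊥ := by
    rw [show hW.primeIdealOf ⟨genericPoint X, hξ⟩ = genericPoint (Spec Γ(X, W)) from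
      hW.primeIdealOf_genericPoint, genericPoint_eq_bot_of_affine]
    rfl
  rw [hq, ringKrullDim_eq_of_ringEquiv (RingEquiv.quotientBot Γ(X, W)),
    ← BMCoh.topologicalKrullDim_closure_singleton,
    show closure ({genericPoint X} : Set X) = Set.univ from genericPoint_spec X,
    (Homeomorph.Set.univ X).isHomeomorph.topologicalKrullDim_eq] at h0
  have hloc : ringKrullDim (X.presheaf.stalk x) =
      ((hW.primeIdealOf ⟨x, hxW⟩).asIdeal.height : WithBot ℕ∞) := by
    let := X.presheaf.algebra_section_stalk ⟨x, hxW⟩
    haveI := hW.isLocalization_stalk ⟨x, hxW⟩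
    exact IsLocalization.AtPrime.ringKrullDim_eq_height _ (X.presheaf.stalk x)
  rw [BMCoh.topologicalKrullDim_closure_singleton, ← ringKrullDim_quotient_eq_height f hW hxW,
    hloc, add_comm, ← h0]
  exact DimFormula.height_add_ringKrullDim_quotient k (hW.primeIdealOf ⟨x, hxW⟩)

end Groth.Agent.StabLib

end
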