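/-
Truncations of polynomials and slopes.
-/
import Groth.Agent.StabLib.Poly

set_option autoImplicit false

open Polynomial StabCat

namespace Groth.Agent.StabLib

variable {P Q : ℚ[X]} {d ℓ : ℕ}

lemma coeff_topPart (ℓ d : ℕ) (P : ℚ[X]) (i : ℕ) :
    (topPart ℓ d P).coeff i = if d - ℓ ≤ i ∧ i ≤ d then P.coeff i else 0 := by
  rw [topPart, finsetSum_coeff]
  simp only [coeff_monomial, Finset.sum_ite_eq', Finset.mem_Icc]

lemma topPart_sub (ℓ d : ℕ) (P Q : ℚ[X]) :
    topPart ℓ d (P - Q) = topPart ℓ d P - topPart ℓ d Q := by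
  ext i
  simp only [coeff_topPart, coeff_sub]
  split_ifs <;> simp

lemma topPart_smul (ℓ d : ℕ) (c : ℚ) (P : ℚ[X]) : topPart ℓ d (c • P) = c • topPart ℓ d P := by
  ext i
  simp only [coeff_topPart, coeff_smul, smul_eq_mul]
  split_ifs <;> simp

lemma alpha_topPart (ℓ d : ℕ) (P : ℚ[X]) : alpha d (topPart ℓ d P) = alpha d P := by
  simp [alpha, coeff_topPart]

lemma D_topPart (ℓ d : ℕ) (P Q : ℚ[X]) :
    D d (topPart ℓ d P) (topPart ℓ d Q) = topPart ℓ d (D d P Q) := by
  rw [D, D, alpha_topPart, alpha_topPart, topPart_sub, topPart_smul, topPart_smul]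

lemma topPart_eq_self (h : d ≤ ℓ) (hd : P.natDegree ≤ d) : topPart ℓ d P = P := by
  ext i
  rw [coeff_topPart]
  split_ifs with hi
  · rfl
  · rw [coeff_eq_zero_of_natDegree_lt (by omega)]

lemma nn_topPart (h : Nn P) (hd : P.natDegree ≤ d) : Nn (topPart ℓ d P) := by
  by_cases hl : d - ℓ ≤ P.natDegree
  · rcases nn_iff.1 h with rfl | hp
    · rw [show topPart ℓ d (0 : ℚ[X]) = 0 by ext i; simp [coeff_topPart]]
      exact nn_zero
    have hc : (topPart ℓ d P).coeff P.natDegree = P.coeff P.natDegree := by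
      rw [coeff_topPart, if_pos ⟨hl, hd⟩]
    have hne : (topPart ℓ d P).natDegree = P.natDegree := by
      refine le_antisymm (natDegree_le_iff_coeff_eq_zero.2 fun i hi => ?_)
        (le_natDegree_of_ne_zero (by rw [hc]; exact ne_of_gt hp))
      rw [coeff_topPart]
      split_ifs
      · exact coeff_eq_zero_of_natDegree_lt hi
      · rfl
    rw [Nn, leadingCoeff, hne, hc]
    exact h
  · have : topPart ℓ d P = 0 := by
      ext i
      rw [coeff_topPart]
      split_ifs with hi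
      · rw [coeff_eq_zero_of_natDegree_lt (by omega), coeff_zero]
      · rw [coeff_zero]
    rw [this]
    exact nn_zero

lemma natDegree_D_le (hP : P.natDegree ≤ d) (hQ : Q.natDegree ≤ d) : (D d P Q).natDegree ≤ d :=
  (natDegree_sub_le _ _).trans
    (max_le ((natDegree_smul_le _ _).trans hQ) ((natDegree_smul_le _ _).trans hP))

lemma coeff_D_self (d : ℕ) (P Q : ℚ[X]) : (D d P Q).coeff d = 0 := by
  simp only [D, coeff_sub, coeff_smul, smul_eq_mul, alpha]
  ring

lemma natDegree_D_lt (hP : P.natDegree ≤ d) (hQ : Q.natDegree ≤ d) (hd : 1 ≤ d) :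
    (D d P Q).natDegree ≤ d - 1 := by
  refine natDegree_le_iff_coeff_eq_zero.2 fun i hi => ?_
  rcases (show d ≤ i by omega).eq_or_lt with rfl | h
  · exact coeff_D_self d P Q
  · exact coeff_eq_zero_of_natDegree_lt ((natDegree_D_le hP hQ).trans_lt h)

lemma coeff_nonneg_of_nn (h : Nn P) {n : ℕ} (hn : P.natDegree ≤ n) : 0 ≤ P.coeff n := by
  rcases hn.eq_or_lt with rfl | h'
  · exact h
  · rw [coeff_eq_zero_of_natDegree_lt h']

lemma coeff_D (d : ℕ) (P Q : ℚ[X]) (j : ℕ) :
    alpha j (D d P Q) = alpha d P * alpha j Q - alpha d Q * alpha j P := by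
  rw [D, alpha_sub, alpha_smul, alpha_smul]

lemma hatSlope_le (h : Nn (D d P Q)) (hP : P.natDegree ≤ d) (hQ : Q.natDegree ≤ d) (hd : 1 ≤ d)
    (aP : 0 < alpha d P) (aQ : 0 < alpha d Q) : hatSlope d P ≤ hatSlope d Q := by
  have h1 : 0 ≤ alpha (d - 1) (D d P Q) :=
    mul_nonneg (Nat.cast_nonneg _) (coeff_nonneg_of_nn h (natDegree_D_lt hP hQ hd))
  rw [coeff_D] at h1
  rw [hatSlope, hatSlope, div_le_div_iff₀ aP aQ]
  linarith

end Groth.Agent.StabLib
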