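/-
Slope semistability: Harder-Narasimhan filtrations, morphisms and extensions.
-/
import Groth.Agent.StabLib.Sheaf
import Groth.Agent.StabLib.Trunc
import Groth.Agent.CohQC.Extension

set_option autoImplicit false
set_option linter.style.haveILetI false
set_option linter.unusedSectionVars false
set_option backward.isDefEq.respectTransparency false
set_option backward.isDefEq.respectTransparency.types false

universe u

open CategoryTheory CategoryTheory.Limits AlgebraicGeometry StabCat Opposite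
open scoped Polynomial

namespace Groth.Agent.StabLib

/-- Comparison of slopes. -/
noncomputable def Dμ (d : ℕ) (P Q : ℚ[X]) : ℚ[X] := D d (topPart 1 d P) (topPart 1 d Q)

lemma Dμ_eq {d : ℕ} (hd : 1 ≤ d) (P Q : ℚ[X]) :
    Dμ d P Q = Polynomial.monomial (d - 1) ((D d P Q).coeff (d - 1)) := by
  ext i
  rw [Dμ, D_topPart, coeff_topPart, Polynomial.coeff_monomial]
  split_ifs with h1 h2 h2
  · subst h2; rfl
  · rw [show i = d by omega, coeff_D_self]
  · omega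
  · rfl

section slope

variable {d : ℕ} {P Q : ℚ[X]}

lemma slope_sign (hd : 1 ≤ d) (hP : 0 < alpha d P) (hQ : 0 < alpha d Q) :
    hatSlope d Q - hatSlope d P =
      ((d - 1).factorial : ℚ) * (D d P Q).coeff (d - 1) / (alpha d P * alpha d Q) := by
  have h := coeff_D d P Q (d - 1)
  rw [alpha] at h
  rw [h, hatSlope, hatSlope]
  field_simp

lemma nn_Dμ_iff (hd : 1 ≤ d) (hP : 0 < alpha d P) (hQ : 0 < alpha d Q) :
    Nn (Dμ d P Q) ↔ hatSlope d P ≤ hatSlope d Q := by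
  rw [Nn, Dμ_eq hd, Polynomial.leadingCoeff_monomial, ← sub_nonneg (a := hatSlope d Q),
    slope_sign hd hP hQ, div_nonneg_iff]
  have h1 : (0 : ℚ) < ((d - 1).factorial : ℚ) := by exact_mod_cast Nat.factorial_pos _
  have h2 : 0 < alpha d P * alpha d Q := mul_pos hP hQ
  constructor
  · exact fun h => Or.inl ⟨mul_nonneg h1.le h, h2.le⟩
  · rintro (⟨h, -⟩ | ⟨-, h⟩)
    · exact (mul_nonneg_iff_of_pos_left h1).1 h
    · exact absurd h (not_le.2 h2)

lemma pos_Dμ_iff (hd : 1 ≤ d) (hP : 0 < alpha d P) (hQ : 0 < alpha d Q) :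
    Pos (Dμ d P Q) ↔ hatSlope d P < hatSlope d Q := by
  rw [← not_iff_not, ← nn_neg_iff, not_lt, ← nn_Dμ_iff hd hQ hP, Dμ, Dμ, D_neg]

end slope

namespace OkSub

variable {C : Type*} [Category C] [Abelian C] {I : Inv C} {E : C} (hE : I.ok E) (d : ℕ)
  (hd : (I.hp E).natDegree ≤ d)

/-- The truncated valuation. -/
noncomputable def μval : Val (OkSub I E hE) d where
  v x := topPart 1 d ((val hE d hd).v x)
  modular x y := by
    have h := (val hE d hd).modular x y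
    ext i
    have hi := congrArg (fun P : ℚ[X] => P.coeff i) h
    simp only [Polynomial.coeff_add] at hi
    simp only [Polynomial.coeff_add, coeff_topPart]
    split_ifs <;> simp [hi]
  mono x y h := by
    rw [← topPart_sub]
    exact nn_topPart ((val hE d hd).mono x y h) ((Polynomial.natDegree_sub_le _ _).trans
      (max_le ((val hE d hd).deg y) ((val hE d hd).deg x)))
  deg x := by
    refine Polynomial.natDegree_le_iff_coeff_eq_zero.2 fun i hi => ?_
    rw [coeff_topPart, if_neg (by omega)]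
  int x := by
    rw [alpha_topPart]
    exact (val hE d hd).int x

variable {hE d hd}

lemma μval_q (x y : OkSub I E hE) :
    (μval hE d hd).q x y = topPart 1 d ((val hE d hd).q x y) :=
  (topPart_sub 1 d _ _).symm

lemma μval_a (x y : OkSub I E hE) : (μval hE d hd).a x y = (val hE d hd).a x y := by
  rw [Val.a, μval_q, alpha_topPart]
  rfl

end OkSub

namespace Inv

variable {C : Type*} [Category C] [Abelian C] {I : Inv C} {d : ℕ}

/-- Pure and slope semistable. -/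
def MSS (I : Inv C) (d : ℕ) (G : C) : Prop :=
  I.ok G ∧ ¬ IsZero G ∧ I.Pure d G ∧ ∀ (F : C) (ι : F ⟶ G), Mono ι → I.ok F → ¬ IsZero F →
    Nn (Dμ d (I.hp F) (I.hp G))

lemma MSS.of_iso {A B : C} (e : A ≅ B) (h : I.MSS d B) : I.MSS d A :=
  ⟨ok_of_iso' e h.1, fun h0 => h.2.1 (h0.of_iso e.symm), h.2.2.1.of_iso e,
    fun F ι hι hF h0 => by
      rw [I.hp_iso e (ok_of_iso' e h.1)]
      exact h.2.2.2 F (ι ≫ e.hom) (mono_comp _ _) hF h0⟩

lemma MSS.alpha_pos {G : C} (h : I.MSS d G) : 0 < alpha d (I.hp G) :=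
  h.2.2.1.alpha_pos (𝟙 G) h.1 h.2.1

lemma MSS.nn_sub {G : C} (h : I.MSS d G) {F : C} (ι : F ⟶ G) [Mono ι] (hF : I.ok F) :
    Nn (Dμ d (I.hp F) (I.hp G)) := by
  by_cases h0 : IsZero F
  · rw [Dμ, I.hp_zero h0 hF, D_topPart, D_zero_left, show topPart 1 d (0 : ℚ[X]) = 0 by
      ext i; simp [coeff_topPart]]
    exact nn_zero
  exact h.2.2.2 F ι inferInstance hF h0

lemma mss_quo_iff {E : C} {hE : I.ok E} {hd : (I.hp E).natDegree ≤ d} {x y : OkSub I E hE}
    (h : x ≤ y) : I.MSS d (OkSub.quo x y h) ↔ (OkSub.μval hE d hd).SS x y := by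
  constructor
  · intro hs
    have hlt : x < y := h.lt_of_ne fun e => hs.2.1 ((I.hp_eq_zero_iff (OkSub.ok_quo _)).1 (by
      rw [← OkSub.q_eq (hd := hd) h, e, Val.q_self]))
    refine ⟨hlt, fun z hz hzy => ⟨?_, ?_⟩⟩
    · rw [OkSub.μval_a]
      exact (OkSub.pure_quo_iff (hd := hd) h).1 hs.2.2.1 z hz hzy
    · obtain ⟨m, hm⟩ := OkSub.exists_mono_of_le hz.le hzy
      rw [OkSub.μval_q, OkSub.μval_q, OkSub.q_eq hz.le, OkSub.q_eq h]
      exact hs.nn_sub m (OkSub.ok_quo _)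
  · intro hs
    refine ⟨OkSub.ok_quo _, OkSub.not_isZero_quo hs.lt hd,
      (OkSub.pure_quo_iff (hd := hd) h).2 fun z hz hzy => ?_, fun G ι hι hG h0 => ?_⟩
    · have := (hs.2 z hz hzy).1
      rwa [OkSub.μval_a] at this
    · obtain ⟨N, hxN, hNy, hq, hz, -⟩ := OkSub.exists_of_mono (hd := hd) h ι hG
      rw [← hq, ← OkSub.q_eq (hd := hd) h, Dμ, ← OkSub.μval_q, ← OkSub.μval_q]
      exact hs.nn_le hxN hNy

/-- Filtrations with slope semistable factors of decreasing slope. -/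
def IsMHN (I : Inv C) (d : ℕ) {E : C} (s : LTSeries (Subobject E)) : Prop :=
  s.head = ⊥ ∧ s.last = ⊤ ∧ (∀ i : Fin s.length, I.MSS d (factor s i)) ∧
    ∀ i j : Fin s.length, i.val + 1 = j.val →
      Pos (Dμ d (I.hp (factor s j)) (I.hp (factor s i)))

theorem existsUnique_isMHN {E : C} (hE : I.ok E) (hp : I.Pure d E) :
    ∃! s : LTSeries (Subobject E), I.IsMHN d s := by
  have hd := hp.deg_le hE
  have hK : (OkSub.μval hE d hd).PureAbove ⊥ := fun N hN => by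
    rw [OkSub.μval_a]
    exact (OkSub.pure_iff (hE := hE) (hd := hd)).1 hp N hN
  obtain ⟨n, f, hf, hf0, hfn⟩ := (OkSub.μval hE d hd).exists_isHN ⊥ hK
  have hlt : ∀ i < n, f i < f (i + 1) := fun i hi => (hf.ss i hi).lt
  refine ⟨OkSub.toSeries n f hlt, ⟨OkSub.toSeries_head n f hlt hf0,
    OkSub.toSeries_last n f hlt hfn,
    fun i => (mss_quo_iff (hd := hd) (hlt i.1 i.2).le).2 (hf.ss i.1 i.2),
    fun i j hij => ?_⟩, fun t ht => ?_⟩
  · have := hf.dec i.1 (hij ▸ j.2)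
    rw [OkSub.μval_q, OkSub.μval_q, OkSub.q_eq (hlt i.1 i.2).le,
      OkSub.q_eq (hlt (i.1 + 1) (hij ▸ j.2)).le] at this
    have hj : j = ⟨i.1 + 1, hij ▸ j.2⟩ := Fin.ext hij.symm
    rw [hj]
    exact this
  · obtain ⟨g, hg⟩ := OkSub.exists_lift hE t ht.2.1 fun i => (ht.2.2.1 i).1
    have key : ∀ (i : ℕ) (hi : i < t.length),
        (OkSub.μval hE d hd).SS (g i) (g (i + 1)) ∧
        (OkSub.μval hE d hd).q (g i) (g (i + 1)) = topPart 1 d (I.hp (factor t ⟨i, hi⟩)) := by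
      intro i hi
      obtain ⟨hlt', ⟨e⟩⟩ := OkSub.factor_eq t g hg i hi
      refine ⟨(mss_quo_iff (hd := hd) hlt'.le).1 ((ht.2.2.1 ⟨i, hi⟩).of_iso e.symm), ?_⟩
      rw [OkSub.μval_q, OkSub.q_eq hlt'.le, I.hp_iso e.symm (OkSub.ok_quo _)]
    have hgHN : (OkSub.μval hE d hd).IsHN t.length g :=
      ⟨fun i hi => (key i hi).1, fun i hi => by
        rw [(key i (by omega)).2, (key (i + 1) hi).2]
        exact ht.2.2.2 ⟨i, by omega⟩ ⟨i + 1, hi⟩ rfl⟩
    have hg0 : g 0 = ⊥ := Subtype.ext ((hg 0).trans ht.1)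
    have hgn : g t.length = ⊤ := Subtype.ext ((hg (Fin.last _)).trans ht.2.1)
    obtain ⟨hlen, heq⟩ := hgHN.unique hgn hf hfn (hg0.trans hf0.symm)
    exact OkSub.eq_toSeries t n f hlt hlen fun i => by
      rw [← heq i.1 (Nat.lt_succ_iff.1 i.2)]; exact hg i

theorem mhom_eq_zero {F G : C} (hF : I.MSS d F) (hG : I.MSS d G)
    (hlt : Pos (Dμ d (I.hp G) (I.hp F))) (φ : F ⟶ G) : φ = 0 := by
  by_contra hφ
  have hi := ok_image hF.1 hG.1 φ
  have hpos := hG.2.2.1.alpha_pos (Abelian.image.ι φ) hi (not_isZero_image hF.1 hG.1 φ hφ)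
  have h1 : Nn (Dμ d (I.hp F) (I.hp (Abelian.image φ))) := by
    rw [Dμ, eq_sub_of_add_eq' (hp_image hF.1 hG.1 φ).symm, topPart_sub, D_sub_right, D_self,
      zero_sub, D_neg]
    exact hF.nn_sub (kernel.ι φ) (I.ok_kernel φ hF.1 hG.1)
  have h2 : Nn (Dμ d (I.hp (Abelian.image φ)) (I.hp G)) := hG.nn_sub (Abelian.image.ι φ) hi
  refine not_pos_D d (nn_D_trans d (Q := topPart 1 d (I.hp (Abelian.image φ))) ?_ ?_ ?_ h1 h2) hlt
  · rw [alpha_topPart]; exact hpos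
  · rw [alpha_topPart]; exact hF.alpha_pos.le
  · rw [alpha_topPart]; exact hG.alpha_pos.le

theorem mss_extension {T : ShortComplex C} (hT : T.ShortExact) (h2 : I.ok T.X₂)
    (hF : I.MSS d T.X₁) (hG : I.MSS d T.X₃)
    (heq : Dμ d (I.hp T.X₁) (I.hp T.X₃) = 0) :
    I.MSS d T.X₂ ∧ Dμ d (I.hp T.X₂) (I.hp T.X₁) = 0 := by
  haveI := hT.mono_f
  have hadd := I.hp_add hT hF.1 h2 hG.1
  have e13 : Dμ d (I.hp T.X₃) (I.hp T.X₁) = 0 := by
    rw [Dμ, ← D_neg]; exact neg_eq_zero.2 heq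
  have e12 : Dμ d (I.hp T.X₁) (I.hp T.X₂) = 0 := by
    rw [Dμ, D_topPart, hadd, D_add_right, D_self, zero_add, ← D_topPart]
    exact heq
  have e32 : Dμ d (I.hp T.X₃) (I.hp T.X₂) = 0 := by
    rw [Dμ, D_topPart, hadd, D_add_right, D_self, add_zero, ← D_topPart]
    exact e13
  have e21 : Dμ d (I.hp T.X₂) (I.hp T.X₁) = 0 := by
    rw [Dμ, ← D_neg]; exact neg_eq_zero.2 e12
  -- decomposition of a subobject
  have split : ∀ (F : C) (ι : F ⟶ T.X₂), Mono ι → I.ok F →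
      ∃ (K M : C) (a : K ⟶ T.X₁) (b : M ⟶ T.X₃), Mono a ∧ Mono b ∧ I.ok K ∧ I.ok M ∧
        I.hp F = I.hp K + I.hp M := by
    intro F ι hι hFok
    have hK := I.ok_kernel (ι ≫ T.g) hFok hG.1
    refine ⟨kernel (ι ≫ T.g), Abelian.image (ι ≫ T.g),
      hT.exact.lift (kernel.ι (ι ≫ T.g) ≫ ι) (by rw [Category.assoc, kernel.condition]),
      Abelian.image.ι _, ?_, inferInstance, hK, ok_image hFok hG.1 _, hp_image hFok hG.1 _⟩
    haveI : Mono (hT.exact.lift (kernel.ι (ι ≫ T.g) ≫ ι)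
        (by rw [Category.assoc, kernel.condition]) ≫ T.f) := by
      rw [ShortComplex.Exact.lift_f]; exact mono_comp _ _
    exact mono_of_mono _ T.f
  have alpha_nn : ∀ {A B : C} (f : A ⟶ B) [Mono f], I.ok A → I.Pure d B →
      0 ≤ alpha d (I.hp A) := fun {A B} f _ hA hB => by
    by_cases h0 : IsZero A
    · rw [I.hp_zero h0 hA, alpha_zero]
    · exact (hB.alpha_pos f hA h0).le
  refine ⟨⟨h2, fun hz => hF.2.1 (IsZero.of_mono T.f hz), fun F ι hι hFok h0 => ?_,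
    fun F ι hι hFok h0 => ?_⟩, e21⟩
  · obtain ⟨K, M, a, b, ha, hb, hK, hM, e⟩ := split F ι hι hFok
    have hdeg : (I.hp F).natDegree ≤ d := by
      rw [e]
      exact (Polynomial.natDegree_add_le _ _).trans (max_le
        ((I.deg_le_of_mono a hK hF.1).trans (hF.2.2.1.deg_le hF.1))
        ((I.deg_le_of_mono b hM hG.1).trans (hG.2.2.1.deg_le hG.1)))
    refine ((alpha_pos_iff d (I.nn_hp hFok) hdeg).1 ?_).2
    rw [e, alpha_add]
    by_cases hK0 : IsZero K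
    · by_cases hM0 : IsZero M
      · refine absurd ((I.hp_eq_zero_iff hFok).1 ?_) h0
        rw [e, I.hp_zero hK0 hK, I.hp_zero hM0 hM, add_zero]
      · exact add_pos_of_nonneg_of_pos (alpha_nn a hK hF.2.2.1) (hG.2.2.1.alpha_pos b hM hM0)
    · exact add_pos_of_pos_of_nonneg (hF.2.2.1.alpha_pos a hK hK0) (alpha_nn b hM hG.2.2.1)
  · obtain ⟨K, M, a, b, ha, hb, hK, hM, e⟩ := split F ι hι hFok
    have haH : 0 ≤ alpha d (I.hp T.X₂) := by
      rw [hadd, alpha_add]; exact (add_pos hF.alpha_pos hG.alpha_pos).le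
    rw [Dμ, D_topPart, e, D_add_left]
    have i1 : Nn (Dμ d (I.hp K) (I.hp T.X₂)) := by
      refine nn_D_trans d (Q := topPart 1 d (I.hp T.X₁)) ?_ ?_ ?_ (hF.nn_sub a hK) ?_
      · rw [alpha_topPart]; exact hF.alpha_pos
      · rw [alpha_topPart]; exact alpha_nn a hK hF.2.2.1
      · rw [alpha_topPart]; exact haH
      · exact (show D d (topPart 1 d (I.hp T.X₁)) (topPart 1 d (I.hp T.X₂)) = 0 from e12) ▸ nn_zero
    have i2 : Nn (Dμ d (I.hp M) (I.hp T.X₂)) := by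
      refine nn_D_trans d (Q := topPart 1 d (I.hp T.X₃)) ?_ ?_ ?_ (hG.nn_sub b hM) ?_
      · rw [alpha_topPart]; exact hG.alpha_pos
      · rw [alpha_topPart]; exact alpha_nn b hM hG.2.2.1
      · rw [alpha_topPart]; exact haH
      · exact (show D d (topPart 1 d (I.hp T.X₃)) (topPart 1 d (I.hp T.X₂)) = 0 from e32) ▸ nn_zero
    rw [Dμ, D_topPart] at i1 i2
    have := i1.add i2
    rwa [show topPart 1 d (D d (I.hp K) (I.hp T.X₂) + D d (I.hp M) (I.hp T.X₂)) =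
        topPart 1 d (D d (I.hp K) (I.hp T.X₂)) + topPart 1 d (D d (I.hp M) (I.hp T.X₂)) by
      ext i; simp only [Polynomial.coeff_add, coeff_topPart]; split_ifs <;> simp]

end Inv

namespace Sh

variable {X : Scheme.{u}}

theorem sections_exact (S : ShortComplex X.Modules) (hS : S.ShortExact) (U : X.Opens) :
    Function.Exact (QC.appₗ S.f U) (QC.appₗ S.g U) := by
  haveI := hS.mono_f
  haveI : (Scheme.Modules.toPresheaf X ⋙ (evaluation _ Ab.{u}).obj (op U)).PreservesZeroMorphisms :=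
    ⟨fun _ _ => rfl⟩
  haveI : PreservesFiniteLimits (Scheme.Modules.toPresheaf X) :=
    PreservesLimitsOfSize.preservesFiniteLimits (F := Scheme.Modules.toPresheaf X)
  haveI : PreservesFiniteLimits (Scheme.Modules.toPresheaf X ⋙ (evaluation _ Ab.{u}).obj (op U)) :=
    haveI : PreservesFiniteLimits ((evaluation (TopologicalSpace.Opens ↥X)ᵒᵖ Ab.{u}).obj (op U)) :=
      ⟨fun _ _ _ => evaluation_preservesLimitsOfShape _⟩
    comp_preservesFiniteLimits _ _
  have h : (S.map (Scheme.Modules.toPresheaf X ⋙ (evaluation _ _).obj (op U))).Exact :=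
    hS.exact.map_of_mono_of_preservesKernel _ hS.mono_f inferInstance
  exact ShortComplex.ab_exact_iff_function_exact _ |>.1 h

/-- Extensions of coherent modules are coherent. -/
theorem isCoh_mid [IsLocallyNoetherian X] {S : ShortComplex X.Modules} (hS : S.ShortExact)
    (h₁ : Coh.IsCoh S.X₁) (h₃ : Coh.IsCoh S.X₃) : Coh.IsCoh S.X₂ := by
  have hq := CohQC.isQCoh_mid S hS h₁.1 h₃.1
  refine QC.isCoh_iff_finite_sections.2 ⟨hq, fun U => ?_⟩
  haveI := hS.epi_g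
  haveI := (QC.isCoh_iff_finite_sections.1 h₁).2 U
  haveI := (QC.isCoh_iff_finite_sections.1 h₃).2 U
  exact Module.Finite.of_exact (f := QC.appₗ S.f U.1) (g := QC.appₗ S.g U.1)
    (sections_exact S hS U.1) (QC.app_surjective_of_epi U.2 hq h₃.1 S.g)

variable (k : Type u) [Field k] [X.Over (Spec (CommRingCat.of k))]
  [IsProper (X ↘ Spec (CommRingCat.of k))] {L : X.Modules} (hL : CohB1.IsAmple L) {d : ℕ}
include hL

local notation "𝕀" => inv k hL

lemma mss_iff (hd : 1 ≤ d) (G : X.Modules) :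
    (ShStab.IsPure X G d ∧ ShStab.IsMuSemistable k X L G d) ↔ Inv.MSS 𝕀 d G := by
  constructor
  · rintro ⟨hp, hc, h0, -, -, hss⟩
    have hp' := (isPure_iff k hL G d).1 hp
    have hG : Inv.ok 𝕀 G := hc
    refine ⟨hG, h0, hp', fun F ι hι hF hF0 => ?_⟩
    haveI := hι
    have haF := hp'.alpha_pos ι hF hF0
    have hdG := hp'.deg_le hG
    have hdF := (Inv.deg_le_of_mono 𝕀 ι hF hG).trans hdG
    have hle : alpha d (Inv.hp 𝕀 F) ≤ alpha d (Inv.hp 𝕀 G) := by
      have hC := Inv.ok_cokernel 𝕀 ι hF hG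
      have e := Inv.hp_cokernel 𝕀 ι hF hG
      have hn := alpha_nonneg d (Inv.nn_hp 𝕀 hC) (show (Inv.hp 𝕀 (cokernel ι)).natDegree ≤ d by
        rw [show Inv.hp 𝕀 (cokernel ι) = Inv.hp 𝕀 G - Inv.hp 𝕀 F by rw [e, add_sub_cancel_left]]
        exact (Polynomial.natDegree_sub_le _ _).trans (max_le hdG hdF))
      rw [e, alpha_add]
      linarith
    rcases hle.eq_or_lt with he | hlt
    · rw [Dμ, D, alpha_topPart, alpha_topPart, he, ← smul_sub, ← topPart_sub]
      refine (nn_topPart ?_ ((Polynomial.natDegree_sub_le _ _).trans (max_le hdG hdF))).smul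
        (he ▸ haF.le)
      rw [Inv.hp_cokernel 𝕀 ι hF hG, add_sub_cancel_left]
      exact Inv.nn_hp 𝕀 (Inv.ok_cokernel 𝕀 ι hF hG)
    · exact (nn_Dμ_iff hd haF (haF.trans hlt)).2 (hss F ι hι hF _ _ (isHilbPoly_hp k hL.1 hF)
        (isHilbPoly_hp k hL.1 hc) haF hlt)
  · rintro ⟨hc, h0, hp', hss⟩
    have hp := (isPure_iff k hL G d).2 hp'
    refine ⟨hp, hc, h0, hp G (𝟙 G) inferInstance hc h0, fun F ι hι hF he => ?_,
      fun F ι hι hF pF pG hpF hpG ha hlt => ?_⟩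
    · by_cases hF0 : IsZero F
      · rw [isEmpty_support hF0, dim_empty, WithBot.bot_add] at he
        exact (WithBot.bot_ne_coe (a := ((d : ℕ∞)))) he
      · rw [hp F ι hι hF hF0] at he
        have := Nat.cast_injective
          (show ((d + 1 : ℕ) : WithBot ℕ∞) = (d : WithBot ℕ∞) by push_cast; exact he)
        omega
    · rw [(hilb_iff k hL.1 hF pF).1 hpF] at ha hlt ⊢
      rw [(hilb_iff k hL.1 hc pG).1 hpG] at hlt ⊢
      haveI := hι
      exact (nn_Dμ_iff hd ha (ha.trans hlt)).1 (hss F ι hι hF fun hz => by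
        change 0 < alpha d (Inv.hp 𝕀 F) at ha
        rw [Inv.hp_zero 𝕀 hz hF, alpha_zero] at ha
        exact lt_irrefl _ ha)

theorem existsUnique_muHN (hd : 1 ≤ d) (E : X.Modules) (hE : Coh.IsCoh E)
    (hp : ShStab.IsPure X E d) :
    ∃! s : LTSeries (Subobject E), s.head = ⊥ ∧ s.last = ⊤ ∧ (∀ i : Fin s.length, ShStab.IsPure X (StabCat.factor s i) d ∧ ShStab.IsMuSemistable k X L (StabCat.factor s i) d) ∧ ∀ (i j : Fin s.length), i.val + 1 = j.val → ∀ (p q : ℚ[X]), ShStab.IsHilbPoly k X L (StabCat.factor s i) p → ShStab.IsHilbPoly k X L (StabCat.factor s j) q → StabCat.hatSlope d q < StabCat.hatSlope d p := by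
  have key : ∀ s : LTSeries (Subobject E), (s.head = ⊥ ∧ s.last = ⊤ ∧ (∀ i : Fin s.length, ShStab.IsPure X (StabCat.factor s i) d ∧ ShStab.IsMuSemistable k X L (StabCat.factor s i) d) ∧ ∀ (i j : Fin s.length), i.val + 1 = j.val → ∀ (p q : ℚ[X]), ShStab.IsHilbPoly k X L (StabCat.factor s i) p → ShStab.IsHilbPoly k X L (StabCat.factor s j) q → StabCat.hatSlope d q < StabCat.hatSlope d p) ↔ Inv.IsMHN 𝕀 d s := by
    intro s
    constructor
    · rintro ⟨h1, h2, h3, h4⟩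
      have h3' := fun i => (mss_iff k hL hd _).1 (h3 i)
      exact ⟨h1, h2, h3', fun i j hij => (pos_Dμ_iff hd (h3' j).alpha_pos (h3' i).alpha_pos).2
        (h4 i j hij _ _ (isHilbPoly_hp k hL.1 (h3' i).1) (isHilbPoly_hp k hL.1 (h3' j).1))⟩
    · rintro ⟨h1, h2, h3, h4⟩
      refine ⟨h1, h2, fun i => (mss_iff k hL hd _).2 (h3 i), fun i j hij p q hp hq => ?_⟩
      rw [(hilb_iff k hL.1 (h3 i).1 p).1 hp, (hilb_iff k hL.1 (h3 j).1 q).1 hq]
      exact (pos_Dμ_iff hd (h3 j).alpha_pos (h3 i).alpha_pos).1 (h4 i j hij)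
  simp only [key]
  exact Inv.existsUnique_isMHN (I := 𝕀) hE ((isPure_iff k hL E d).1 hp)

theorem muHom_eq_zero (hd : 1 ≤ d) {F G : X.Modules} (hFt : ShStab.IsPure X F d)
    (hGt : ShStab.IsPure X G d) (hF : ShStab.IsMuSemistable k X L F d)
    (hG : ShStab.IsMuSemistable k X L G d) {pF pG : ℚ[X]}
    (hpF : ShStab.IsHilbPoly k X L F pF) (hpG : ShStab.IsHilbPoly k X L G pG)
    (hlt : StabCat.hatSlope d pG < StabCat.hatSlope d pF) (φ : F ⟶ G) : φ = 0 := by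
  have h1 := (mss_iff k hL hd F).1 ⟨hFt, hF⟩
  have h2 := (mss_iff k hL hd G).1 ⟨hGt, hG⟩
  rw [(hilb_iff k hL.1 hF.1 pF).1 hpF, (hilb_iff k hL.1 hG.1 pG).1 hpG] at hlt
  exact Inv.mhom_eq_zero h1 h2 ((pos_Dμ_iff hd h2.alpha_pos h1.alpha_pos).2 hlt) φ

theorem mu_extension (hd : 1 ≤ d) (T : ShortComplex X.Modules) (hT : T.ShortExact)
    (hFt : ShStab.IsPure X T.X₁ d) (hGt : ShStab.IsPure X T.X₃ d)
    (hF : ShStab.IsMuSemistable k X L T.X₁ d) (hG : ShStab.IsMuSemistable k X L T.X₃ d)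
    {pF pG : ℚ[X]} (hpF : ShStab.IsHilbPoly k X L T.X₁ pF)
    (hpG : ShStab.IsHilbPoly k X L T.X₃ pG)
    (hμ : StabCat.hatSlope d pF = StabCat.hatSlope d pG) :
    ShStab.IsMuSemistable k X L T.X₂ d ∧
      ∀ pH : ℚ[X], ShStab.IsHilbPoly k X L T.X₂ pH → StabCat.hatSlope d pH = StabCat.hatSlope d pF := by
  haveI := CurveRR.isNoetherian_of_proper k X
  have h1 := (mss_iff k hL hd _).1 ⟨hFt, hF⟩
  have h3 := (mss_iff k hL hd _).1 ⟨hGt, hG⟩
  rw [(hilb_iff k hL.1 hF.1 pF).1 hpF, (hilb_iff k hL.1 hG.1 pG).1 hpG] at hμ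
  have h2 : Inv.ok 𝕀 T.X₂ := isCoh_mid hT hF.1 hG.1
  have hz : Dμ d (Inv.hp 𝕀 T.X₁) (Inv.hp 𝕀 T.X₃) = 0 := by
    refine eq_zero_of_nn_neg ((nn_Dμ_iff hd h1.alpha_pos h3.alpha_pos).2 hμ.le) ?_
    rw [Dμ, D_neg]
    exact (nn_Dμ_iff hd h3.alpha_pos h1.alpha_pos).2 hμ.ge
  obtain ⟨hm, he⟩ := Inv.mss_extension hT h2 h1 h3 hz
  refine ⟨((mss_iff k hL hd _).2 hm).2, fun pH hpH => ?_⟩
  rw [(hilb_iff k hL.1 h2 pH).1 hpH, (hilb_iff k hL.1 hF.1 pF).1 hpF]
  refine le_antisymm ((nn_Dμ_iff hd hm.alpha_pos h1.alpha_pos).1 (he.symm ▸ nn_zero)) ?_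
  refine (nn_Dμ_iff hd h1.alpha_pos hm.alpha_pos).1 ?_
  rw [Dμ, ← D_neg, show D d _ _ = (0 : ℚ[X]) from he, neg_zero]
  exact nn_zero

end Sh

end Groth.Agent.StabLib
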