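/-
Semistable coherent sheaves: basic theorems.
-/
import Groth.Agent.StabLib.Sheaf
import Groth.Agent.StabLib.Trunc

set_option autoImplicit false
set_option linter.style.haveILetI false
set_option linter.unusedSectionVars false
set_option backward.isDefEq.respectTransparency false
set_option backward.isDefEq.respectTransparency.types false

universe u

open CategoryTheory CategoryTheory.Limits AlgebraicGeometry StabCat
open scoped Polynomial

namespace Groth.Agent.StabLib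

namespace Inv

variable {C : Type*} [Category C] [Abelian C] {I : Inv C} {d : ℕ} {E : C}

lemma hp_sub_nn {F : C} (ι : F ⟶ E) [Mono ι] (hF : I.ok F) (hE : I.ok E) :
    Nn (I.hp E - I.hp F) := by
  rw [I.hp_cokernel ι hF hE, add_sub_cancel_left]
  exact I.nn_hp (I.ok_cokernel ι hF hE)

lemma not_isZero_cokernel {F : C} (ι : F ⟶ E) [Mono ι] (hi : ¬ IsIso ι) :
    ¬ IsZero (cokernel ι) := fun hz => hi (by
  haveI : Epi ι := Abelian.epi_of_cokernel_π_eq_zero _ (hz.eq_of_tgt _ _)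
  exact isIso_of_mono_of_epi ι)

lemma not_isZero_kernel {G : C} (π : E ⟶ G) [Epi π] (hi : ¬ IsIso π) : ¬ IsZero (kernel π) :=
  fun hz => hi (by
    haveI : Mono π := Preadditive.mono_of_isZero_kernel π hz
    exact isIso_of_mono_of_epi π)

lemma D_of_alpha_eq {P Q : ℚ[X]} (h : alpha d P = alpha d Q) :
    D d P Q = alpha d Q • (Q - P) := by
  rw [D, h, smul_sub]

lemma D_sat {P M Q : ℚ[X]} (h : alpha d M = alpha d P) :
    D d P Q = D d M Q + alpha d Q • (M - P) := by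
  simp only [D, h, smul_sub]; abel

variable (hE : I.ok E) (hp : I.Pure d E)
include hE hp

lemma alpha_le_of_mono {F : C} (ι : F ⟶ E) [Mono ι] (hF : I.ok F) :
    alpha d (I.hp F) ≤ alpha d (I.hp E) := by
  have h := alpha_nonneg d (hp_sub_nn ι hF hE) ((Polynomial.natDegree_sub_le _ _).trans
    (max_le (hp.deg_le hE) ((I.deg_le_of_mono ι hF hE).trans (hp.deg_le hE))))
  rw [alpha_sub] at h
  linarith

/-- Reduction to saturated subobjects. -/
lemma nn_of_saturated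
    (h : ∀ (M : C) (j : M ⟶ E), Mono j → I.ok M → ¬ IsZero M → ¬ IsIso j →
      I.Pure d (cokernel j) → Nn (D d (I.hp M) (I.hp E)))
    {F : C} (ι : F ⟶ E) [Mono ι] (hF : I.ok F) (hF0 : ¬ IsZero F) :
    Nn (D d (I.hp F) (I.hp E)) := by
  have haE : 0 ≤ alpha d (I.hp E) := alpha_nonneg d (I.nn_hp hE) (hp.deg_le hE)
  obtain ⟨M, j, hj, hM, hM0, hpc, ha, hnn, hiso⟩ := exists_saturated hE hp ι hF hF0
  by_cases hi : IsIso j
  · have e := hiso hi
    rw [D_of_alpha_eq (by rw [← ha, e]), ← e]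
    exact hnn.smul (e ▸ haE)
  · rw [D_sat ha]
    exact (h M j hj hM hM0 hi hpc).add (hnn.smul haE)

/-- Reduction to saturated subobjects, strictly. -/
lemma pos_of_saturated
    (h : ∀ (M : C) (j : M ⟶ E), Mono j → I.ok M → ¬ IsZero M → ¬ IsIso j →
      I.Pure d (cokernel j) → Pos (D d (I.hp M) (I.hp E)))
    {F : C} (ι : F ⟶ E) [Mono ι] (hF : I.ok F) (hF0 : ¬ IsZero F) (hiι : ¬ IsIso ι) :
    Pos (D d (I.hp F) (I.hp E)) := by
  obtain ⟨M, j, hj, hM, hM0, hpc, ha, hnn, hiso⟩ := exists_saturated hE hp ι hF hF0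
  have haE : 0 < alpha d (I.hp E) := hp.alpha_pos (𝟙 E) hE fun hz =>
    hF0 (IsZero.of_mono ι hz)
  by_cases hi : IsIso j
  · rw [D_of_alpha_eq (by rw [← ha, hiso hi]), I.hp_cokernel ι hF hE, add_sub_cancel_left]
    exact (I.hp_pos (I.ok_cokernel ι hF hE) (not_isZero_cokernel ι hiι)).smul
      (I.hp_cokernel ι hF hE ▸ haE)
  · rw [D_sat ha]
    exact (h M j hj hM hM0 hi hpc).add_nn (hnn.smul haE.le)

end Inv

namespace Sh

variable {X : Scheme.{u}} (k : Type u) [Field k] [X.Over (Spec (CommRingCat.of k))]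
  [IsProper (X ↘ Spec (CommRingCat.of k))] {L : X.Modules} (hL : CohB1.IsAmple L) (d : ℕ)
include hL

local notation "𝕀" => inv k hL

theorem existsUnique_HN (E : X.Modules) (hE : Coh.IsCoh E) (hp : ShStab.IsPure X E d) :
    ∃! s : LTSeries (Subobject E), ShStab.IsHNFiltration k X L E d s := by
  simp only [isHN_iff k hL]
  exact Inv.existsUnique_isHNo (I := 𝕀) hE ((isPure_iff k hL E d).1 hp)

theorem hom_eq_zero {F G : X.Modules} (hF : ShStab.IsSemistable k X L F d)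
    (hG : ShStab.IsSemistable k X L G d) {pF pG : ℚ[X]} (hpF : ShStab.IsHilbPoly k X L F pF)
    (hpG : ShStab.IsHilbPoly k X L G pG) (hlt : StabCat.RedLT d pG pF) (φ : F ⟶ G) : φ = 0 := by
  rw [redLT_iff, (hilb_iff k hL.1 hF.1 pF).1 hpF, (hilb_iff k hL.1 hG.1 pG).1 hpG] at hlt
  exact Inv.hom_eq_zero (I := 𝕀) ((isSemistable_iff k hL F d).1 hF)
    ((isSemistable_iff k hL G d).1 hG) hlt φ

theorem mono_of_ne_zero {F G : X.Modules} (hF : ShStab.IsStable k X L F d)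
    (hG : ShStab.IsSemistable k X L G d) {pF pG : ℚ[X]} (hpF : ShStab.IsHilbPoly k X L F pF)
    (hpG : ShStab.IsHilbPoly k X L G pG) (heq : StabCat.RedEq d pF pG) (φ : F ⟶ G) (hφ : φ ≠ 0) :
    Mono φ := by
  rw [redEq_iff, (hilb_iff k hL.1 hF.1 pF).1 hpF, (hilb_iff k hL.1 hG.1 pG).1 hpG] at heq
  exact Inv.mono_of_ne_zero (I := 𝕀) ((isStable_iff k hL F d).1 hF)
    ((isSemistable_iff k hL G d).1 hG) heq φ hφ

theorem epi_of_ne_zero {F G : X.Modules} (hF : ShStab.IsSemistable k X L F d)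
    (hG : ShStab.IsStable k X L G d) {pF pG : ℚ[X]} (hpF : ShStab.IsHilbPoly k X L F pF)
    (hpG : ShStab.IsHilbPoly k X L G pG) (heq : StabCat.RedEq d pF pG) (φ : F ⟶ G) (hφ : φ ≠ 0) :
    Epi φ := by
  rw [redEq_iff, (hilb_iff k hL.1 hF.1 pF).1 hpF, (hilb_iff k hL.1 hG.1 pG).1 hpG] at heq
  exact Inv.epi_of_ne_zero (I := 𝕀) ((isSemistable_iff k hL F d).1 hF)
    ((isStable_iff k hL G d).1 hG) heq φ hφ

theorem isIso_of_ne_zero {F G : X.Modules} (hF : ShStab.IsSemistable k X L F d)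
    (hG : ShStab.IsSemistable k X L G d)
    (hst : ShStab.IsStable k X L F d ∨ ShStab.IsStable k X L G d) {P : ℚ[X]}
    (hpF : ShStab.IsHilbPoly k X L F P) (hpG : ShStab.IsHilbPoly k X L G P) (φ : F ⟶ G)
    (hφ : φ ≠ 0) : IsIso φ :=
  Inv.isIso_of_ne_zero (I := 𝕀) ((isSemistable_iff k hL F d).1 hF)
    ((isSemistable_iff k hL G d).1 hG)
    (hst.imp (isStable_iff k hL F d).1 (isStable_iff k hL G d).1)
    (((hilb_iff k hL.1 hF.1 P).1 hpF).symm.trans ((hilb_iff k hL.1 hG.1 P).1 hpG)) φ hφ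

theorem isIso_endo {E : X.Modules} (hE : ShStab.IsStable k X L E d) (φ : E ⟶ E) (hφ : φ ≠ 0) :
    IsIso φ :=
  have h := (isStable_iff k hL E d).1 hE
  Inv.isIso_of_ne_zero (I := 𝕀) h.ss h.ss (Or.inl h) rfl φ hφ

theorem hom_eq_zero_HN {F G : X.Modules} (hF : Coh.IsCoh F) (hFp : ShStab.IsPure X F d)
    (hG : Coh.IsCoh G) (hGp : ShStab.IsPure X G d) {s : LTSeries (Subobject F)}
    (hs : ShStab.IsHNFiltration k X L F d s) {t : LTSeries (Subobject G)}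
    (ht : ShStab.IsHNFiltration k X L G d t) (i : Fin s.length) (hi : i.val + 1 = s.length)
    (j : Fin t.length) (hj : j.val = 0) {pmin pmax : ℚ[X]}
    (hpmin : ShStab.IsHilbPoly k X L (StabCat.factor s i) pmin)
    (hpmax : ShStab.IsHilbPoly k X L (StabCat.factor t j) pmax)
    (hlt : StabCat.RedLT d pmax pmin) (φ : F ⟶ G) : φ = 0 := by
  rw [redLT_iff, (hilb_iff k hL.1 (hs.2.2.1 i).1 pmin).1 hpmin,
    (hilb_iff k hL.1 (ht.2.2.1 j).1 pmax).1 hpmax] at hlt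
  exact Inv.hom_eq_zero_of_isHNo (I := 𝕀) hF ((isPure_iff k hL F d).1 hFp) hG
    ((isPure_iff k hL G d).1 hGp) ((isHN_iff k hL d s).1 hs) ((isHN_iff k hL d t).1 ht) i hi j hj
    hlt φ

theorem exists_maxDestab (E : X.Modules) (hE : Coh.IsCoh E) (h0 : ¬ IsZero E)
    (hp : ShStab.IsPure X E d) :
    ∃ (F : X.Modules) (ι : F ⟶ E), ShStab.IsMaxDestab k X L E d F ι := by
  obtain ⟨F, ι, hι, hF, hF0, h⟩ :=
    Inv.exists_maxDestab (I := 𝕀) hE h0 ((isPure_iff k hL E d).1 hp)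
  refine ⟨F, ι, hι, hF, hF0, fun G κ hκ hG hG0 pF pG hpF hpG => ?_⟩
  rw [redLE_iff, redEq_iff, (hilb_iff k hL.1 hF pF).1 hpF, (hilb_iff k hL.1 hG pG).1 hpG]
  exact h G κ hκ hG hG0

theorem maxDestab_unique {E F₁ F₂ : X.Modules} {ι₁ : F₁ ⟶ E} {ι₂ : F₂ ⟶ E}
    (h₁ : ShStab.IsMaxDestab k X L E d F₁ ι₁) (h₂ : ShStab.IsMaxDestab k X L E d F₂ ι₂) :
    ∃ e : F₁ ≅ F₂, e.hom ≫ ι₂ = ι₁ := by
  obtain ⟨m₁, c₁, n₁, a₁⟩ := h₁
  obtain ⟨m₂, c₂, n₂, a₂⟩ := h₂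
  haveI := m₁
  haveI := m₂
  have h12 := a₂ F₁ ι₁ m₁ c₁ n₁ _ _ (isHilbPoly_hp k hL.1 c₂) (isHilbPoly_hp k hL.1 c₁)
  have h21 := a₁ F₂ ι₂ m₂ c₂ n₂ _ _ (isHilbPoly_hp k hL.1 c₁) (isHilbPoly_hp k hL.1 c₂)
  rw [redLE_iff, redEq_iff] at h12 h21
  exact Inv.maxDestab_unique (I := 𝕀) ι₁ ι₂ h12 h21

theorem exists_JH {E : X.Modules} (hE : ShStab.IsSemistable k X L E d) :
    ∃ s : LTSeries (Subobject E), ShStab.IsJHFiltration k X L E d s := by
  obtain ⟨s, hs⟩ := Inv.exists_isJHo ((isSemistable_iff k hL E d).1 hE)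
  exact ⟨s, (isJH_iff k hL hE.1 d s).2 hs⟩

theorem tfae_semistable (E : X.Modules) (hE : Coh.IsCoh E) (h0 : ¬ IsZero E)
    (hp : ShStab.IsPure X E d) :
    [ShStab.IsSemistable k X L E d, ∀ (F : X.Modules) (ι : F ⟶ E), Mono ι → Coh.IsCoh F → ¬ IsZero F → ¬ IsIso ι → ShStab.IsPure X (cokernel ι) d → ∀ (pF pE : ℚ[X]), ShStab.IsHilbPoly k X L F pF → ShStab.IsHilbPoly k X L E pE → StabCat.RedLE d pF pE, ∀ (G : X.Modules) (π : E ⟶ G), Epi π → Coh.IsCoh G → ¬ IsIso π → ∀ (pE pG : ℚ[X]), ShStab.IsHilbPoly k X L E pE → ShStab.IsHilbPoly k X L G pG → 0 < StabCat.alpha d pG → StabCat.RedLE d pE pG, ∀ (G : X.Modules) (π : E ⟶ G), Epi π → Coh.IsCoh G → ¬ IsZero G → ¬ IsIso π → ShStab.IsPure X G d → ∀ (pE pG : ℚ[X]), ShStab.IsHilbPoly k X L E pE → ShStab.IsHilbPoly k X L G pG → StabCat.RedLE d pE pG].TFAE := by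
  have hp' := (isPure_iff k hL E d).1 hp
  have hE' : Inv.ok 𝕀 E := hE
  tfae_have 1 → 3 := by
    intro h G π hπ hG hi pE pG hpE hpG _
    rw [redLE_iff, (hilb_iff k hL.1 hE pE).1 hpE, (hilb_iff k hL.1 hG pG).1 hpG]
    have := ((isSemistable_iff k hL E d).1 h).nn_sub (kernel.ι π) (Inv.ok_kernel 𝕀 π hE' hG)
    exact (Inv.D_quot (I := 𝕀) (d := d) hE' hG π).symm ▸ this
  tfae_have 3 → 4 := by
    intro h G π hπ hG hG0 hi hGp pE pG hpE hpG
    refine h G π hπ hG hi pE pG hpE hpG ?_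
    rw [(hilb_iff k hL.1 hG pG).1 hpG]
    exact Inv.Pure.alpha_pos (I := 𝕀) ((isPure_iff k hL G d).1 hGp) (𝟙 G) hG hG0
  tfae_have 4 → 2 := by
    intro h F ι hι hF hF0 hi hc pF pE hpF hpE
    have hC : Inv.ok 𝕀 (cokernel ι) := Inv.ok_cokernel 𝕀 ι hF hE'
    have h4 := h (cokernel ι) (cokernel.π ι) inferInstance hC (Inv.not_isZero_cokernel ι hi)
      (fun hiso => hF0 (by
        haveI := hiso
        have e : ι = 0 := by rw [← cancel_mono (cokernel.π ι), cokernel.condition, zero_comp]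
        exact IsZero.of_mono_eq_zero ι e))
      hc pE _ hpE (isHilbPoly_hp k hL.1 hC)
    rw [redLE_iff, (hilb_iff k hL.1 hE pE).1 hpE] at h4
    rw [redLE_iff, (hilb_iff k hL.1 hE pE).1 hpE, (hilb_iff k hL.1 hF pF).1 hpF]
    have e := Inv.hp_cokernel 𝕀 ι hF hE'
    change Nn (D d (Inv.hp 𝕀 E) (Inv.hp 𝕀 (cokernel ι))) at h4
    change Nn (D d (Inv.hp 𝕀 F) (Inv.hp 𝕀 E))
    rwa [eq_sub_of_add_eq' e.symm, D_sub_right, D_self, zero_sub, D_neg] at h4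
  tfae_have 2 → 1 := by
    intro h
    refine (isSemistable_iff k hL E d).2 ⟨hE', h0, hp', fun F ι hι hF hF0 _ => ?_⟩
    refine Inv.nn_of_saturated hE' hp' (fun M j hj hM hM0 hi hc => ?_) ι hF hF0
    exact (redLE_iff d).1 (h M j hj hM hM0 hi ((isPure_iff k hL _ d).2 hc) _ _
      (isHilbPoly_hp k hL.1 hM) (isHilbPoly_hp k hL.1 hE))
  tfae_finish

theorem tfae_stable (E : X.Modules) (hE : Coh.IsCoh E) (h0 : ¬ IsZero E)
    (hp : ShStab.IsPure X E d) :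
    [ShStab.IsStable k X L E d, ∀ (F : X.Modules) (ι : F ⟶ E), Mono ι → Coh.IsCoh F → ¬ IsZero F → ¬ IsIso ι → ShStab.IsPure X (cokernel ι) d → ∀ (pF pE : ℚ[X]), ShStab.IsHilbPoly k X L F pF → ShStab.IsHilbPoly k X L E pE → StabCat.RedLT d pF pE, ∀ (G : X.Modules) (π : E ⟶ G), Epi π → Coh.IsCoh G → ¬ IsIso π → ∀ (pE pG : ℚ[X]), ShStab.IsHilbPoly k X L E pE → ShStab.IsHilbPoly k X L G pG → 0 < StabCat.alpha d pG → StabCat.RedLT d pE pG, ∀ (G : X.Modules) (π : E ⟶ G), Epi π → Coh.IsCoh G → ¬ IsZero G → ¬ IsIso π → ShStab.IsPure X G d → ∀ (pE pG : ℚ[X]), ShStab.IsHilbPoly k X L E pE → ShStab.IsHilbPoly k X L G pG → StabCat.RedLT d pE pG].TFAE := by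
  have hp' := (isPure_iff k hL E d).1 hp
  have hE' : Inv.ok 𝕀 E := hE
  tfae_have 1 → 3 := by
    intro h G π hπ hG hi pE pG hpE hpG ha
    rw [(hilb_iff k hL.1 hG pG).1 hpG] at ha
    rw [redLT_iff, (hilb_iff k hL.1 hE pE).1 hpE, (hilb_iff k hL.1 hG pG).1 hpG]
    have hG' : Inv.ok 𝕀 G := hG
    have hni : ¬ IsIso (kernel.ι π) := fun hk => by
      haveI := hk
      have hz : π = 0 := by rw [← cancel_epi (kernel.ι π), kernel.condition, comp_zero]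
      have hGz : IsZero G := IsZero.of_epi_eq_zero π hz
      change 0 < alpha d (Inv.hp 𝕀 G) at ha
      rw [Inv.hp_zero 𝕀 hGz hG', alpha_zero] at ha
      exact lt_irrefl _ ha
    have := ((isStable_iff k hL E d).1 h).2.2.2 _ (kernel.ι π) inferInstance
      (Inv.ok_kernel 𝕀 π hE' hG) (Inv.not_isZero_kernel π hi) hni
    exact (Inv.D_quot (I := 𝕀) (d := d) hE' hG π).symm ▸ this
  tfae_have 3 → 4 := by
    intro h G π hπ hG hG0 hi hGp pE pG hpE hpG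
    refine h G π hπ hG hi pE pG hpE hpG ?_
    rw [(hilb_iff k hL.1 hG pG).1 hpG]
    exact Inv.Pure.alpha_pos (I := 𝕀) ((isPure_iff k hL G d).1 hGp) (𝟙 G) hG hG0
  tfae_have 4 → 2 := by
    intro h F ι hι hF hF0 hi hc pF pE hpF hpE
    have hC : Inv.ok 𝕀 (cokernel ι) := Inv.ok_cokernel 𝕀 ι hF hE'
    have h4 := h (cokernel ι) (cokernel.π ι) inferInstance hC (Inv.not_isZero_cokernel ι hi)
      (fun hiso => hF0 (by
        haveI := hiso
        have e : ι = 0 := by rw [← cancel_mono (cokernel.π ι), cokernel.condition, zero_comp]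
        exact IsZero.of_mono_eq_zero ι e))
      hc pE _ hpE (isHilbPoly_hp k hL.1 hC)
    rw [redLT_iff, (hilb_iff k hL.1 hE pE).1 hpE] at h4
    rw [redLT_iff, (hilb_iff k hL.1 hE pE).1 hpE, (hilb_iff k hL.1 hF pF).1 hpF]
    have e := Inv.hp_cokernel 𝕀 ι hF hE'
    change Pos (D d (Inv.hp 𝕀 E) (Inv.hp 𝕀 (cokernel ι))) at h4
    change Pos (D d (Inv.hp 𝕀 F) (Inv.hp 𝕀 E))
    rwa [eq_sub_of_add_eq' e.symm, D_sub_right, D_self, zero_sub, D_neg] at h4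
  tfae_have 2 → 1 := by
    intro h
    refine (isStable_iff k hL E d).2 ⟨hE', h0, hp', fun F ι hι hF hF0 hiι => ?_⟩
    refine Inv.pos_of_saturated hE' hp' (fun M j hj hM hM0 hi hc => ?_) ι hF hF0 hiι
    exact (redLT_iff d).1 (h M j hj hM hM0 hi ((isPure_iff k hL _ d).2 hc) _ _
      (isHilbPoly_hp k hL.1 hM) (isHilbPoly_hp k hL.1 hE))
  tfae_finish

theorem semistable_iff_isSS (E : X.Modules) (hE : Coh.IsCoh E) (h0 : ¬ IsZero E)
    (hdim : topologicalKrullDim (CohB1.support E) = (d : WithBot ℕ∞)) :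
    ShStab.IsSemistable k X L E d ↔ StabCat.IsSS Coh.IsCoh (ShStab.IsHilbPoly k X L) d E :=
  ⟨fun h => h.2.2.2, fun h => ⟨hE, h0, (isPure_iff k hL E d).2 (Inv.pure_of_sub (I := 𝕀) hE
    ((dim_iff k hL hE h0 d).1 hdim) h0 ((isSS_iff k hL hE d).1 h)), h⟩⟩

theorem stable_iff_isSt (E : X.Modules) (hE : Coh.IsCoh E) (h0 : ¬ IsZero E)
    (hdim : topologicalKrullDim (CohB1.support E) = (d : WithBot ℕ∞)) :
    ShStab.IsStable k X L E d ↔ StabCat.IsSt Coh.IsCoh (ShStab.IsHilbPoly k X L) d E :=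
  ⟨fun h => h.2.2.2, fun h => ⟨hE, h0, (isPure_iff k hL E d).2 (Inv.pure_of_sub (I := 𝕀) hE
    ((dim_iff k hL hE h0 d).1 hdim) h0
    fun F ι hι hF hF0 hi => ((isSt_iff k hL hE d).1 h F ι hι hF hF0 hi).nn), h⟩⟩

theorem muSemistable_of_semistable (hd : 1 ≤ d) {E : X.Modules}
    (hE : ShStab.IsSemistable k X L E d) : ShStab.IsMuSemistable k X L E d := by
  have h := (isSemistable_iff k hL E d).1 hE
  obtain ⟨hc, h0, hp, -⟩ := hE
  refine ⟨hc, h0, hp E (𝟙 E) inferInstance hc h0, fun F ι hι hF he => ?_,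
    fun F ι hι hF pF pE hpF hpE ha hlt => ?_⟩
  · by_cases hF0 : IsZero F
    · rw [isEmpty_support hF0, dim_empty, WithBot.bot_add] at he
      exact (WithBot.bot_ne_coe (a := ((d : ℕ∞)))) he
    · rw [hp F ι hι hF hF0] at he
      have : ((d + 1 : ℕ) : WithBot ℕ∞) = (d : WithBot ℕ∞) := by push_cast; exact he
      have := Nat.cast_injective this
      omega
  · rw [(hilb_iff k hL.1 hF pF).1 hpF] at ha hlt ⊢
    rw [(hilb_iff k hL.1 hc pE).1 hpE] at hlt ⊢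
    have hdE : (Inv.hp 𝕀 E).natDegree ≤ d := h.deg
    exact hatSlope_le (h.nn_sub ι hF) ((Inv.deg_le_of_mono 𝕀 ι hF hc).trans hdE) hdE hd ha
      (ha.trans hlt)

theorem ellSemistable_of_semistable (ℓ : ℕ) {E : X.Modules}
    (hE : ShStab.IsSemistable k X L E d) : ShStab.IsEllSemistable k X L E d ℓ := by
  have h := (isSemistable_iff k hL E d).1 hE
  refine ⟨hE.1, hE.2.1, hE.2.2.1, fun F ι hι hF pF pE hpF hpE _ _ => ?_⟩
  rw [redLE_iff, D_topPart, (hilb_iff k hL.1 hF pF).1 hpF, (hilb_iff k hL.1 hE.1 pE).1 hpE]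
  exact nn_topPart (h.nn_sub ι hF)
    (natDegree_D_le ((Inv.deg_le_of_mono 𝕀 ι hF hE.1).trans h.deg) h.deg)

theorem semistable_iff_ell (E : X.Modules) :
    ShStab.IsSemistable k X L E d ↔ ShStab.IsEllSemistable k X L E d d := by
  refine ⟨ellSemistable_of_semistable k hL d d, fun ⟨hE, h0, hp, h⟩ => ?_⟩
  have hp' := (isPure_iff k hL E d).1 hp
  have hE' : Inv.ok 𝕀 E := hE
  refine (isSemistable_iff k hL E d).2 ⟨hE', h0, hp', fun F ι hι hF hF0 hi => ?_⟩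
  haveI := hι
  rcases (Inv.alpha_le_of_mono hE' hp' ι hF).eq_or_lt with ha | ha
  · rw [Inv.D_of_alpha_eq ha]
    exact (Inv.hp_sub_nn ι hF hE').smul
      (alpha_nonneg d (Inv.nn_hp 𝕀 hE') (hp'.deg_le hE'))
  · have := (redLE_iff d).1 (h F ι hι hF _ _ (isHilbPoly_hp k hL.1 hF)
      (isHilbPoly_hp k hL.1 hE) (hp'.alpha_pos ι hF hF0) ha)
    rw [D_topPart] at this
    exact (congrArg Nn (topPart_eq_self le_rfl (natDegree_D_le
      ((Inv.deg_le_of_mono 𝕀 ι hF hE').trans (hp'.deg_le hE')) (hp'.deg_le hE')))).mp this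

theorem stable_iff_ell (E : X.Modules) :
    ShStab.IsStable k X L E d ↔ ShStab.IsEllStable k X L E d d := by
  constructor
  · intro hE
    have h := (isStable_iff k hL E d).1 hE
    refine ⟨hE.1, hE.2.1, hE.2.2.1, fun F ι hι hF pF pE hpF hpE ha hlt => ?_⟩
    rw [(hilb_iff k hL.1 hF pF).1 hpF] at ha hlt ⊢
    rw [(hilb_iff k hL.1 hE.1 pE).1 hpE] at hlt ⊢
    rw [redLT_iff, D_topPart]
    refine (congrArg Pos (topPart_eq_self le_rfl (natDegree_D_le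
      ((Inv.deg_le_of_mono 𝕀 ι hF hE.1).trans h.ss.deg) h.ss.deg))).mpr ?_
    refine h.2.2.2 F ι hι hF (fun hz => ?_) fun hi => ?_
    · change 0 < alpha d (Inv.hp 𝕀 F) at ha
      rw [Inv.hp_zero 𝕀 hz hF, alpha_zero] at ha
      exact lt_irrefl _ ha
    · change alpha d (Inv.hp 𝕀 F) < alpha d (Inv.hp 𝕀 E) at hlt
      rw [Inv.hp_iso 𝕀 (@asIso _ _ _ _ ι hi) hF] at hlt
      exact lt_irrefl _ hlt
  · rintro ⟨hE, h0, hp, h⟩
    have hp' := (isPure_iff k hL E d).1 hp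
    have hE' : Inv.ok 𝕀 E := hE
    refine (isStable_iff k hL E d).2 ⟨hE', h0, hp', fun F ι hι hF hF0 hi => ?_⟩
    haveI := hι
    rcases (Inv.alpha_le_of_mono hE' hp' ι hF).eq_or_lt with ha | ha
    · rw [Inv.D_of_alpha_eq ha]
      refine Pos.smul ?_ (hp'.alpha_pos (𝟙 E) hE' h0)
      rw [Inv.hp_cokernel 𝕀 ι hF hE', add_sub_cancel_left]
      exact Inv.hp_pos 𝕀 (Inv.ok_cokernel 𝕀 ι hF hE') (Inv.not_isZero_cokernel ι hi)
    · have := (redLT_iff d).1 (h F ι hι hF _ _ (isHilbPoly_hp k hL.1 hF)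
        (isHilbPoly_hp k hL.1 hE) (hp'.alpha_pos ι hF hF0) ha)
      rw [D_topPart] at this
      exact (congrArg Pos (topPart_eq_self le_rfl (natDegree_D_le
        ((Inv.deg_le_of_mono 𝕀 ι hF hE').trans (hp'.deg_le hE')) (hp'.deg_le hE')))).mp this

theorem polyLE_of_mono {E E' : X.Modules} (hE : Coh.IsCoh E) (hE' : Coh.IsCoh E') (ι : E ⟶ E')
    [Mono ι] {pE pE' : ℚ[X]} (hpE : ShStab.IsHilbPoly k X L E pE)
    (hpE' : ShStab.IsHilbPoly k X L E' pE') :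
    StabCat.PolyLE pE pE' ∧ (topologicalKrullDim (CohB1.support (cokernel ι)) < (d : WithBot ℕ∞) →
      StabCat.alpha d pE = StabCat.alpha d pE') := by
  have e := Inv.hp_cokernel 𝕀 ι hE hE'
  have hC : Inv.ok 𝕀 (cokernel ι) := Inv.ok_cokernel 𝕀 ι hE hE'
  rw [(hilb_iff k hL.1 hE pE).1 hpE, (hilb_iff k hL.1 hE' pE').1 hpE']
  change StabCat.PolyLE (Inv.hp 𝕀 E) (Inv.hp 𝕀 E') ∧ (_ →
    alpha d (Inv.hp 𝕀 E) = alpha d (Inv.hp 𝕀 E'))
  refine ⟨polyLE_iff.2 (Inv.hp_sub_nn (I := 𝕀) ι hE hE'), fun hd => ?_⟩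
  have hz : alpha d (Inv.hp 𝕀 (cokernel ι)) = 0 := by
    by_cases hz : IsZero (cokernel ι)
    · rw [Inv.hp_zero 𝕀 hz hC, alpha_zero]
    obtain ⟨n, hn⟩ := exists_dim k hz
    rw [hn, Nat.cast_lt] at hd
    rw [alpha, Polynomial.coeff_eq_zero_of_natDegree_lt (show (Inv.hp 𝕀 (cokernel ι)).natDegree < d
      from ((dim_iff k hL hC hz n).1 hn).trans_lt hd), mul_zero]
  rw [e, alpha_add, hz, add_zero]

end Sh

end Groth.Agent.StabLib
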