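/-
Stable sheaves over algebraically closed fields are simple.
-/
import Groth.Agent.StabLib.ShApps
import Groth.Agent.StabLib.Mu
import Groth.Agent.StabLib.Endo
import Groth.Agent.RefStalk.Codim
import Groth.Agent.Devissage.Support

set_option autoImplicit false
set_option linter.style.haveILetI false
set_option linter.unusedSectionVars false
set_option backward.isDefEq.respectTransparency false
set_option backward.isDefEq.respectTransparency.types false

universe u

open CategoryTheory CategoryTheory.Limits AlgebraicGeometry StabCat Opposite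
open scoped Polynomial

noncomputable section

namespace Groth.Agent.StabLib

variable {X : Scheme.{u}}

/-- Reflexive coherent modules on integral schemes are pure of full dimension. -/
theorem isPure_of_isReflexive [IsIntegral X] [IsLocallyNoetherian X] {n : ℕ}
    (hX : topologicalKrullDim X = (n : WithBot ℕ∞)) {F : X.Modules} (hF : Coh.IsCoh F)
    (hr : RefHull.IsReflexive F) : ShStab.IsPure X F n := by
  intro G ι hι hG h0
  obtain ⟨y, hy⟩ := Sh.support_nonempty h0
  obtain ⟨v, hv⟩ := @exists_ne _ (not_subsingleton_iff_nontrivial.1 hy) (0 : G.presheaf.stalk y)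
  haveI : Module.IsReflexive (X.presheaf.stalk y) (F.presheaf.stalk y) :=
    (RefStalk.isReflexive_iff hF).1 hr y
  haveI := RefStalk.isTorsionFree_of_isReflexive (R := X.presheaf.stalk y) (F.presheaf.stalk y)
  have hξ : genericPoint X ∈ CohB1.support G := fun hs => by
    apply hv
    have hinj : Function.Injective (RefHull.stalkMapₗ ι y) := WeakAssLib.stalkHom_injective ι y
    refine hinj (RefStalk.msp_injective hF.1 y ?_)
    rw [← RefStalk.stalkMap_msp ι (RefStalk.toGen y) v, map_zero, map_zero,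
      show RefStalk.msp G (RefStalk.toGen y) v = 0 from
        @Subsingleton.elim _ hs _ _, map_zero]
  have huniv : CohB1.support G = Set.univ := Set.eq_univ_of_univ_subset
    ((genericPoint_spec X).symm ▸ (closure_minimal (Set.singleton_subset_iff.2 hξ)
      (QC.isClosed_support hG.2)))
  rw [huniv, (Homeomorph.Set.univ X).isHomeomorph.topologicalKrullDim_eq, hX]

namespace Sh

variable (k : Type u) [Field k] [IsAlgClosed k] [X.Over (Spec (CommRingCat.of k))]
  [IsProper (X ↘ Spec (CommRingCat.of k))] {L : X.Modules} (hL : CohB1.IsAmple L) (d : ℕ)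
include hL

local notation "𝕀" => inv k hL

theorem scalar_of_isIso {E : X.Modules} (hE : Coh.IsCoh E) (h0 : ¬ IsZero E)
    (hiso : ∀ ψ : E ⟶ E, ψ ≠ 0 → IsIso ψ) (φ : E ⟶ E) :
    ∃ c : k, ∀ (V : X.Opens) (s : E.val.obj (Opposite.op V)), (φ.val.app (Opposite.op V)) s = (X.ringCatSheaf.obj.map (homOfLE (le_top : V ≤ ⊤)).op (Coh.toGlobal (X ↘ Spec (CommRingCat.of k)) c : X.ringCatSheaf.obj.obj (Opposite.op ⊤))) • s := by
  haveI := CurveRR.isNoetherian_of_proper k X
  obtain ⟨c, hc⟩ := Endo.exists_not_isIso k hE h0 φ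
  refine ⟨c, fun V s => ?_⟩
  have e : φ = Endo.sc E (Coh.toGlobal (X ↘ Spec (CommRingCat.of k)) c) :=
    sub_eq_zero.1 (not_not.1 fun h => hc (hiso _ h))
  rw [e]
  exact Endo.sc_app E _ V s

theorem scalar_stable {E : X.Modules} (hE : ShStab.IsStable k X L E d) (φ : E ⟶ E) :
    ∃ c : k, ∀ (V : X.Opens) (s : E.val.obj (Opposite.op V)), (φ.val.app (Opposite.op V)) s = (X.ringCatSheaf.obj.map (homOfLE (le_top : V ≤ ⊤)).op (Coh.toGlobal (X ↘ Spec (CommRingCat.of k)) c : X.ringCatSheaf.obj.obj (Opposite.op ⊤))) • s :=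
  scalar_of_isIso k hL hE.1 hE.2.1 (isIso_endo k hL d hE) φ

theorem isIso_muEndo [IsIntegral X] (hd : 1 ≤ d)
    (hX : topologicalKrullDim X = (d : WithBot ℕ∞)) {F : X.Modules}
    (hFr : RefHull.IsReflexive F) (hF : ShStab.IsMuStable k X L F d) (φ : F ⟶ F) (hφ : φ ≠ 0) :
    IsIso φ := by
  haveI := CurveRR.isNoetherian_of_proper k X
  obtain ⟨hc, h0, -, -, hst⟩ := hF
  have hF' : Inv.ok 𝕀 F := hc
  have hp : Inv.Pure 𝕀 d F := (isPure_iff k hL F d).1 (isPure_of_isReflexive hX hc hFr)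
  have hK := Inv.ok_kernel 𝕀 φ hF' hF'
  have hI := Inv.ok_image hF' hF' φ
  have e := Inv.hp_image hF' hF' φ
  have haI := hp.alpha_pos (Abelian.image.ι φ) hI (Inv.not_isZero_image hF' hF' φ hφ)
  by_cases hK0 : IsZero (kernel φ)
  · haveI : Mono φ := Preadditive.mono_of_isZero_kernel φ hK0
    have e' := Inv.hp_cokernel 𝕀 φ hF' hF'
    rw [left_eq_add] at e'
    have hz := (Inv.hp_eq_zero_iff 𝕀 (Inv.ok_cokernel 𝕀 φ hF' hF')).1 e'
    haveI : Epi φ := Abelian.epi_of_cokernel_π_eq_zero _ (hz.eq_of_tgt _ _)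
    exact isIso_of_mono_of_epi φ
  exfalso
  have haK := hp.alpha_pos (kernel.ι φ) hK hK0
  have ea := congrArg (alpha d) e
  rw [alpha_add] at ea
  have hK1 := (pos_Dμ_iff hd haK (hp.alpha_pos (𝟙 F) hF' h0)).2
    (hst _ (kernel.ι φ) inferInstance hK _ _ (isHilbPoly_hp k hL.1 hK)
      (isHilbPoly_hp k hL.1 hc) haK (show alpha d (Inv.hp 𝕀 (kernel φ)) < alpha d (Inv.hp 𝕀 F) by
        linarith))
  have hI1 := (pos_Dμ_iff hd haI (hp.alpha_pos (𝟙 F) hF' h0)).2
    (hst _ (Abelian.image.ι φ) inferInstance hI _ _ (isHilbPoly_hp k hL.1 hI)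
      (isHilbPoly_hp k hL.1 hc) haI (show alpha d (Inv.hp 𝕀 (Abelian.image φ)) < alpha d (Inv.hp 𝕀 F) by
        linarith))
  change Pos (Dμ d (Inv.hp 𝕀 (kernel φ)) (Inv.hp 𝕀 F)) at hK1
  change Pos (Dμ d (Inv.hp 𝕀 (Abelian.image φ)) (Inv.hp 𝕀 F)) at hI1
  rw [Dμ, D_topPart, eq_sub_of_add_eq e.symm, D_sub_left, D_self, zero_sub, D_neg,
    ← D_topPart] at hK1
  exact not_pos_D d hK1.nn hI1

theorem scalar_muStable [IsIntegral X] (hd : 1 ≤ d)
    (hX : topologicalKrullDim X = (d : WithBot ℕ∞)) {F : X.Modules}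
    (hFr : RefHull.IsReflexive F) (hF : ShStab.IsMuStable k X L F d) (φ : F ⟶ F) :
    ∃ c : k, ∀ (V : X.Opens) (s : F.val.obj (Opposite.op V)), (φ.val.app (Opposite.op V)) s = (X.ringCatSheaf.obj.map (homOfLE (le_top : V ≤ ⊤)).op (Coh.toGlobal (X ↘ Spec (CommRingCat.of k)) c : X.ringCatSheaf.obj.obj (Opposite.op ⊤))) • s :=
  scalar_of_isIso k hL hF.1 hF.2.1 (isIso_muEndo k hL d hd hX hFr hF) φ

end Sh

end Groth.Agent.StabLib

end
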