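/-
Morphisms between slope stable reflexive sheaves.
-/
import Groth.Agent.StabLib.Simple
import Groth.Agent.StabLib.DimAdd
import Groth.Agent.SmLocalST.SmoothField
import Groth.Agent.UFDLib.Regular
import Groth.Agent.RefStalk.Extend

set_option autoImplicit false
set_option linter.style.haveILetI false
set_option linter.unusedSectionVars false
set_option backward.isDefEq.respectTransparency false
set_option backward.isDefEq.respectTransparency.types false

universe u

open CategoryTheory CategoryTheory.Limits AlgebraicGeometry StabCat Opposite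
open scoped Polynomial

noncomputable section

namespace Groth.Agent.StabLib

/-- A monomorphism is bijective on stalks off the support of its cokernel. -/
theorem bijective_stalk_of_notMem {X : Scheme.{u}} {F G : X.Modules} (φ : F ⟶ G) [Mono φ] {x : X}
    (hx : x ∉ CohB1.support (cokernel φ)) : Function.Bijective (RefHull.stalkMapₗ φ x) := by
  let S := ShortComplex.mk φ (cokernel.π φ) (cokernel.condition φ)
  have hS : S.ShortExact :=
    { exact := ShortComplex.exact_cokernel φ
      mono_f := ‹Mono φ›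
      epi_g := inferInstanceAs (Epi (cokernel.π φ)) }
  refine ⟨WeakAssLib.stalkHom_injective φ x, fun v => ?_⟩
  haveI : Subsingleton ((cokernel φ).presheaf.stalk x) := not_not.1 hx
  have he := (hS.map_of_exact (DerSch.stalkFunctor X x)).exact
  rw [ShortComplex.moduleCat_exact_iff] at he
  exact he v (@Subsingleton.elim _ ‹Subsingleton ((cokernel φ).presheaf.stalk x)› _ _)

namespace Sh

variable {X : Scheme.{u}} (k : Type u) [Field k] [X.Over (Spec (CommRingCat.of k))]
  [IsProper (X ↘ Spec (CommRingCat.of k))] {L : X.Modules} (hL : CohB1.IsAmple L) (d : ℕ)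
include hL

local notation "𝕀" => inv k hL

theorem isIso_muHom [IsIntegral X] [Smooth (X ↘ Spec (CommRingCat.of k))] (hd : 1 ≤ d)
    (hX : topologicalKrullDim X = (d : WithBot ℕ∞)) {F G : X.Modules}
    (hFr : RefHull.IsReflexive F) (hGr : RefHull.IsReflexive G)
    (hF : ShStab.IsMuStable k X L F d) (hG : ShStab.IsMuStable k X L G d) {pF pG : ℚ[X]}
    (hpF : ShStab.IsHilbPoly k X L F pF) (hpG : ShStab.IsHilbPoly k X L G pG)
    (hle : StabCat.hatSlope d pG ≤ StabCat.hatSlope d pF) (φ : F ⟶ G) (hφ : φ ≠ 0) : IsIso φ := by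
  haveI := CurveRR.isNoetherian_of_proper k X
  obtain ⟨hcF, h0F, -, -, hsF⟩ := hF
  obtain ⟨hcG, h0G, -, -, hsG⟩ := hG
  rw [(hilb_iff k hL.1 hcF pF).1 hpF, (hilb_iff k hL.1 hcG pG).1 hpG] at hle
  change hatSlope d (Inv.hp 𝕀 G) ≤ hatSlope d (Inv.hp 𝕀 F) at hle
  have hF' : Inv.ok 𝕀 F := hcF
  have hG' : Inv.ok 𝕀 G := hcG
  have hpF' : Inv.Pure 𝕀 d F := (isPure_iff k hL F d).1 (isPure_of_isReflexive hX hcF hFr)
  have hpG' : Inv.Pure 𝕀 d G := (isPure_iff k hL G d).1 (isPure_of_isReflexive hX hcG hGr)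
  have aF := hpF'.alpha_pos (𝟙 F) hF' h0F
  have aG := hpG'.alpha_pos (𝟙 G) hG' h0G
  have hI := Inv.ok_image hF' hG' φ
  have aI := hpG'.alpha_pos (Abelian.image.ι φ) hI (Inv.not_isZero_image hF' hG' φ hφ)
  have e := Inv.hp_image hF' hG' φ
  have hK := Inv.ok_kernel 𝕀 φ hF' hG'
  -- the image is below the slope of `G`
  have hIG : hatSlope d (Inv.hp 𝕀 (Abelian.image φ)) ≤ hatSlope d (Inv.hp 𝕀 G) := by
    rcases (Inv.alpha_le_of_mono hG' hpG' (Abelian.image.ι φ) hI).eq_or_lt with he | hlt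
    · refine (nn_Dμ_iff hd aI aG).1 ?_
      have hdG := hpG'.deg_le hG'
      rw [Dμ, D, alpha_topPart, alpha_topPart, he, ← smul_sub, ← topPart_sub]
      exact (nn_topPart (Inv.hp_sub_nn (I := inv k hL) (Abelian.image.ι φ) hI hG')
        ((Polynomial.natDegree_sub_le _ _).trans (max_le hdG
          ((Inv.deg_le_of_mono 𝕀 (Abelian.image.ι φ) hI hG').trans hdG)))).smul aG.le
    · exact (hsG _ (Abelian.image.ι φ) inferInstance hI _ _ (isHilbPoly_hp k hL.1 hI)
        (isHilbPoly_hp k hL.1 hcG) aI hlt).le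
  have hm : IsZero (kernel φ) := by
    by_contra hK0
    have aK := hpF'.alpha_pos (kernel.ι φ) hK hK0
    have ea := congrArg (alpha d) e
    rw [alpha_add] at ea
    have hlt : alpha d (Inv.hp 𝕀 (kernel φ)) < alpha d (Inv.hp 𝕀 F) := by linarith
    have h1 := (pos_Dμ_iff hd aK aF).2 (hsF _ (kernel.ι φ) inferInstance hK _ _
      (isHilbPoly_hp k hL.1 hK) (isHilbPoly_hp k hL.1 hcF) aK hlt)
    change Pos (Dμ d (Inv.hp 𝕀 (kernel φ)) (Inv.hp 𝕀 F)) at h1
    rw [Dμ, D_topPart, eq_sub_of_add_eq e.symm, D_sub_left, D_self, zero_sub, D_neg,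
      ← D_topPart] at h1
    have h2 := (pos_Dμ_iff hd aF aI).1 h1
    linarith
  haveI : Mono φ := Preadditive.mono_of_isZero_kernel φ hm
  have hC := Inv.ok_cokernel 𝕀 φ hF' hG'
  have eC := Inv.hp_cokernel 𝕀 φ hF' hG'
  have hdG := hpG'.deg_le hG'
  have ha : alpha d (Inv.hp 𝕀 F) = alpha d (Inv.hp 𝕀 G) := by
    rcases (Inv.alpha_le_of_mono hG' hpG' φ hF').eq_or_lt with he | hlt
    · exact he
    · have := hsG F φ inferInstance hcF _ _ (isHilbPoly_hp k hL.1 hcF) (isHilbPoly_hp k hL.1 hcG)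
        aF hlt
      exact absurd this (not_lt.2 hle)
  have hFG : hatSlope d (Inv.hp 𝕀 F) = hatSlope d (Inv.hp 𝕀 G) := by
    refine le_antisymm ((nn_Dμ_iff hd aF aG).1 ?_) hle
    rw [Dμ, D, alpha_topPart, alpha_topPart, ha, ← smul_sub, ← topPart_sub]
    exact (nn_topPart (Inv.hp_sub_nn (I := inv k hL) φ hF' hG')
      ((Polynomial.natDegree_sub_le _ _).trans (max_le hdG (hpF'.deg_le hF')))).smul aG.le
  have hC0 : alpha d (Inv.hp 𝕀 (cokernel φ)) = 0 := by
    rw [eq_sub_of_add_eq' eC.symm, alpha_sub, ha, sub_self]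
  have hC1 : alpha (d - 1) (Inv.hp 𝕀 (cokernel φ)) = 0 := by
    rw [eq_sub_of_add_eq' eC.symm, alpha_sub, sub_eq_zero]
    rw [hatSlope, hatSlope, ha, div_left_inj' aG.ne'] at hFG
    exact hFG.symm
  let U : X.Opens := ⟨(CohB1.support (cokernel φ))ᶜ,
    (Groth.Agent.QC.isClosed_support (show Coh.IsCoh (cokernel φ) from hC).2).isOpen_compl⟩
  have hdim : ∀ x ∉ U, (2 : WithBot ℕ∞) ≤ ringKrullDim (X.presheaf.stalk x) := by
    intro x hx
    have hxC : x ∈ CohB1.support (cokernel φ) := not_not.1 hx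
    have hn0 : ¬ IsZero (cokernel φ) := fun hz => by rw [isEmpty_support hz] at hxC; exact hxC
    obtain ⟨n, hn⟩ := exists_dim k hn0
    obtain ⟨hdeg, hpos⟩ := hp_pos_deg k hL (show Coh.IsCoh (cokernel φ) from hC) hn
    have hnd : n + 2 ≤ d := by
      have hle' : n ≤ d := by
        have := (Inv.hp 𝕀 (cokernel φ)).natDegree
        rw [← hdeg]
        change (Inv.hp 𝕀 (cokernel φ)).natDegree ≤ d
        rw [eq_sub_of_add_eq' eC.symm]
        exact (Polynomial.natDegree_sub_le _ _).trans (max_le hdG (hpF'.deg_le hF'))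
      have hc : (hp k L (cokernel φ)).coeff n ≠ 0 := by
        rw [← hdeg]; exact ne_of_gt hpos
      have hfac : ∀ j : ℕ, alpha j (hp k L (cokernel φ)) = 0 → n ≠ j := fun j hj hnj => hc (by
        subst hnj
        exact (mul_eq_zero.1 hj).resolve_left (by exact_mod_cast Nat.factorial_ne_zero n))
      have := hfac d hC0
      have := hfac (d - 1) hC1
      omega
    have hcl : closure ({x} : Set X) ⊆ CohB1.support (cokernel φ) :=
      closure_minimal (Set.singleton_subset_iff.2 hxC)
        (Groth.Agent.QC.isClosed_support (show Coh.IsCoh (cokernel φ) from hC).2)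
    have h1 : topologicalKrullDim (closure ({x} : Set X)) ≤ (n : WithBot ℕ∞) :=
      hn ▸ (Topology.IsEmbedding.inclusion hcl).isInducing.topologicalKrullDim_le
    have h2 := dim_closure_add_stalk (X ↘ Spec (CommRingCat.of k)) x
    rw [hX] at h2
    by_contra h3
    have h4 : ringKrullDim (X.presheaf.stalk x) ≤ ((1 : ℕ) : WithBot ℕ∞) :=
      not_not.1 (RefStalk.two_le_iff.not.1 h3)
    have h5 := (h2.symm.trans_le (add_le_add h1 h4))
    rw [← Nat.cast_add, Nat.cast_le] at h5
    omega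
  have hreg : ∀ x : X, IsRegularLocalRing (X.presheaf.stalk x) :=
    fun x => SmLocalST.isRegularLocalRing_stalk_of_smooth_field (X ↘ Spec (CommRingCat.of k)) x
  have hn : Pi1.IsNormalScheme X := fun x => by
    haveI := hreg x
    haveI := Groth.Agent.UFDLib.ufd_of_isRegularLocalRing (X.presheaf.stalk x)
    exact ⟨inferInstance, inferInstance⟩
  exact RefStalk.isIso_of_depth φ hcF hcG U (fun x hx => bijective_stalk_of_notMem φ hx)
    (fun x hx => RefStalk.two_le_depth_of_isReflexiveAt hcF x ((RefStalk.isReflexive_iff hcF).1 hFr x)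
      (RefStalk.two_le_depth hn x (hdim x hx)))
    (fun x hx => RefStalk.two_le_depth_of_isReflexiveAt hcG x ((RefStalk.isReflexive_iff hcG).1 hGr x)
      (RefStalk.two_le_depth hn x (hdim x hx)))

end Sh

end Groth.Agent.StabLib

end
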