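/-
Descent of semistability along field extensions.
-/
import Groth.Agent.StabLib.Sheaf
import Groth.Agent.S7673
import Groth.Agent.TMul.Pullback
import Groth.Agent.RelPCS.FlatBase
import Groth.Agent.QC.Pullback
import Groth.Prelude.Def_Curv2

set_option autoImplicit false
set_option linter.style.haveILetI false
set_option linter.unusedSectionVars false
set_option backward.isDefEq.respectTransparency false
set_option backward.isDefEq.respectTransparency.types false

universe u

open CategoryTheory CategoryTheory.Limits AlgebraicGeometry StabCat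
open scoped Polynomial

noncomputable section

namespace Groth.Agent.StabLib.Sh

variable {X : Scheme.{u}} (k : Type u) [Field k] [X.Over (Spec (CommRingCat.of k))]
  [IsProper (X ↘ Spec (CommRingCat.of k))] {L : X.Modules} (hL : CohB1.IsAmple L)
  (K : Type u) [Field K] [Algebra k K]
include hL

local notation "𝕀" => inv k hL

/-- The Hilbert polynomial survives field extensions. -/
theorem isHilbPoly_bc {F : X.Modules} (hF : Coh.IsCoh F) :
    letI : (Curv2.bc k X K).Over (Spec (CommRingCat.of K)) := ⟨Curv2.bcSnd k X K⟩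
    ShStab.IsHilbPoly K (Curv2.bc k X K) ((Scheme.Modules.pullback (Curv2.bcFst k X K)).obj L)
      ((Scheme.Modules.pullback (Curv2.bcFst k X K)).obj F) (hp k L F) := by
  letI : (Curv2.bc k X K).Over (Spec (CommRingCat.of K)) := ⟨Curv2.bcSnd k X K⟩
  haveI := CurveRR.isNoetherian_of_proper k X
  intro m
  obtain ⟨e₁⟩ := TMul.nonempty_pullPowIso (Curv2.bcFst k X K) L m
  obtain ⟨e₂⟩ := TMul.nonempty_pullTensorIso (Curv2.bcFst k X K) F (CohB1.tensorPow L m)
  have hc : Coh.IsCoh (ShStab.twist X L F m) :=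
    CurveRR.isCoh_tensor' hF (CurveRR.isCoh_of_inv (TMul.isInvertible_tensorPow hL.1 m))
  rw [← isHilbPoly_hp k hL.1 hF m, ← Groth.Agent.S7673.result k X K _ hc]
  exact congrArg (fun z : ℤ => (z : ℚ))
    (CurveRR.euler_eq_of_iso (PicGrp.tensorModIso (Iso.refl _) e₁ ≪≫ e₂))

/-- A module semistable after a field extension is semistable. -/
theorem isSemistable_of_bc (d : ℕ) {E : X.Modules} (hE : Coh.IsCoh E)
    (hp' : ShStab.IsPure X E d)
    (hK : letI : (Curv2.bc k X K).Over (Spec (CommRingCat.of K)) := ⟨Curv2.bcSnd k X K⟩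
      ShStab.IsSemistable K (Curv2.bc k X K) ((Scheme.Modules.pullback (Curv2.bcFst k X K)).obj L)
        ((Scheme.Modules.pullback (Curv2.bcFst k X K)).obj E) d) :
    ShStab.IsSemistable k X L E d := by
  letI : (Curv2.bc k X K).Over (Spec (CommRingCat.of K)) := ⟨Curv2.bcSnd k X K⟩
  let π := Curv2.bcFst k X K
  haveI : PreservesFiniteLimits (Scheme.Modules.pullback π) := RelPCS.preservesFiniteLimits_pullback π
  obtain ⟨-, h0, -, hss⟩ := hK
  refine ⟨hE, fun hz => h0 ((Scheme.Modules.pullback π).map_isZero hz), hp',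
    (isSS_iff k hL hE d).2 fun F ι hι hF hF0 hi => ?_⟩
  haveI := hι
  haveI : Mono ((Scheme.Modules.pullback π).map ι) := Functor.map_mono _ _
  refine (redLE_iff d).1 (hss _ ((Scheme.Modules.pullback π).map ι) inferInstance
    (QC.isCoh_pullback π hF) (fun hz => ?_) (fun hiso => ?_) _ _
    (isHilbPoly_bc k hL K hF) (isHilbPoly_bc k hL K hE))
  · -- the polynomial of a zero module vanishes
    refine (Inv.hp_pos 𝕀 (show Inv.ok 𝕀 F from hF) hF0).ne_zero (eq_of_eval_nat fun m => ?_)
    have hS : IsZero (ShStab.twist (Curv2.bc k X K) ((Scheme.Modules.pullback π).obj L)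
        ((Scheme.Modules.pullback π).obj F) m) :=
      ((KFlat.schB (Curv2.bc k X K)).flip.obj _).map_isZero hz
    rw [Polynomial.eval_zero, show (Inv.hp 𝕀 F) = hp k L F from rfl,
      ← isHilbPoly_bc k hL K hF m, Int.cast_eq_zero]
    refine finsum_eq_zero_of_forall_eq_zero fun i => ?_
    haveI : Subsingleton (Coh.HH (Curv2.bc k X K) (ShStab.twist (Curv2.bc k X K)
        ((Scheme.Modules.pullback π).obj L) ((Scheme.Modules.pullback π).obj F) m) i) :=
      AddCommGrpCat.subsingleton_of_isZero ((Sheaf.functorH.{u} _ i).map_isZero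
        ((CohQC.toAbF (Curv2.bc k X K)).map_isZero hS))
    rw [Module.finrank_zero_of_subsingleton, Nat.cast_zero, mul_zero]
  · have hC := Inv.ok_cokernel 𝕀 ι hF hE
    refine (Inv.hp_pos 𝕀 hC fun hz => hi (by
      haveI : Epi ι := Abelian.epi_of_cokernel_π_eq_zero _ (hz.eq_of_tgt _ _)
      exact isIso_of_mono_of_epi ι)).ne_zero ?_
    have e := Inv.hp_cokernel 𝕀 ι hF hE
    have e' : Inv.hp 𝕀 F = Inv.hp 𝕀 E := by
      refine eq_of_eval_nat fun m => ?_
      rw [show (Inv.hp 𝕀 F) = hp k L F from rfl, show (Inv.hp 𝕀 E) = hp k L E from rfl,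
        ← isHilbPoly_bc k hL K hF m, ← isHilbPoly_bc k hL K hE m]
      exact congrArg (fun z : ℤ => (z : ℚ)) (CurveRR.euler_eq_of_iso
        (PicGrp.tensorModIso (@asIso _ _ _ _ _ hiso) (Iso.refl _)))
    rw [e'] at e
    exact left_eq_add.1 e

end Groth.Agent.StabLib.Sh

end
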