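/-
Models of quotients of a base changed sheaf over finitely generated subalgebras.
-/
import Groth.Agent.W7Cech.BCSec
import Groth.Agent.W7Exist.Formal
import Groth.Agent.FSchCoh.Compl
import Groth.Agent.QC.Pullback
import Groth.Agent.QC.Closure
import Groth.Agent.QC.Localisation
import Groth.Agent.CurveRR.Multi
import Groth.Prelude.Def_Curv2

set_option autoImplicit false
set_option linter.style.haveILetI false
set_option linter.unusedSectionVars false
set_option backward.isDefEq.respectTransparency false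
set_option backward.isDefEq.respectTransparency.types false
set_option maxHeartbeats 1000000

universe u

open CategoryTheory CategoryTheory.Limits AlgebraicGeometry TopologicalSpace Opposite
open Groth.Agent.QC (res resO res_res res_smul res_self app_res)
open Groth.Agent.W7Cech (secRing secRing_comm secA pullSec)

noncomputable section

namespace Groth.Agent.StabLib.Model

variable (k : Type u) [Field k] (X : Scheme.{u}) [X.Over (Spec (CommRingCat.of k))]

/-- The scheme over an algebra. -/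
abbrev XA (A : Type u) [CommRing A] [Algebra k A] : Scheme.{u} :=
  pullback (X ↘ Spec (CommRingCat.of k)) (Spec.map (CommRingCat.ofHom (algebraMap k A)))

/-- The projection. -/
abbrev pA (A : Type u) [CommRing A] [Algebra k A] : XA k X A ⟶ X := pullback.fst _ _

/-- The morphism of schemes of an algebra map. -/
def ψ (A B : Type u) [CommRing A] [Algebra k A] [CommRing B] [Algebra k B] [Algebra A B]
    [IsScalarTower k A B] : XA k X B ⟶ XA k X A :=
  pullback.lift (pullback.fst _ _) (pullback.snd _ _ ≫ Spec.map (CommRingCat.ofHom (algebraMap A B))) (by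
    rw [pullback.condition, Category.assoc, ← Spec.map_comp, ← CommRingCat.ofHom_comp,
      ← IsScalarTower.algebraMap_eq])

variable (A B : Type u) [CommRing A] [Algebra k A] [CommRing B] [Algebra k B] [Algebra A B]
  [IsScalarTower k A B]

@[reassoc (attr := simp)]
lemma ψ_fst : ψ k X A B ≫ pA k X A = pA k X B := pullback.lift_fst _ _ _

@[reassoc (attr := simp)]
lemma ψ_snd : ψ k X A B ≫ pullback.snd _ _ =
    pullback.snd _ _ ≫ Spec.map (CommRingCat.ofHom (algebraMap A B)) := pullback.lift_snd _ _ _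

lemma isPullback_ψ : IsPullback (ψ k X A B) (pullback.snd _ _)
    (pullback.snd (X ↘ Spec (CommRingCat.of k)) (Spec.map (CommRingCat.ofHom (algebraMap k A))))
    (Spec.map (CommRingCat.ofHom (algebraMap A B))) := by
  refine IsPullback.of_right ?_ (ψ_snd k X A B) (IsPullback.of_hasPullback _ _)
  rw [ψ_fst, ← Spec.map_comp, ← CommRingCat.ofHom_comp, ← IsScalarTower.algebraMap_eq]
  exact IsPullback.of_hasPullback _ _

/-- A section coming from one killed in the pushforward dies in the pull back of the image. -/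
lemma app_eq_zero_of_lift {Z Y : Scheme.{u}} (g : Z ⟶ Y) {M Q : Y.Modules} {N C : Z.Modules}
    (e : (Scheme.Modules.pullback g).obj M ≅ N) (p : N ⟶ C) (q : M ⟶ Q)
    (i : Q ⟶ (Scheme.Modules.pushforward g).obj C) [Mono i]
    (hi : q ≫ i = (Scheme.Modules.pullbackPushforwardAdjunction g).homEquiv _ _ (e.hom ≫ p))
    {W : Z.Opens} {W₁ : Y.Opens} (hle : W ≤ g ⁻¹ᵁ W₁) (hge : g ⁻¹ᵁ W₁ ≤ W) (y : Γ(M, W₁))
    (h : p.app W (res N hle (e.hom.app (g ⁻¹ᵁ W₁) (OmegaSh.pullSect g M W₁ y))) = 0) :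
    (e.inv ≫ (Scheme.Modules.pullback g).map q).app W
      (res N hle (e.hom.app (g ⁻¹ᵁ W₁) (OmegaSh.pullSect g M W₁ y))) = 0 := by
  have h1 : p.app (g ⁻¹ᵁ W₁) (e.hom.app (g ⁻¹ᵁ W₁) (OmegaSh.pullSect g M W₁ y)) = 0 := by
    rw [← app_res] at h
    have h2 := congrArg (res C hge) h
    rwa [res_res, res_self, map_zero] at h2
  have hq : q.app W₁ y = 0 := by
    refine QC.app_injective_of_mono i W₁ ?_
    rw [map_zero]
    exact (congr(($hi).app W₁ y)).trans h1
  rw [← app_res]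
  refine (congrArg (res _ hle) ?_).trans (map_zero _)
  show ((Scheme.Modules.pullback g).map q).app _ (e.inv.app _ (e.hom.app _ _)) = 0
  rw [show e.inv.app (g ⁻¹ᵁ W₁) (e.hom.app (g ⁻¹ᵁ W₁) (OmegaSh.pullSect g M W₁ y)) =
    OmegaSh.pullSect g M W₁ y from congr(($(e.hom_inv_id)).app (g ⁻¹ᵁ W₁) _),
    QC.app_pullSect, hq]
  exact map_zero _

/-- The comparison of the two iterated pull backs. -/
def cmpG {Z Y X : Scheme.{u}} (i : Z ⟶ Y) (g : Y ⟶ X) (f : Z ⟶ X) (e : i ≫ g = f) (E : X.Modules) :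
    (Scheme.Modules.pullback i).obj ((Scheme.Modules.pullback g).obj E) ≅ (Scheme.Modules.pullback f).obj E :=
  (Scheme.Modules.pullbackComp i g ≪≫ Scheme.Modules.pullbackCongr e).app E

lemma le_of_comp {Z Y X : Scheme.{u}} {i : Z ⟶ Y} {g : Y ⟶ X} {f : Z ⟶ X} (e : i ≫ g = f) (V : X.Opens) :
    f ⁻¹ᵁ V ≤ i ⁻¹ᵁ (g ⁻¹ᵁ V) :=
  (congrArg (fun h => h ⁻¹ᵁ V) e).ge

lemma ge_of_comp {Z Y X : Scheme.{u}} {i : Z ⟶ Y} {g : Y ⟶ X} {f : Z ⟶ X} (e : i ≫ g = f) (V : X.Opens) :
    i ⁻¹ᵁ (g ⁻¹ᵁ V) ≤ f ⁻¹ᵁ V :=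
  (congrArg (fun h => h ⁻¹ᵁ V) e).le

/-- The comparison on pulled back sections. -/
lemma cmpG_pullSect {Z Y X : Scheme.{u}} (i : Z ⟶ Y) (g : Y ⟶ X) (f : Z ⟶ X) (e : i ≫ g = f) (E : X.Modules)
    (V : X.Opens) (m : Γ(E, V)) :
    res ((Scheme.Modules.pullback f).obj E) (le_of_comp e V)
      ((cmpG i g f e E).hom.app _ (OmegaSh.pullSect i _ _ (OmegaSh.pullSect g E V m))) =
      OmegaSh.pullSect f E V m := by
  subst e
  refine (res_self _ _ _).trans ?_
  simp only [cmpG, Iso.app_hom, Iso.trans_hom, Scheme.Modules.pullbackCongr, eqToIso_refl, Iso.refl_hom,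
    Category.comp_id]
  exact QC.pullbackComp_hom_pullSect i g E V m

/-- Sections with coefficients downstairs lift. -/
lemma exists_lift {Z Y X : Scheme.{u}} (i : Z ⟶ Y) (g : Y ⟶ X) (f : Z ⟶ X) (e : i ≫ g = f) (E : X.Modules)
    (V : X.Opens) (S : Set Γ(Z, f ⁻¹ᵁ V))
    (hS : ∀ c ∈ S, ∃ t : Γ(Y, g ⁻¹ᵁ V), resO Z (le_of_comp e V) (i.app (g ⁻¹ᵁ V) t) = c)
    (x : Γ((Scheme.Modules.pullback f).obj E, f ⁻¹ᵁ V))
    (hx : x ∈ AddSubmonoid.closure {z | ∃ c ∈ S, ∃ m : Γ(E, V), c • (OmegaSh.pullSect f E V m :) = z}) :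
    ∃ y : Γ((Scheme.Modules.pullback g).obj E, g ⁻¹ᵁ V),
      res _ (le_of_comp e V) ((cmpG i g f e E).hom.app _ (OmegaSh.pullSect i _ _ y)) = x := by
  induction hx using AddSubmonoid.closure_induction with
  | mem z hz =>
    obtain ⟨c, hc, m, rfl⟩ := hz
    obtain ⟨t, rfl⟩ := hS c hc
    refine ⟨t • (OmegaSh.pullSect g E V m :), ?_⟩
    rw [OmegaSh.pullSect_smul, Scheme.Modules.Hom.app_smul, res_smul]
    exact congrArg _ (cmpG_pullSect i g f e E V m)
  | zero =>
    refine ⟨0, ?_⟩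
    show res _ _ ((cmpG i g f e E).hom.app _
      (((Scheme.Modules.pullbackPushforwardAdjunction i).unit.app _).app _ 0)) = 0
    rw [map_zero]
    exact (congrArg (res _ _) (map_zero _)).trans (map_zero _)
  | add z z' _ _ hz hz' =>
    obtain ⟨y, rfl⟩ := hz
    obtain ⟨y', rfl⟩ := hz'
    refine ⟨y + y', ?_⟩
    show res _ _ ((cmpG i g f e E).hom.app _
      (((Scheme.Modules.pullbackPushforwardAdjunction i).unit.app _).app _ (y + y'))) = _
    rw [map_add, map_add, map_add]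
    rfl

section Main

variable {k X}
variable [IsProper (X ↘ Spec (CommRingCat.of k))] (K : Type u) [Field K] [Algebra k K]

local notation "π" => pA k X K

variable {E : X.Modules}

/-- Every section of the base change has finitely many coefficients. -/
lemma exists_coeff (hE : Coh.IsQCoh E) {V : X.Opens} (hV : IsAffineOpen V)
    (x : Γ((Scheme.Modules.pullback π).obj E, π ⁻¹ᵁ V)) :
    letI : (XA k X K).Over (Spec (CommRingCat.of K)) := ⟨pullback.snd _ _⟩
    ∃ C : Finset K, x ∈ AddSubmonoid.closure {z | ∃ c ∈ C, ∃ e : Γ(E, V),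
      secRing K (π ⁻¹ᵁ V) c • (OmegaSh.pullSect π E V e :) = z} := by
  letI : (XA k X K).Over (Spec (CommRingCat.of K)) := ⟨pullback.snd _ _⟩
  classical
  have sq : IsPullback π ((XA k X K) ↘ Spec (CommRingCat.of K)) (X ↘ Spec (CommRingCat.of k))
      (Spec.map (CommRingCat.ofHom (algebraMap k K))) := IsPullback.of_hasPullback _ _
  let N₀ : ModuleCat.{u} K := (secA K (π ⁻¹ᵁ V)).obj ((Scheme.Modules.pullback π).obj E)
  letI : Module k N₀ := Module.compHom N₀ (algebraMap k K)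
  haveI : IsScalarTower k K N₀ := IsScalarTower.of_algebraMap_smul fun _ _ => rfl
  have hbc := W7Cech.isBaseChange_pullSec k K π sq hE hV
  let P : N₀ → Prop := fun x => ∀ c : K, ∃ C : Finset K,
    (c • x : N₀) ∈ AddSubmonoid.closure (M := Γ((Scheme.Modules.pullback π).obj E, π ⁻¹ᵁ V))
      {z | ∃ c ∈ C, ∃ e : Γ(E, V), secRing K (π ⁻¹ᵁ V) c • (OmegaSh.pullSect π E V e :) = z}
  have hP : ∀ x : N₀, P x := fun x => by
    refine hbc.inductionOn x P ?_ ?_ ?_ ?_
    · intro c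
      exact ⟨∅, by rw [smul_zero]; exact zero_mem _⟩
    · intro e c
      exact ⟨{c}, AddSubmonoid.subset_closure ⟨c, Finset.mem_singleton_self c, e, rfl⟩⟩
    · intro s n hn c
      obtain ⟨C, hC⟩ := hn (c * s)
      exact ⟨C, by rwa [smul_smul]⟩
    · intro n n' hn hn' c
      obtain ⟨C, hC⟩ := hn c
      obtain ⟨C', hC'⟩ := hn' c
      refine ⟨C ∪ C', ?_⟩
      rw [smul_add]
      refine add_mem (AddSubmonoid.closure_mono ?_ hC) (AddSubmonoid.closure_mono ?_ hC') <;>
        rintro z ⟨a, ha, e, rfl⟩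
      · exact ⟨a, Finset.mem_union_left _ ha, e, rfl⟩
      · exact ⟨a, Finset.mem_union_right _ ha, e, rfl⟩
  obtain ⟨C, hC⟩ := hP x 1
  exact ⟨C, by rwa [one_smul] at hC⟩

/-- The image downstairs is a model of the quotient. -/
theorem exists_quot_gen {Z Y : Scheme.{u}} [IsLocallyNoetherian Y] [IsLocallyNoetherian X]
    (g : Z ⟶ Y) [IsAffineHom g] (pY : Y ⟶ X) (pZ : Z ⟶ X) [IsAffineHom pZ] (hc : g ≫ pY = pZ)
    (hE : Coh.IsCoh E) {F : Z.Modules}
    (j : F ⟶ (Scheme.Modules.pullback pZ).obj E) (hF : Coh.IsCoh F)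
    {ι₀ : Type u} (V : ι₀ → X.Opens) (hV : ∀ i, IsAffineOpen (V i)) (hcov : ∀ x, ∃ i, x ∈ V i)
    (S : ∀ i, Set Γ(Z, pZ ⁻¹ᵁ V i))
    (hS : ∀ i, ∀ c ∈ S i, ∃ t : Γ(Y, pY ⁻¹ᵁ V i), resO Z (le_of_comp hc (V i)) (g.app (pY ⁻¹ᵁ V i) t) = c)
    (G : ∀ i, Set Γ(F, pZ ⁻¹ᵁ V i)) (hG : ∀ i, Submodule.span Γ(Z, pZ ⁻¹ᵁ V i) (G i) = ⊤)
    (hgn : ∀ i, ∀ a ∈ G i, j.app _ a ∈ AddSubmonoid.closure {z | ∃ c ∈ S i, ∃ e : Γ(E, V i),
        c • (OmegaSh.pullSect pZ E (V i) e :) = z}) :
    ∃ (Q : Y.Modules) (q : (Scheme.Modules.pullback pY).obj E ⟶ Q), Coh.IsCoh Q ∧ Epi q ∧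
      Nonempty ((Scheme.Modules.pullback g).obj Q ≅ cokernel j) := by
  let e := cmpG g pY pZ hc E
  let p := e.hom ≫ cokernel.π j
  let adj := Scheme.Modules.pullbackPushforwardAdjunction g
  let φ := adj.homEquiv _ _ p
  have hEA : Coh.IsCoh ((Scheme.Modules.pullback pY).obj E) := QC.isCoh_pullback _ hE
  have hC' : Coh.IsCoh (cokernel j) := QC.isCoh_cokernel hF.1 (QC.isCoh_pullback pZ hE) j
  haveI := hC'.1
  have hpush : Coh.IsQCoh ((Scheme.Modules.pushforward g).obj (cokernel j)) :=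
    QC.isQCoh_pushforward _
  let q := Abelian.factorThruImage φ
  have hQ : Coh.IsCoh (Abelian.image φ) := QC.isCoh_of_epi hEA (QC.isQCoh_image hEA.1 hpush φ) q
  refine ⟨Abelian.image φ, q, hQ, inferInstance, ?_⟩
  let P := Scheme.Modules.pullback g
  let c := e.inv ≫ P.map q
  -- the submodule dies in the pulled back image
  have key : j ≫ c = 0 := by
    refine W7Exist.hom_eq_zero_of_cover (fun i => pZ ⁻¹ᵁ V i) (fun i => (hV i).preimage pZ)
      (fun z => hcov (pZ z)) hF.1 _ fun i s => ?_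
    have hs : s ∈ Submodule.span Γ(Z, pZ ⁻¹ᵁ V i) (G i : Set _) := by rw [hG i]; trivial
    induction hs using Submodule.span_induction with
    | zero => exact map_zero _
    | add a b _ _ ha hb => rw [map_add, ha, hb, add_zero]
    | smul r a _ ha => rw [Scheme.Modules.Hom.app_smul, ha, smul_zero]
    | mem a ha =>
      obtain ⟨y, hy⟩ := exists_lift g pY pZ hc E (V i) (S i) (hS i) _ (hgn i a ha)
      show c.app _ (j.app _ a) = 0
      rw [← hy]
      refine app_eq_zero_of_lift g e (cokernel.π j) q (Abelian.image.ι φ)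
        (Abelian.image.fac φ) (le_of_comp hc (V i))
        (ge_of_comp hc (V i)) y ?_
      rw [hy]
      show (j ≫ cokernel.π j).app _ a = 0
      rw [cokernel.condition]
      rfl
  haveI : Epi (P.map q) := inferInstance
  let h := (adj.homEquiv _ _).symm (Abelian.image.ι φ)
  have hh : P.map q ≫ h = p := by
    rw [← Adjunction.homEquiv_naturality_left_symm, Abelian.image.fac, Equiv.symm_apply_apply]
  refine ⟨⟨h, cokernel.desc j c key, ?_, ?_⟩⟩
  · rw [← cancel_epi (P.map q), ← Category.assoc, hh]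
    simp [p, c]
    exact (Category.comp_id _).symm
  · rw [← cancel_epi (cokernel.π j), cokernel.π_desc_assoc, Category.assoc, hh]
    simp [p]


/-- The image of the sheaf over the subalgebra is a model of the quotient. -/
theorem exists_quot_of_gens [IsLocallyNoetherian X] (A : Type u) [CommRing A] [Algebra k A] [Algebra A K]
    [IsScalarTower k A K] [IsLocallyNoetherian (XA k X A)] (hE : Coh.IsCoh E) {F : (XA k X K).Modules}
    (j : F ⟶ (Scheme.Modules.pullback π).obj E) (hF : Coh.IsCoh F)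
    {ι₀ : Type u} (V : ι₀ → X.Opens) (hV : ∀ i, IsAffineOpen (V i)) (hcov : ∀ x, ∃ i, x ∈ V i)
    (G : ∀ i, Set Γ(F, π ⁻¹ᵁ V i)) (hG : ∀ i, Submodule.span Γ(XA k X K, π ⁻¹ᵁ V i) (G i) = ⊤)
    (hgn : letI : (XA k X K).Over (Spec (CommRingCat.of K)) := ⟨pullback.snd _ _⟩
      ∀ i, ∀ a ∈ G i, j.app _ a ∈ AddSubmonoid.closure {z | ∃ c ∈ Set.range (algebraMap A K), ∃ e : Γ(E, V i),
        secRing K (π ⁻¹ᵁ V i) c • (OmegaSh.pullSect π E (V i) e :) = z}) :
    ∃ (Q : (XA k X A).Modules) (q : (Scheme.Modules.pullback (pA k X A)).obj E ⟶ Q), Coh.IsCoh Q ∧ Epi q ∧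
      Nonempty ((Scheme.Modules.pullback (ψ k X A K)).obj Q ≅ cokernel j) := by
  letI : (XA k X K).Over (Spec (CommRingCat.of K)) := ⟨pullback.snd _ _⟩
  haveI : IsAffineHom π := MorphismProperty.pullback_fst _ _ inferInstance
  letI : (XA k X A).Over (Spec (CommRingCat.of A)) := ⟨pullback.snd _ _⟩
  have sqψ : IsPullback (ψ k X A K) ((XA k X K) ↘ Spec (CommRingCat.of K))
      ((XA k X A) ↘ Spec (CommRingCat.of A))
      (Spec.map (CommRingCat.ofHom (algebraMap A K))) := isPullback_ψ k X A K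
  haveI : IsAffineHom (ψ k X A K) := W7Cech.isAffineHom_bc A K _ sqψ
  refine exists_quot_gen (ψ k X A K) (pA k X A) π (ψ_fst k X A K) hE j hF V hV hcov
    (fun i => Set.range fun t : A => secRing K (π ⁻¹ᵁ V i) (algebraMap A K t)) (fun i => ?_) G hG
    fun i a ha => AddSubmonoid.closure_mono (fun z hz => ?_) (hgn i a ha)
  · rintro _ ⟨t, rfl⟩
    refine ⟨secRing A (pA k X A ⁻¹ᵁ V i) t, ?_⟩
    rw [secRing_comm A K (ψ k X A K) sqψ]
    exact W7Cech.resO_secRing K _ _
  · obtain ⟨_, ⟨t, rfl⟩, m, rfl⟩ := hz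
    exact ⟨_, ⟨t, rfl⟩, m, rfl⟩

/-- A quotient of a base change of a coherent sheaf is defined over a finitely generated subalgebra. -/
theorem exists_model (hE : Coh.IsCoh E) {F : (XA k X K).Modules}
    (j : F ⟶ (Scheme.Modules.pullback π).obj E) (hF : Coh.IsCoh F) :
    ∃ (A : Subalgebra k K) (_ : A.FG) (Q : (XA k X A).Modules)
      (q : (Scheme.Modules.pullback (pA k X A)).obj E ⟶ Q), Coh.IsCoh Q ∧ Epi q ∧
      Nonempty ((Scheme.Modules.pullback (ψ k X A K)).obj Q ≅ cokernel j) := by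
  classical
  letI : (XA k X K).Over (Spec (CommRingCat.of K)) := ⟨pullback.snd _ _⟩
  haveI := CurveRR.isNoetherian_of_proper k X
  haveI : IsAffineHom π := MorphismProperty.pullback_fst _ _ inferInstance
  obtain ⟨t, ht, et⟩ := (isCompact_iff_finite_and_eq_biUnion_affineOpens (X := X) (U := ⊤)).mp
    (by simpa using isCompact_univ)
  haveI := ht.to_subtype
  let V : t → X.Opens := fun i => i.1.1
  have hV : ∀ i, IsAffineOpen (V i) := fun i => i.1.2
  choose G hG using fun i => (QC.finite_sections (M := F) (hM := hF.1) ((hV i).preimage π) hF.2).fg_top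
  choose C hC using fun (i : t) (s : Γ(F, π ⁻¹ᵁ V i)) =>
    exists_coeff K hE.1 (hV i) (j.app _ s)
  haveI := Fintype.ofFinite t
  let S : Finset K := Finset.univ.biUnion fun i => (G i).biUnion (C i)
  let A : Subalgebra k K := Algebra.adjoin k (S : Set K)
  haveI : IsLocallyNoetherian (XA k X A) := by
    haveI : Algebra.FiniteType k A := (Subalgebra.fg_iff_finiteType A).1 (Subalgebra.fg_adjoin_finset S)
    haveI : IsNoetherianRing A := Algebra.FiniteType.isNoetherianRing k A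
    exact LocallyOfFiniteType.isLocallyNoetherian (pullback.snd _ _ : XA k X A ⟶ _)
  refine ⟨A, Subalgebra.fg_adjoin_finset S,
    exists_quot_of_gens K A hE j hF V hV (fun x => ?_) (fun i => (G i : Set _)) hG ?_⟩
  · have hx : x ∈ ((⊤ : X.Opens) : Set X) := trivial
    rw [et] at hx
    obtain ⟨i, hi, hxi⟩ := by simpa only [TopologicalSpace.Opens.iSup_mk, TopologicalSpace.Opens.coe_mk,
      Set.mem_iUnion] using hx
    exact ⟨⟨i, hi⟩, hxi⟩
  · intro i a ha
    refine AddSubmonoid.closure_mono ?_ (hC i a)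
    rintro z ⟨c, hc, e, rfl⟩
    exact ⟨c, ⟨⟨c, Algebra.subset_adjoin
      (Finset.mem_biUnion.2 ⟨i, Finset.mem_univ i, Finset.mem_biUnion.2 ⟨a, ha, hc⟩⟩)⟩, rfl⟩, e, rfl⟩

end Main

end Groth.Agent.StabLib.Model

end
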