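/-
Specialising subsheaves of a base changed sheaf to a finite extension.
-/
import Groth.Agent.StabLib.Model
import Groth.Agent.StabLib.Descend
import Groth.Agent.HilbFib.Square
import Groth.Agent.FlatModBC.GenFlat
import Groth.Agent.W7Cech.FlatBCSep
import Groth.Agent.TMul.RelAmple
import Mathlib.RingTheory.Jacobson.Ring
import Mathlib.Topology.JacobsonSpace
import Mathlib.RingTheory.Spectrum.Prime.Jacobson

set_option autoImplicit false
set_option linter.style.haveILetI false
set_option linter.unusedSectionVars false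
set_option backward.isDefEq.respectTransparency false
set_option backward.isDefEq.respectTransparency.types false
set_option maxHeartbeats 1000000

universe u

open CategoryTheory CategoryTheory.Limits AlgebraicGeometry TopologicalSpace
open scoped Polynomial

noncomputable section

namespace Groth.Agent.StabLib.Model

/-- The Hilbert function over a field. -/
theorem hilb_field {K : Type u} [Field K] {Y : Scheme.{u}} [Y.Over (Spec (CommRingCat.of K))]
    [IsProper (Y ↘ Spec (CommRingCat.of K))] {L F : Y.Modules} (hL : PicF.IsInvertible L) (hF : Coh.IsQCoh F)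
    (y : Spec (CommRingCat.of K)) (n : ℕ) :
    HilbFib.hilb (Y ↘ Spec (CommRingCat.of K)) L F y n = Curv2.euler K Y (ShStab.twist Y L F n) := by
  let p := Y ↘ Spec (CommRingCat.of K)
  let κ := (Spec (CommRingCat.of K)).residueField y
  letI : (p.fiber y).Over (Spec (CommRingCat.of ↥κ)) := ⟨p.fiberToSpecResidueField y⟩
  let α : CommRingCat.of K ⟶ κ := Spec.preimage ((Spec (CommRingCat.of K)).fromSpecResidueField y)
  have hα : Spec.map α = (Spec (CommRingCat.of K)).fromSpecResidueField y := Spec.map_preimage _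
  letI : Algebra K κ := α.hom.toAlgebra
  have sq : IsPullback (p.fiberι y) (p.fiber y ↘ Spec (CommRingCat.of ↥κ)) (Y ↘ Spec (CommRingCat.of K))
      (Spec.map (CommRingCat.ofHom (algebraMap K κ))) := by
    rw [show CommRingCat.ofHom (algebraMap K κ) = α from rfl, hα]
    exact IsPullback.of_hasPullback p _
  haveI : CompactSpace Y := QuasiCompact.compactSpace_of_compactSpace (Y ↘ Spec (CommRingCat.of K))
  haveI : Y.IsSeparated := by
    constructor
    rw [← terminal.comp_from (Y ↘ Spec (CommRingCat.of K))]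
    infer_instance
  refine finsum_congr fun i => ?_
  congr 2
  obtain ⟨e⟩ := W7Cech.nonempty_hh_flatBC K κ (p.fiberι y) sq _
    (TMul.isQCoh_tensor (TMul.isInvertible_tensorPow hL n) (hF := hF)) i
  refine e.symm.finrank_eq.trans ?_
  rw [Module.finrank_baseChange]
  rfl

/-- Hilbert functions of a coherent sheaf are constant over a nonempty open. -/
theorem exists_open_hilb_const {Z S : Scheme.{u}} (f : Z ⟶ S) [IsProper f] [IsNoetherian S] [IsIntegral S]
    {L F : Z.Modules} (hL : PicF.IsInvertible L) (hF : Coh.IsCoh F) :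
    ∃ U : S.Opens, (U : Set S).Nonempty ∧
      ∀ s ∈ U, ∀ t ∈ U, HilbFib.hilb f L F s = HilbFib.hilb f L F t := by
  haveI : IsLocallyNoetherian Z := LocallyOfFiniteType.isLocallyNoetherian f
  haveI : Coh.IsQCoh F := hF.1
  obtain ⟨U, hne, hfl⟩ := FlatModBC.exists_opens_flatAt f F hF.2
  haveI : Nonempty U := hne.to_subtype
  haveI : IsIntegral U.toScheme := isIntegral_of_isOpenImmersion U.ι
  haveI : IsLocallyNoetherian U.toScheme := isLocallyNoetherian_of_isOpenImmersion U.ι
  haveI : IsProper (f ∣_ U) := IsZariskiLocalAtTarget.restrict (P := @IsProper) ‹_› U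
  haveI : LocallyOfFinitePresentation (f ∣_ U) := by
    haveI : LocallyOfFinitePresentation f := LocallyOfFinitePresentation.iff_locallyOfFiniteType.2 inferInstance
    exact IsZariskiLocalAtTarget.restrict (P := @LocallyOfFinitePresentation) ‹_› U
  have sq : IsPullback (f ⁻¹ᵁ U).ι (f ∣_ U) f U.ι := (isPullback_morphismRestrict f U).flip
  have hF' := QC.isCoh_pullback (f ⁻¹ᵁ U).ι hF
  haveI : IsLocallyNoetherian (f ⁻¹ᵁ U).toScheme := isLocallyNoetherian_of_isOpenImmersion (f ⁻¹ᵁ U).ι
  have hfl' : FlatMod.IsFlatOver (f ∣_ U) ((Scheme.Modules.pullback (f ⁻¹ᵁ U).ι).obj F) :=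
    fun x => FlatModBC.isFlatOverAt_baseChange sq F x (hfl _ x.2)
  haveI := hF'.1
  have hlc := HilbFib.isLocallyConstant_hilb (f := f ∣_ U)
    (PicLoc.isInvertible_pullback (f ⁻¹ᵁ U).ι hL) (QC.isFP_of_isQCoh_of_isFT hF'.2) hfl'
  refine ⟨U, hne, fun s hs t ht => funext fun n => ?_⟩
  have h := hlc.apply_eq_of_isPreconnected (PreirreducibleSpace.isPreirreducible_univ (X := U.toScheme)).isPreconnected
    (x := (⟨s, hs⟩ : U.toScheme)) (y := (⟨t, ht⟩ : U.toScheme)) (Set.mem_univ _) (Set.mem_univ _)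
  have e := fun z : U.toScheme => HilbFib.hilb_of_isPullback sq hL hF.1 (Iso.refl _) (Iso.refl _) z n
  calc HilbFib.hilb f L F s n = _ := (e ⟨s, hs⟩).symm
    _ = _ := congrFun h n
    _ = HilbFib.hilb f L F t n := e ⟨t, ht⟩

variable (k : Type u) [Field k] (X : Scheme.{u}) [X.Over (Spec (CommRingCat.of k))]
  [IsProper (X ↘ Spec (CommRingCat.of k))] {L : X.Modules} (hL : CohB1.IsAmple L)
include hL

/-- The Hilbert polynomial of a fibre, read off from the family. -/
theorem hp_point (A B : Type u) [CommRing A] [Algebra k A] [Field B] [Algebra k B] [Algebra A B]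
    [IsScalarTower k A B] {Q : (XA k X A).Modules} (hQ : Coh.IsCoh Q)
    (hLB : CohB1.IsAmple ((Scheme.Modules.pullback (pA k X B)).obj L)) (y : Spec (CommRingCat.of B)) (m : ℕ) :
    letI : (XA k X B).Over (Spec (CommRingCat.of B)) := ⟨pullback.snd _ _⟩
    (Sh.hp B ((Scheme.Modules.pullback (pA k X B)).obj L) ((Scheme.Modules.pullback (ψ k X A B)).obj Q)).eval (m : ℚ) =
      (HilbFib.hilb (pullback.snd (X ↘ Spec (CommRingCat.of k)) (Spec.map (CommRingCat.ofHom (algebraMap k A))))
        ((Scheme.Modules.pullback (pA k X A)).obj L) Q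
        ((Spec.map (CommRingCat.ofHom (algebraMap A B))).base y) m : ℚ) := by
  letI : (XA k X B).Over (Spec (CommRingCat.of B)) := ⟨pullback.snd _ _⟩
  haveI : IsProper ((XA k X B) ↘ Spec (CommRingCat.of B)) :=
    inferInstanceAs (IsProper (pullback.snd (X ↘ Spec (CommRingCat.of k)) _))
  have hQB := QC.isCoh_pullback (ψ k X A B) hQ
  rw [← Sh.isHilbPoly_hp B hLB.1 hQB m, ← hilb_field hLB.1 hQB.1 y m]
  exact congrArg (fun z : ℤ => (z : ℚ)) (HilbFib.hilb_of_isPullback (isPullback_ψ k X A B)
    (PicLoc.isInvertible_pullback (pA k X A) hL.1) hQ.1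
    (cmpG (ψ k X A B) (pA k X A) (pA k X B) (ψ_fst k X A B) L) (Iso.refl _) y m)

/-- The polarisation stays ample. -/
theorem isAmple_pA (K' : Type u) [Field K'] [Algebra k K'] :
    CohB1.IsAmple ((Scheme.Modules.pullback (pA k X K')).obj L) := by
  haveI : IsAffineHom (pA k X K') := MorphismProperty.pullback_fst _ _ inferInstance
  exact TMul.isAmple_pullback_of_isAffineHom _ hL

/-- A coherent family over a finitely generated domain has a finite point with the Hilbert
polynomial of the generic point. -/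
theorem exists_finite_point (K : Type u) [Field K] [Algebra k K] (A : Subalgebra k K) (hA : A.FG)
    {Q : (XA k X A).Modules} (hQ : Coh.IsCoh Q)
    :
    ∃ (k' : Type u) (_ : Field k') (_ : Algebra k k') (_ : Module.Finite k k') (_ : Algebra A k')
      (_ : IsScalarTower k A k'),
      (letI : (XA k X k').Over (Spec (CommRingCat.of k')) := ⟨pullback.snd _ _⟩
       Sh.hp k' ((Scheme.Modules.pullback (pA k X k')).obj L) ((Scheme.Modules.pullback (ψ k X A k')).obj Q)) =
      (letI : (XA k X K).Over (Spec (CommRingCat.of K)) := ⟨pullback.snd _ _⟩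
       Sh.hp K ((Scheme.Modules.pullback (pA k X K)).obj L) ((Scheme.Modules.pullback (ψ k X A K)).obj Q)) := by
  haveI : Algebra.FiniteType k A := (Subalgebra.fg_iff_finiteType A).1 hA
  haveI : IsNoetherianRing A := Algebra.FiniteType.isNoetherianRing k A
  haveI : IsJacobsonRing A := isJacobsonRing_of_finiteType (A := k)
  obtain ⟨U, hne, hU⟩ := exists_open_hilb_const
    (pullback.snd (X ↘ Spec (CommRingCat.of k)) (Spec.map (CommRingCat.ofHom (algebraMap k A))))
    (PicLoc.isInvertible_pullback (pA k X A) hL.1) hQ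
  haveI : JacobsonSpace (PrimeSpectrum A) := PrimeSpectrum.isJacobsonRing_iff_jacobsonSpace.1 inferInstance
  obtain ⟨s, hsU, hs⟩ := nonempty_inter_closedPoints (X := PrimeSpectrum A) (Z := U.carrier) hne
    U.2.isLocallyClosed
  haveI : s.asIdeal.IsMaximal := (PrimeSpectrum.isClosed_singleton_iff_isMaximal s).1 hs
  letI : Field (A ⧸ s.asIdeal) := Ideal.Quotient.field _
  haveI : Algebra.FiniteType k (A ⧸ s.asIdeal) :=
    (inferInstance : Algebra.FiniteType k A).of_surjective (Ideal.Quotient.mkₐ k s.asIdeal)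
      Ideal.Quotient.mk_surjective
  haveI : Module.Finite k (A ⧸ s.asIdeal) := finite_of_finite_type_of_isJacobsonRing k (A ⧸ s.asIdeal)
  refine ⟨A ⧸ s.asIdeal, inferInstance, inferInstance, inferInstance, inferInstance, inferInstance, ?_⟩
  let y₁ : Spec (CommRingCat.of (A ⧸ s.asIdeal)) := (⟨⊥, Ideal.isPrime_bot⟩ : PrimeSpectrum (A ⧸ s.asIdeal))
  let y₂ : Spec (CommRingCat.of K) := (⟨⊥, Ideal.isPrime_bot⟩ : PrimeSpectrum K)
  have h₁ : (Spec.map (CommRingCat.ofHom (algebraMap A (A ⧸ s.asIdeal)))).base y₁ ∈ U := by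
    have e : (Spec.map (CommRingCat.ofHom (algebraMap A (A ⧸ s.asIdeal)))).base y₁ = s :=
      PrimeSpectrum.ext ((RingHom.ker_eq_comap_bot _).symm.trans Ideal.mk_ker)
    rw [e]
    exact hsU
  have h₂ : (Spec.map (CommRingCat.ofHom (algebraMap A K))).base y₂ ∈ U := by
    have e : (Spec.map (CommRingCat.ofHom (algebraMap A K))).base y₂ = (⟨⊥, Ideal.isPrime_bot⟩ : PrimeSpectrum A) :=
      PrimeSpectrum.ext ((RingHom.ker_eq_comap_bot _).symm.trans
        ((RingHom.injective_iff_ker_eq_bot _).1 Subtype.val_injective))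
    rw [e]
    exact ((PrimeSpectrum.le_iff_specializes _ s).1 (bot_le : (⊥ : Ideal A) ≤ s.asIdeal)).mem_open U.2 hsU
  refine eq_of_eval_nat fun m => ?_
  rw [hp_point k X hL A (A ⧸ s.asIdeal) hQ (isAmple_pA k X hL _) y₁ m, hp_point k X hL A K hQ (isAmple_pA k X hL K) y₂ m,
    hU _ h₁ _ h₂]

/-- A subsheaf of a base change has a companion over a finite extension with the same Hilbert polynomial. -/
theorem exists_sub_finite (K : Type u) [Field K] [Algebra k K] {E : X.Modules} (hE : Coh.IsCoh E)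
    {F : (XA k X K).Modules} (j : F ⟶ (Scheme.Modules.pullback (pA k X K)).obj E) [Mono j] (hF : Coh.IsCoh F) :
    ∃ (k' : Type u) (_ : Field k') (_ : Algebra k k') (_ : Module.Finite k k') (G : (XA k X k').Modules)
      (i : G ⟶ (Scheme.Modules.pullback (pA k X k')).obj E), Mono i ∧ Coh.IsCoh G ∧
      (letI : (XA k X k').Over (Spec (CommRingCat.of k')) := ⟨pullback.snd _ _⟩
       Sh.hp k' ((Scheme.Modules.pullback (pA k X k')).obj L) G) =
      (letI : (XA k X K).Over (Spec (CommRingCat.of K)) := ⟨pullback.snd _ _⟩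
       Sh.hp K ((Scheme.Modules.pullback (pA k X K)).obj L) F) := by
  obtain ⟨A, hA, Q, q, hQ, hq, ⟨eQ⟩⟩ := exists_model K hE j hF
  obtain ⟨k', _, _, hfin, _, _, heq⟩ := exists_finite_point k X hL K A hA hQ
  haveI := hfin
  haveI := hq
  letI : (XA k X k').Over (Spec (CommRingCat.of k')) := ⟨pullback.snd _ _⟩
  letI : (XA k X K).Over (Spec (CommRingCat.of K)) := ⟨pullback.snd _ _⟩
  haveI : IsProper ((XA k X k') ↘ Spec (CommRingCat.of k')) :=
    inferInstanceAs (IsProper (pullback.snd (X ↘ Spec (CommRingCat.of k)) _))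
  haveI : IsProper ((XA k X K) ↘ Spec (CommRingCat.of K)) :=
    inferInstanceAs (IsProper (pullback.snd (X ↘ Spec (CommRingCat.of k)) _))
  haveI := CurveRR.isNoetherian_of_proper k' (XA k X k')
  let I' := Sh.inv k' (isAmple_pA k X hL k')
  let IK := Sh.inv K (isAmple_pA k X hL K)
  let p : (Scheme.Modules.pullback (pA k X k')).obj E ⟶ (Scheme.Modules.pullback (ψ k X A k')).obj Q :=
    (cmpG (ψ k X A k') (pA k X A) (pA k X k') (ψ_fst k X A k') E).inv ≫ (Scheme.Modules.pullback _).map q
  have hE' : Inv.ok I' ((Scheme.Modules.pullback (pA k X k')).obj E) := QC.isCoh_pullback _ hE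
  have hQ' : Inv.ok I' ((Scheme.Modules.pullback (ψ k X A k')).obj Q) := QC.isCoh_pullback _ hQ
  have hEK : Inv.ok IK ((Scheme.Modules.pullback (pA k X K)).obj E) := QC.isCoh_pullback _ hE
  refine ⟨k', inferInstance, inferInstance, inferInstance, kernel p, kernel.ι p, inferInstance,
    Inv.ok_kernel I' p hE' hQ', ?_⟩
  have e1 : Inv.hp I' ((Scheme.Modules.pullback (pA k X k')).obj E) = Inv.hp I' (kernel p) +
    Inv.hp I' ((Scheme.Modules.pullback (ψ k X A k')).obj Q) := Inv.hp_kernel I' p hE' hQ'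
  have e2 : Inv.hp IK ((Scheme.Modules.pullback (pA k X K)).obj E) = Inv.hp IK F + Inv.hp IK (cokernel j) :=
    Inv.hp_cokernel IK j hF hEK
  have e3 : Inv.hp IK ((Scheme.Modules.pullback (ψ k X A K)).obj Q) = Inv.hp IK (cokernel j) :=
    Inv.hp_iso IK eQ (QC.isCoh_pullback _ hQ)
  have h1 : Inv.hp I' ((Scheme.Modules.pullback (pA k X k')).obj E) = Sh.hp k L E :=
    Sh.hilb_unique (Sh.isHilbPoly_hp k' (isAmple_pA k X hL k').1 hE') (Sh.isHilbPoly_bc k hL k' hE)
  have h2 : Inv.hp IK ((Scheme.Modules.pullback (pA k X K)).obj E) = Sh.hp k L E :=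
    Sh.hilb_unique (Sh.isHilbPoly_hp K (isAmple_pA k X hL K).1 hEK) (Sh.isHilbPoly_bc k hL K hE)
  have h3 : Inv.hp I' ((Scheme.Modules.pullback (ψ k X A k')).obj Q) =
      Inv.hp IK ((Scheme.Modules.pullback (ψ k X A K)).obj Q) := heq
  show Inv.hp I' (kernel p) = Inv.hp IK F
  linear_combination -e1 + e2 + h1 - h2 - h3 - e3

end Groth.Agent.StabLib.Model

end
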