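/-
Push forward along a finite extension of the base field.
-/
import Groth.Agent.StabLib.Special
import Groth.Agent.StabLib.Endo
import Groth.Agent.EulerMult.Basic
import Groth.Agent.W7Hull.AmpleSurj
import Groth.Agent.PtPush.Line
import Groth.Agent.ModDesc.Func
import Groth.Agent.QC.Localisation
import Groth.Agent.Devissage.Power
import Mathlib.LinearAlgebra.TensorProduct.Basis

set_option autoImplicit false
set_option linter.style.haveILetI false
set_option linter.unusedSectionVars false
set_option backward.isDefEq.respectTransparency false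
set_option backward.isDefEq.respectTransparency.types false
set_option maxHeartbeats 1000000

universe u

open CategoryTheory CategoryTheory.Limits AlgebraicGeometry TopologicalSpace Opposite
open scoped Polynomial TensorProduct
open Groth.Agent.W7Cech (secRing secA pullSec)

noncomputable section

namespace Groth.Agent.StabLib.Model

attribute [local instance] Abelian.hasFiniteBiproducts

variable (k : Type u) [Field k] (X : Scheme.{u}) [X.Over (Spec (CommRingCat.of k))]
variable (K : Type u) [Field K] [Algebra k K] [Module.Finite k K]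

lemma isFinite_pA : IsFinite (pA k X K) := by
  haveI : IsFinite (Spec.map (CommRingCat.ofHom (algebraMap k K))) :=
    (IsFinite.SpecMap_iff _).2 (RingHom.finite_algebraMap.2 ‹_›)
  exact MorphismProperty.pullback_fst _ _ ‹_›

/-- The unit followed by multiplication by a scalar. -/
def scalMap (E : X.Modules) (c : K) :
    E ⟶ (Scheme.Modules.pushforward (pA k X K)).obj ((Scheme.Modules.pullback (pA k X K)).obj E) :=
  (Scheme.Modules.pullbackPushforwardAdjunction (pA k X K)).unit.app E ≫ (Scheme.Modules.pushforward (pA k X K)).map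
    (Endo.sc ((Scheme.Modules.pullback (pA k X K)).obj E) (Coh.toGlobal (pullback.snd _ _ : XA k X K ⟶ _) c))

/-- The scalars of a basis give an isomorphism with the push forward. -/
theorem isIso_powMap (E : X.Modules) (hE : Coh.IsQCoh E) :
    IsIso (biproduct.desc fun i : Fin (Module.finrank k K) => scalMap k X K E (Module.finBasis k K i)) := by
  let γ := pA k X K
  letI : (XA k X K).Over (Spec (CommRingCat.of K)) := ⟨pullback.snd _ _⟩
  have sq : IsPullback γ ((XA k X K) ↘ Spec (CommRingCat.of K)) (X ↘ Spec (CommRingCat.of k))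
      (Spec.map (CommRingCat.ofHom (algebraMap k K))) := IsPullback.of_hasPullback _ _
  let b := Module.finBasis k K
  let θ := fun i : Fin (Module.finrank k K) => scalMap k X K E (b i)
  let Θ := biproduct.desc θ
  haveI := isFinite_pA k X K
  haveI : Coh.IsQCoh ((Scheme.Modules.pullback γ).obj E) := QC.isQCoh_pullback γ hE
  have hB : Coh.IsQCoh (⨁ fun _ : Fin (Module.finrank k K) => E) :=
    Devissage.isQCoh_biproduct _ fun _ => hE
  haveI : IsIso Θ := by
    refine ModDesc.isIso_of_affine_cover hB (QC.isQCoh_pushforward γ) Θ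
      (fun V : X.affineOpens => V.1) (fun V => V.2) (fun x => ?_) fun ⟨V, hV⟩ => ?_
    · obtain ⟨_, ⟨V, hV, rfl⟩, hx, -⟩ :=
        X.isBasis_affineOpens.exists_subset_of_mem_open (Set.mem_univ x) isOpen_univ
      exact ⟨⟨V, hV⟩, hx⟩
    haveI : (secA k (X := X) V).Additive := ⟨fun {_ _ _ _} => rfl⟩
    let N₀ : ModuleCat.{u} K := (secA K (γ ⁻¹ᵁ V)).obj ((Scheme.Modules.pullback γ).obj E)
    letI : Module k N₀ := Module.compHom N₀ (algebraMap k K)
    haveI : IsScalarTower k K N₀ := IsScalarTower.of_algebraMap_smul fun _ _ => rfl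
    let M₀ : ModuleCat.{u} k := (secA k V).obj E
    have hbc := W7Cech.isBaseChange_pullSec k K γ sq hE hV
    let e : (Fin (Module.finrank k K) → M₀) ≃ₗ[k] N₀ :=
      (Finsupp.linearEquivFunOnFinite k M₀ (Fin (Module.finrank k K))).symm ≪≫ₗ
        (TensorProduct.equivFinsuppOfBasisLeft b).symm ≪≫ₗ hbc.equiv.restrictScalars k
    have he : ∀ m, e m = ∑ i, b i • (pullSec k K γ (F := E) V sq (m i) : N₀) := by
      intro m
      simp only [e, LinearEquiv.trans_apply, LinearEquiv.restrictScalars_apply,
        TensorProduct.equivFinsuppOfBasisLeft_symm_apply]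
      rw [Finsupp.sum_fintype _ _ (fun i => TensorProduct.tmul_zero _ _), map_sum]
      exact Finset.sum_congr rfl fun i _ => hbc.equiv_tmul _ _
    have hθ : ∀ i (x : Γ(E, V)), ((secA k V).map (θ i)).hom x = (b i • (pullSec k K γ (F := E) V sq x : N₀) : N₀) :=
      fun i x => rfl
    let B := ⨁ fun _ : Fin (Module.finrank k K) => E
    have hdec : ∀ z : Γ(B, V), ((secA k V).map Θ).hom z =
        e fun i => ((secA k V).map (biproduct.π (fun _ : Fin (Module.finrank k K) => E) i)).hom z := by
      intro z
      have h : Θ = ∑ i, biproduct.π (fun _ : Fin (Module.finrank k K) => E) i ≫ θ i := by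
        refine biproduct.hom_ext' _ _ fun j => ?_
        rw [biproduct.ι_desc, Preadditive.comp_sum, Finset.sum_eq_single j
          (fun i _ hi => by rw [biproduct.ι_π_ne_assoc _ (Ne.symm hi), zero_comp])
          (fun hj => absurd (Finset.mem_univ j) hj), biproduct.ι_π_self_assoc]
      rw [he, h, Functor.map_sum, ModuleCat.hom_sum, LinearMap.sum_apply]
      exact Finset.sum_congr rfl fun i _ => hθ i _
    have hid : ∀ z : Γ(B, V), z = ∑ i, ((secA k V).map (biproduct.ι (fun _ : Fin (Module.finrank k K) => E) i)).hom
        (((secA k V).map (biproduct.π (fun _ : Fin (Module.finrank k K) => E) i)).hom z) := by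
      intro z
      have h := congrArg (fun g => ((secA k V).map g).hom z)
        (biproduct.total (f := fun _ : Fin (Module.finrank k K) => E))
      simp only [Functor.map_sum, Functor.map_comp, Functor.map_id, ModuleCat.hom_sum,
        LinearMap.sum_apply, ModuleCat.hom_comp, LinearMap.comp_apply, ModuleCat.hom_id, LinearMap.id_apply] at h
      exact h.symm
    constructor
    · intro z z' hz
      have h : ((secA k V).map Θ).hom z = ((secA k V).map Θ).hom z' := hz
      rw [hdec, hdec] at h
      have h' := congrFun (e.injective h)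
      rw [hid z, hid z']
      exact Finset.sum_congr rfl fun i _ => congrArg _ (h' i)
    · intro w
      refine ⟨(∑ i, ((secA k V).map (biproduct.ι (fun _ : Fin (Module.finrank k K) => E) i)).hom (e.symm w i) : (secA k V).obj B), ?_⟩
      show ((secA k V).map Θ).hom _ = (w : N₀)
      rw [map_sum]
      refine Eq.trans (Finset.sum_congr rfl fun i _ => ?_) ((he _).symm.trans (e.apply_symm_apply w))
      rw [← LinearMap.comp_apply, ← ModuleCat.hom_comp, ← Functor.map_comp, biproduct.ι_desc]
      exact hθ i _
  show IsIso Θ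
  infer_instance

/-- The sheaf pushed forward from a finite extension is a power. -/
theorem nonempty_power_iso (E : X.Modules) (hE : Coh.IsQCoh E) :
    Nonempty ((⨁ fun _ : Fin (Module.finrank k K) => E) ≅
      (Scheme.Modules.pushforward (pA k X K)).obj ((Scheme.Modules.pullback (pA k X K)).obj E)) :=
  haveI := isIso_powMap k X K E hE
  ⟨asIso (biproduct.desc fun i : Fin (Module.finrank k K) => scalMap k X K E (Module.finBasis k K i))⟩

variable [IsProper (X ↘ Spec (CommRingCat.of k))] {L : X.Modules} (hL : CohB1.IsAmple L)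
include hL

/-- Hilbert polynomials of push forwards. -/
theorem hp_push {G : (XA k X K).Modules} (hG : Coh.IsCoh G) :
    Coh.IsCoh ((Scheme.Modules.pushforward (pA k X K)).obj G) ∧
    Sh.hp k L ((Scheme.Modules.pushforward (pA k X K)).obj G) = (Module.finrank k K : ℚ) •
      (letI : (XA k X K).Over (Spec (CommRingCat.of K)) := ⟨pullback.snd _ _⟩
       Sh.hp K ((Scheme.Modules.pullback (pA k X K)).obj L) G) := by
  let γ := pA k X K
  haveI := isFinite_pA k X K
  haveI := CurveRR.isNoetherian_of_proper k X
  letI : (XA k X K).Over (Spec (CommRingCat.of K)) := ⟨pullback.snd _ _⟩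
  haveI : IsProper ((XA k X K) ↘ Spec (CommRingCat.of K)) :=
    inferInstanceAs (IsProper (pullback.snd (X ↘ Spec (CommRingCat.of k)) _))
  haveI := hG.1
  have hpush : Coh.IsCoh ((Scheme.Modules.pushforward γ).obj G) := QC.isCoh_pushforward_of_isFinite γ hG.2
  refine ⟨hpush, eq_of_eval_nat fun m => ?_⟩
  rw [← Sh.isHilbPoly_hp k hL.1 hpush m, Polynomial.eval_smul,
    ← Sh.isHilbPoly_hp K (isAmple_pA k X hL K).1 hG m, smul_eq_mul]
  obtain ⟨a⟩ := TMul.nonempty_pullPowIso γ L m
  haveI := W7Hull.isIso_projMap_of_invertible γ G (TMul.isInvertible_tensorPow hL.1 m)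
  let T := CohB1.tensorMod G ((Scheme.Modules.pullback γ).obj (CohB1.tensorPow L m))
  have hT : Coh.IsQCoh T :=
    TMul.isQCoh_tensor (PicLoc.isInvertible_pullback γ (TMul.isInvertible_tensorPow hL.1 m)) (hF := hG.1)
  letI inst : (XA k X K).Over (Spec (CommRingCat.of k)) :=
    ⟨pullback.snd _ _ ≫ Spec.map (CommRingCat.ofHom (algebraMap k K))⟩
  have h1 : Curv2.euler k X ((Scheme.Modules.pushforward γ).obj T) = @Curv2.euler k _ _ inst T :=
    EulerMult.euler_push_affine γ pullback.condition T hT
  have h2 : @Curv2.euler k _ _ inst T = (Module.finrank k K : ℤ) *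
      @Curv2.euler K _ _ ⟨pullback.snd _ _⟩ T := PtPush.euler_tower k K _ _ T
  have h3 : @Curv2.euler K _ _ ⟨pullback.snd _ _⟩ T =
      Curv2.euler K (XA k X K) (ShStab.twist (XA k X K) ((Scheme.Modules.pullback γ).obj L) G m) :=
    CurveRR.euler_eq_of_iso (PicGrp.tensorModIso (Iso.refl G) a.symm)
  rw [show Curv2.euler k X (ShStab.twist X L ((Scheme.Modules.pushforward γ).obj G) m) =
    Curv2.euler k X ((Scheme.Modules.pushforward γ).obj T) from
      CurveRR.euler_eq_of_iso (@asIso _ _ _ _ (CohFinite.projMap γ G (CohB1.tensorPow L m)) this),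
    h1, h2, h3]
  push_cast
  rfl

end Groth.Agent.StabLib.Model

end
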