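/-
Objects with a jointly monic family of maps to a semistable object.
-/
import Groth.Agent.StabLib.Stab

set_option autoImplicit false
set_option linter.style.haveILetI false
set_option backward.isDefEq.respectTransparency false
set_option backward.isDefEq.respectTransparency.types false

universe v u

open CategoryTheory CategoryTheory.Limits StabCat
open scoped Polynomial

namespace Groth.Agent.StabLib.Inv

variable {C : Type u} [Category.{v} C] [Abelian C] {I : Inv C} {d : ℕ} {E : C}

/-- An object separated by maps to a semistable object is pure and no more unstable. -/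
theorem sub_power (hE : I.SSo d E) {ι : Type*} (s : Finset ι) :
    ∀ (G : C), I.ok G → ∀ f : ι → (G ⟶ E),
      (∀ {Y : C} (y : Y ⟶ G), (∀ i ∈ s, y ≫ f i = 0) → y = 0) →
      Nn (D d (I.hp G) (I.hp E)) ∧ (¬ IsZero G → (I.hp G).natDegree = d) := by
  classical
  induction s using Finset.induction_on with
  | empty =>
    intro G hG f hf
    have hz : IsZero G := (IsZero.iff_id_eq_zero G).2 (hf (𝟙 G) (by simp))
    rw [I.hp_zero hz hG, D_zero_left]
    exact ⟨nn_zero, fun h => absurd hz h⟩
  | insert a s ha ih =>
    intro G hG f hf
    let K := kernel (f a)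
    have hK : I.ok K := I.ok_kernel _ hG hE.1
    obtain ⟨h1, h2⟩ := ih K hK (fun i => kernel.ι (f a) ≫ f i) fun {Y} y hy => by
      rw [← cancel_mono (kernel.ι (f a)), zero_comp]
      refine hf _ fun i hi => ?_
      rcases Finset.mem_insert.1 hi with rfl | hi
      · rw [Category.assoc, kernel.condition, comp_zero]
      · rw [Category.assoc]; exact hy i hi
    let M := Abelian.image (f a)
    have hM : I.ok M := I.ok_kernel _ hE.1 (I.ok_cokernel _ hG hE.1)
    have e : I.hp G = I.hp K + I.hp M := by
      rw [I.hp_kernel (Abelian.factorThruImage (f a)) hG hM]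
      congr 1
      refine (I.hp_iso ?_ hK).symm
      refine (kernelCompMono (Abelian.factorThruImage (f a)) (Abelian.image.ι (f a))).symm.trans
        (kernelIsoOfEq (Abelian.image.fac (f a))) |>.symm
    refine ⟨by rw [e, D_add_left]; exact h1.add (hE.nn_sub (Abelian.image.ι (f a)) hM), fun h0 => ?_⟩
    have hd : ∀ {A : C}, I.ok A → (¬ IsZero A → (I.hp A).natDegree = d) → (I.hp A).natDegree ≤ d :=
      fun {A} hA h => by
        by_cases hz : IsZero A
        · rw [I.hp_zero hz hA]; simp
        · exact (h hz).le
    have h2' : ¬ IsZero M → (I.hp M).natDegree = d :=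
      hE.2.2.1 M (Abelian.image.ι (f a)) inferInstance hM
    have hle : (I.hp G).natDegree ≤ d := by
      rw [e]
      exact (Polynomial.natDegree_add_le _ _).trans (max_le (hd hK h2) (hd hM h2'))
    refine le_antisymm hle ?_
    by_cases hz : IsZero K
    · have hm : ¬ IsZero M := fun hm => h0 ((I.hp_eq_zero_iff hG).1 (by
        rw [e, I.hp_zero hz hK, I.hp_zero hm hM, add_zero]))
      rw [e, I.hp_zero hz hK, zero_add, h2' hm]
    · calc d = (I.hp K).natDegree := (h2 hz).symm
        _ ≤ (I.hp K + I.hp M).natDegree := natDegree_le_of_nn (I.nn_hp hK) (I.nn_hp hM)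
        _ = _ := by rw [e]

end Groth.Agent.StabLib.Inv
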