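/-
Semistability goes up along field extensions, stability along extensions of algebraically closed fields.
-/
import Groth.Agent.StabLib.FinPush
import Groth.Agent.StabLib.SubPower
import Mathlib.FieldTheory.IsAlgClosed.Basic

set_option autoImplicit false
set_option linter.style.haveILetI false
set_option linter.unusedSectionVars false
set_option backward.isDefEq.respectTransparency false
set_option backward.isDefEq.respectTransparency.types false
set_option maxHeartbeats 1000000

universe u

open CategoryTheory CategoryTheory.Limits AlgebraicGeometry StabCat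
open scoped Polynomial

noncomputable section

namespace Groth.Agent.StabLib.Model

attribute [local instance] Abelian.hasFiniteBiproducts

variable (k : Type u) [Field k] (X : Scheme.{u}) [X.Over (Spec (CommRingCat.of k))]
  [IsProper (X ↘ Spec (CommRingCat.of k))] {L : X.Modules} (hL : CohB1.IsAmple L)
  (K : Type u) [Field K] [Algebra k K] {E : X.Modules} {d : ℕ}
include hL

/-- A subsheaf over an extension field is witnessed below by an object separated by maps to the sheaf. -/
theorem exists_witness (hE : Coh.IsCoh E) {F : (XA k X K).Modules}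
    (j : F ⟶ (Scheme.Modules.pullback (pA k X K)).obj E) [Mono j] (hF : Coh.IsCoh F) :
    ∃ (k' : Type u) (_ : Field k') (_ : Algebra k k') (_ : Module.Finite k k') (G : X.Modules)
      (f : Fin (Module.finrank k k') → (G ⟶ E)), Coh.IsCoh G ∧
      (∀ {Y : X.Modules} (y : Y ⟶ G), (∀ i ∈ (Finset.univ : Finset (Fin (Module.finrank k k'))), y ≫ f i = 0) → y = 0) ∧
      Sh.hp k L G = (Module.finrank k k' : ℚ) •
        (letI : (XA k X K).Over (Spec (CommRingCat.of K)) := ⟨pullback.snd _ _⟩
         Sh.hp K ((Scheme.Modules.pullback (pA k X K)).obj L) F) := by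
  obtain ⟨k', _, _, hfin, G', i, hi, hG', e⟩ := exists_sub_finite k X hL K hE j hF
  haveI := hfin
  haveI := hi
  obtain ⟨hc, ep⟩ := hp_push k X k' hL hG'
  obtain ⟨Θ⟩ := nonempty_power_iso k X k' E hE.1
  haveI : Mono ((Scheme.Modules.pushforward (pA k X k')).map i) := inferInstance
  refine ⟨k', inferInstance, inferInstance, hfin, _,
    fun l => (Scheme.Modules.pushforward (pA k X k')).map i ≫ Θ.inv ≫ biproduct.π _ l, hc,
    fun {Y} y hy => ?_, by rw [ep, e]⟩
  have h : (y ≫ (Scheme.Modules.pushforward (pA k X k')).map i) ≫ Θ.inv = 0 := by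
    refine biproduct.hom_ext _ _ fun l => ?_
    simpa using hy l (Finset.mem_univ l)
  rw [← cancel_mono ((Scheme.Modules.pushforward (pA k X k')).map i), zero_comp,
    ← cancel_mono Θ.inv, h, zero_comp]

/-- Semistable sheaves stay semistable. -/
theorem isSemistable_pullback (hE : ShStab.IsSemistable k X L E d) :
    letI : (XA k X K).Over (Spec (CommRingCat.of K)) := ⟨pullback.snd _ _⟩
    ShStab.IsSemistable K (XA k X K) ((Scheme.Modules.pullback (pA k X K)).obj L)
      ((Scheme.Modules.pullback (pA k X K)).obj E) d := by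
  letI : (XA k X K).Over (Spec (CommRingCat.of K)) := ⟨pullback.snd _ _⟩
  haveI : IsProper ((XA k X K) ↘ Spec (CommRingCat.of K)) :=
    inferInstanceAs (IsProper (pullback.snd (X ↘ Spec (CommRingCat.of k)) _))
  let LK := isAmple_pA k X hL K
  let I := Sh.inv k hL
  let IK := Sh.inv K LK
  have hs : Inv.SSo I d E := (Sh.isSemistable_iff k hL E d).1 hE
  have hEc : Coh.IsCoh E := hE.1
  have hEK : Inv.ok IK ((Scheme.Modules.pullback (pA k X K)).obj E) := QC.isCoh_pullback _ hEc
  have eE : Inv.hp IK ((Scheme.Modules.pullback (pA k X K)).obj E) = Inv.hp I E :=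
    Sh.hilb_unique (Sh.isHilbPoly_hp K LK.1 hEK) (Sh.isHilbPoly_bc k hL K hEc)
  have key : ∀ (F : (XA k X K).Modules) (j : F ⟶ (Scheme.Modules.pullback (pA k X K)).obj E), Mono j →
      Inv.ok IK F → Nn (D d (Inv.hp IK F) (Inv.hp I E)) ∧ (¬ IsZero F → (Inv.hp IK F).natDegree = d) := by
    intro F j hj hF
    haveI := hj
    obtain ⟨k', _, _, hfin, G, f, hG, hf, e⟩ := exists_witness k X hL K hEc j hF
    haveI := hfin
    have hN : (0 : ℚ) < (Module.finrank k k' : ℚ) := by exact_mod_cast Module.finrank_pos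
    obtain ⟨h1, h2⟩ := Inv.sub_power hs Finset.univ G hG f hf
    have e' : Inv.hp I G = (Module.finrank k k' : ℚ) • Inv.hp IK F := e
    refine ⟨?_, fun h0 => ?_⟩
    · rw [e', show D d ((Module.finrank k k' : ℚ) • Inv.hp IK F) (Inv.hp I E) =
        (Module.finrank k k' : ℚ) • D d (Inv.hp IK F) (Inv.hp I E) by
          simp [D, alpha_smul, smul_sub, smul_smul, mul_comm]] at h1
      exact (nn_smul_iff hN).1 h1
    · have hG0 : ¬ IsZero G := fun hz => (Inv.hp_pos IK hF h0).ne_zero (by
        have := (Inv.hp_zero I hz hG).symm.trans e'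
        exact (smul_eq_zero.1 this.symm).resolve_left hN.ne')
      rw [← h2 hG0, e', Polynomial.natDegree_smul _ hN.ne']
  refine (Sh.isSemistable_iff K LK _ d).2 ⟨hEK, fun hz => ?_, fun F j hj hF => (key F j hj hF).2,
    fun F j hj hF _ _ => by rw [eE]; exact (key F j hj hF).1⟩
  refine (Inv.hp_pos I hs.1 hs.2.1).ne_zero ?_
  rw [← eE, Inv.hp_zero IK hz hEK]

/-- Stable sheaves over an algebraically closed field stay stable. -/
theorem isStable_pullback [IsAlgClosed k] (hE : ShStab.IsStable k X L E d) :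
    letI : (XA k X K).Over (Spec (CommRingCat.of K)) := ⟨pullback.snd _ _⟩
    ShStab.IsStable K (XA k X K) ((Scheme.Modules.pullback (pA k X K)).obj L)
      ((Scheme.Modules.pullback (pA k X K)).obj E) d := by
  letI : (XA k X K).Over (Spec (CommRingCat.of K)) := ⟨pullback.snd _ _⟩
  haveI : IsProper ((XA k X K) ↘ Spec (CommRingCat.of K)) :=
    inferInstanceAs (IsProper (pullback.snd (X ↘ Spec (CommRingCat.of k)) _))
  let LK := isAmple_pA k X hL K
  let I := Sh.inv k hL
  let IK := Sh.inv K LK
  have hs : Inv.Sto I d E := (Sh.isStable_iff k hL E d).1 hE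
  obtain ⟨hEK, h0, hp, -⟩ := (Sh.isSemistable_iff K LK _ d).1
    (isSemistable_pullback k X hL K ((Sh.isSemistable_iff k hL E d).2 hs.ss))
  have hEc : Coh.IsCoh E := hE.1
  have eE : Inv.hp IK ((Scheme.Modules.pullback (pA k X K)).obj E) = Inv.hp I E :=
    Sh.hilb_unique (Sh.isHilbPoly_hp K LK.1 hEK) (Sh.isHilbPoly_bc k hL K hEc)
  refine (Sh.isStable_iff K LK _ d).2 ⟨hEK, h0, hp, fun F j hj hF hF0 hi => ?_⟩
  haveI := hj
  obtain ⟨k', _, _, hfin, G, f, hG, hf, e⟩ := exists_witness k X hL K hEc j hF
  haveI := hfin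
  have h1 : Module.finrank k k' = 1 := by
    have hb := IsAlgClosed.algebraMap_bijective_of_isIntegral (k := k) (K := k')
    exact (LinearEquiv.ofBijective (Algebra.linearMap k k') hb).finrank_eq.symm.trans (Module.finrank_self k)
  have e' : Inv.hp I G = Inv.hp IK F := by
    refine e.trans ?_
    rw [h1, Nat.cast_one, one_smul]
    rfl
  let g := f ⟨0, by omega⟩
  haveI : Mono g := Preadditive.mono_of_cancel_zero _ fun y hy => hf y fun i _ => by
    rw [show i = (⟨0, by omega⟩ : Fin (Module.finrank k k')) from Fin.ext (by omega)]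
    exact hy
  have hG0 : ¬ IsZero G := fun hz => (Inv.hp_pos IK hF hF0).ne_zero (e'.symm.trans (Inv.hp_zero I hz hG))
  have hgi : ¬ IsIso g := fun hiso => by
    have h := (Inv.hp_iso I (@asIso _ _ _ _ g hiso) hG).symm
    rw [e', ← eE, Inv.hp_cokernel IK j hF hEK, add_eq_left] at h
    refine hi ?_
    have hz := (Inv.hp_eq_zero_iff IK (Inv.ok_cokernel IK j hF hEK)).1 h
    haveI : Epi j := Abelian.epi_of_cokernel_π_eq_zero _ (hz.eq_of_tgt _ _)
    exact isIso_of_mono_of_epi j
  rw [eE, ← e']
  exact hs.2.2.2 G g inferInstance hG hG0 hgi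

end Groth.Agent.StabLib.Model

end
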