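/-
Filtrations recorded as finite chains, and comparisons of polynomial conventions.
-/
import Groth.Agent.StabLib.ShApps
import Groth.Prelude.Def_W4c2simpsonmod1HP

set_option autoImplicit false
set_option linter.style.haveILetI false
set_option backward.isDefEq.respectTransparency false

universe u

open CategoryTheory CategoryTheory.Limits StabCat Filter
open scoped Polynomial

namespace Groth.Agent.StabLib

section chain

variable {α : Type*} [PartialOrder α] [BoundedOrder α]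

/-- Conditions on adjacent members of a series. -/
def SeriesCond (P : ∀ A B : α, A < B → Prop) (R : ∀ A B B' : α, A < B → B < B' → Prop)
    (s : LTSeries α) : Prop :=
  s.head = ⊥ ∧ s.last = ⊤ ∧ (∀ i : Fin s.length, P _ _ (s.step i)) ∧
    ∀ i j : Fin s.length, i.val + 1 = j.val → ∀ (h : s i.castSucc < s i.succ) (h' : s i.succ < s j.succ),
      R _ _ _ h h'

/-- Conditions on adjacent members of a finite chain. -/
def FinsetCond (G : α → Prop) (P : ∀ A B : α, A < B → Prop) (R : ∀ A B B' : α, A < B → B < B' → Prop)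
    (C : Finset α) : Prop :=
  ⊥ ∈ C ∧ ⊤ ∈ C ∧ IsChain (fun A B : α => A ≤ B) (↑C : Set α) ∧ (∀ A ∈ C, G A) ∧
    (∀ A ∈ C, ∀ B ∈ C, ∀ hAB : A < B, (∀ D ∈ C, ¬ (A < D ∧ D < B)) → P A B hAB) ∧
    (∀ A ∈ C, ∀ B ∈ C, ∀ B' ∈ C, ∀ (hAB : A < B) (hBB : B < B'),
      (∀ D ∈ C, ¬ (A < D ∧ D < B)) → (∀ D ∈ C, ¬ (B < D ∧ D < B')) → R A B B' hAB hBB)

lemma exists_series (C : Finset α) (hb : ⊥ ∈ C) (ht : ⊤ ∈ C)
    (hc : IsChain (fun A B : α => A ≤ B) (↑C : Set α)) :
    ∃ s : LTSeries α, s.head = ⊥ ∧ s.last = ⊤ ∧ Set.range s.toFun = (↑C : Set α) := by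
  classical
  letI : LinearOrder {x : α // x ∈ C} :=
    { (inferInstance : PartialOrder {x : α // x ∈ C}) with
      le_total := fun a b => hc.total a.2 b.2
      toDecidableLE := Classical.decRel _ }
  obtain ⟨m, ⟨e⟩⟩ : ∃ m : ℕ, Nonempty (Fin (m + 1) ≃o {x : α // x ∈ C}) :=
    ⟨Fintype.card {x : α // x ∈ C} - 1, ⟨Fintype.orderIsoFinOfCardEq _
      (Nat.succ_pred_eq_of_pos (Fintype.card_pos_iff.2 ⟨⟨⊥, hb⟩⟩)).symm⟩⟩
  refine ⟨LTSeries.mk m (fun i => (e i).1) fun i j h => e.strictMono h, ?_, ?_, ?_⟩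
  · show (e 0).1 = ⊥
    exact le_bot_iff.1 ((e.monotone (Fin.zero_le (e.symm ⟨⊥, hb⟩))).trans
      (le_of_eq (e.apply_symm_apply _)))
  · show (e (Fin.last m)).1 = ⊤
    exact top_le_iff.1 ((le_of_eq (e.apply_symm_apply ⟨⊤, ht⟩).symm).trans
      (e.monotone (Fin.le_last _)))
  · ext x
    refine ⟨fun ⟨i, hi⟩ => hi ▸ (e i).2, fun hx => ⟨e.symm ⟨x, hx⟩, ?_⟩⟩
    exact congrArg Subtype.val (e.apply_symm_apply ⟨x, hx⟩)

lemma cover_step (s : LTSeries α) (i : Fin s.length) (D : α) (hD : D ∈ Set.range s.toFun) :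
    ¬ (s i.castSucc < D ∧ D < s i.succ) := by
  obtain ⟨j, rfl⟩ := hD
  rintro ⟨h1, h2⟩
  have h1' : i.castSucc < j := (LTSeries.strictMono s).lt_iff_lt.1 h1
  have h2' : j < i.succ := (LTSeries.strictMono s).lt_iff_lt.1 h2
  simp only [Fin.lt_def, Fin.val_castSucc, Fin.val_succ] at h1' h2'
  omega

lemma step_of_cover (s : LTSeries α) {A B : α} (hA : A ∈ Set.range s.toFun)
    (hB : B ∈ Set.range s.toFun) (hAB : A < B) (hc : ∀ D ∈ Set.range s.toFun, ¬ (A < D ∧ D < B)) :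
    ∃ i : Fin s.length, A = s i.castSucc ∧ B = s i.succ := by
  obtain ⟨a, rfl⟩ := hA
  obtain ⟨b, rfl⟩ := hB
  have hab : a < b := (LTSeries.strictMono s).lt_iff_lt.1 hAB
  have ha : a.1 < s.length := lt_of_lt_of_le (Fin.lt_def.1 hab) (Nat.le_of_lt_succ b.2)
  refine ⟨⟨a.1, ha⟩, rfl, congrArg s.toFun ?_⟩
  by_contra hne
  refine hc _ ⟨(⟨a.1, ha⟩ : Fin s.length).succ, rfl⟩ ⟨s.step ⟨a.1, ha⟩, LTSeries.strictMono s ?_⟩
  refine lt_of_le_of_ne ?_ (Ne.symm hne)
  simp only [Fin.le_def, Fin.val_succ]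
  exact Fin.lt_def.1 hab

theorem existsUnique_finset (G : α → Prop) (P : ∀ A B : α, A < B → Prop)
    (R : ∀ A B B' : α, A < B → B < B' → Prop) (h : ∃! s : LTSeries α, SeriesCond P R s)
    (hG : ∀ s : LTSeries α, SeriesCond P R s → ∀ i : Fin (s.length + 1), G (s i)) :
    ∃! C : Finset α, FinsetCond G P R C := by
  classical
  obtain ⟨s, hs, huniq⟩ := h
  refine ⟨Finset.univ.image s.toFun, ?_, fun C hC => ?_⟩
  · have hr : ∀ {x : α}, x ∈ Finset.univ.image s.toFun → x ∈ Set.range s.toFun := fun hx => by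
      simpa using hx
    have hr' : ∀ {x : α}, x ∈ Set.range s.toFun → x ∈ Finset.univ.image s.toFun := fun hx => by
      simpa using hx
    refine ⟨hr' ⟨0, hs.1⟩, hr' ⟨Fin.last _, hs.2.1⟩, ?_, fun A hA => ?_, ?_, ?_⟩
    · intro x hx y hy _
      obtain ⟨a, rfl⟩ := hr hx
      obtain ⟨b, rfl⟩ := hr hy
      exact (le_total a b).imp (fun h => (LTSeries.monotone s) h) fun h => (LTSeries.monotone s) h
    · obtain ⟨a, rfl⟩ := hr hA
      exact hG s hs a
    · intro A hA B hB hAB hc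
      obtain ⟨i, rfl, rfl⟩ := step_of_cover s (hr hA) (hr hB) hAB fun D hD => hc D (hr' hD)
      exact hs.2.2.1 i
    · intro A hA B hB B' hB' hAB hBB hc hc'
      obtain ⟨i, rfl, rfl⟩ := step_of_cover s (hr hA) (hr hB) hAB fun D hD => hc D (hr' hD)
      obtain ⟨j, e, rfl⟩ := step_of_cover s (hr hB) (hr hB') hBB fun D hD => hc' D (hr' hD)
      exact hs.2.2.2 i j (congrArg Fin.val ((LTSeries.strictMono s).injective e)) hAB hBB
  · obtain ⟨hb, ht, hc, -, hP, hR⟩ := hC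
    obtain ⟨t, t0, t1, htC⟩ := exists_series C hb ht hc
    have hm : ∀ i : Fin (t.length + 1), t i ∈ C := fun i => by
      rw [← Finset.mem_coe, ← htC]
      exact ⟨i, rfl⟩
    have ht' : SeriesCond P R t := by
      refine ⟨t0, t1, fun i => hP _ (hm _) _ (hm _) _ fun D hD =>
        cover_step t i D (by rw [htC]; exact hD), fun i j hij h h' => ?_⟩
      refine hR _ (hm _) _ (hm _) _ (hm _) h h' (fun D hD => cover_step t i D (by rw [htC]; exact hD)) ?_
      intro D hD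
      have e : i.succ = j.castSucc := Fin.ext hij
      rw [e]
      exact cover_step t j D (by rw [htC]; exact hD)
    apply Finset.coe_injective
    rw [← htC, huniq t ht']
    simp

end chain

lemma nn_iff_eventually_int {P : ℚ[X]} :
    Nn P ↔ ∃ N : ℤ, ∀ m : ℤ, N ≤ m → 0 ≤ P.eval (m : ℚ) := by
  refine ⟨fun h => ?_, fun ⟨N, hN⟩ => nn_of_eventually (eventually_atTop.2 ⟨N.toNat, fun m hm => ?_⟩)⟩
  · obtain ⟨N, hN⟩ := eventually_atTop.1 h.eventually
    refine ⟨N, fun m hm => ?_⟩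
    have h1 := hN m.toNat (by omega)
    rwa [show ((m.toNat : ℕ) : ℚ) = (m : ℚ) by
      rw [← Int.cast_natCast, Int.toNat_of_nonneg (by omega)]] at h1
  · have h1 := hN (m : ℤ) (by omega)
    rwa [Int.cast_natCast] at h1

lemma pos_iff_eventually_int {P : ℚ[X]} :
    Pos P ↔ ∃ N : ℤ, ∀ m : ℤ, N ≤ m → 0 < P.eval (m : ℚ) := by
  refine ⟨fun h => ?_, fun ⟨N, hN⟩ => pos_iff_eventually.2 (eventually_atTop.2 ⟨N.toNat, fun m hm => ?_⟩)⟩
  · obtain ⟨N, hN⟩ := eventually_atTop.1 h.eventually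
    refine ⟨N, fun m hm => ?_⟩
    have h1 := hN m.toNat (by omega)
    rwa [show ((m.toNat : ℕ) : ℚ) = (m : ℚ) by
      rw [← Int.cast_natCast, Int.toNat_of_nonneg (by omega)]] at h1
  · have h1 := hN (m : ℤ) (by omega)
    rwa [Int.cast_natCast] at h1

lemma simpson_redLE_iff {d : ℕ} {P Q : ℚ[X]} (hP : 0 < alpha d P) (hQ : 0 < alpha d Q) :
    W4c2simpsonmod1.RedLE d P Q ↔ Nn (D d P Q) := by
  rw [nn_iff_eventually_int]
  refine exists_congr fun N => forall_congr' fun m => forall_congr' fun _ => ?_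
  change P.eval (m : ℚ) / alpha d P ≤ Q.eval (m : ℚ) / alpha d Q ↔ _
  rw [div_le_div_iff₀ hP hQ, D, Polynomial.eval_sub, Polynomial.eval_smul, Polynomial.eval_smul,
    smul_eq_mul, smul_eq_mul, sub_nonneg, mul_comm (alpha d P), mul_comm (alpha d Q)]

lemma simpson_redLT_iff {d : ℕ} {P Q : ℚ[X]} (hP : 0 < alpha d P) (hQ : 0 < alpha d Q) :
    W4c2simpsonmod1.RedLT d P Q ↔ Pos (D d P Q) := by
  rw [pos_iff_eventually_int]
  refine exists_congr fun N => forall_congr' fun m => forall_congr' fun _ => ?_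
  change P.eval (m : ℚ) / alpha d P < Q.eval (m : ℚ) / alpha d Q ↔ _
  rw [div_lt_div_iff₀ hP hQ, D, Polynomial.eval_sub, Polynomial.eval_smul, Polynomial.eval_smul,
    smul_eq_mul, smul_eq_mul, sub_pos, mul_comm (alpha d P), mul_comm (alpha d Q)]

end Groth.Agent.StabLib
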