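/-
Jordan-Hölder filtrations with factors free at a point.
-/
import Groth.Agent.StabLib.Built
import Groth.Agent.K0ResLF.Pd
import Groth.Agent.Devissage.Power

set_option autoImplicit false
set_option linter.style.haveILetI false
set_option linter.unusedSectionVars false
set_option backward.isDefEq.respectTransparency false
set_option backward.isDefEq.respectTransparency.types false

universe u

open CategoryTheory CategoryTheory.Limits AlgebraicGeometry StabCat
open scoped Polynomial

noncomputable section

namespace Groth.Agent.StabLib.Sh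

variable {X : Scheme.{u}}

open DCohLocus (FreeAt)

lemma freeAt_retract {M N : X.Modules} (i : M ⟶ N) (r : N ⟶ M) (h : i ≫ r = 𝟙 M) {x : X}
    (hN : FreeAt N x) : FreeAt M x := by
  let a : M.presheaf.stalk x →ₗ[X.presheaf.stalk x] N.presheaf.stalk x :=
    ((DerSch.stalkFunctor X x).map i).hom
  let b : N.presheaf.stalk x →ₗ[X.presheaf.stalk x] M.presheaf.stalk x :=
    ((DerSch.stalkFunctor X x).map r).hom
  have hab : b ∘ₗ a = LinearMap.id := by
    have := congrArg (fun g => ((DerSch.stalkFunctor X x).map g).hom) h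
    simp only [Functor.map_comp, ModuleCat.hom_comp] at this
    exact this.trans (congrArg ModuleCat.Hom.hom ((DerSch.stalkFunctor X x).map_id M))
  haveI := hN.1
  haveI := hN.2
  haveI : Module.Finite (X.presheaf.stalk x) (M.presheaf.stalk x) :=
    Module.Finite.of_surjective b fun v => ⟨a v, LinearMap.congr_fun hab v⟩
  haveI : Module.Projective (X.presheaf.stalk x) (M.presheaf.stalk x) :=
    Module.Projective.of_split a b hab
  exact ⟨Module.free_of_flat_of_isLocalRing, inferInstance⟩

lemma freeAt_biproduct {n : ℕ} [HasFiniteBiproducts X.Modules] (f : Fin n → X.Modules) {x : X}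
    (hf : ∀ i, FreeAt (f i) x) : FreeAt (⨁ f) x := by
  let F := DerSch.stalkFunctor X x
  haveI : ∀ i, Module.Free (X.presheaf.stalk x) (F.obj (f i) : Type u) := fun i => (hf i).1
  haveI : ∀ i, Module.Finite (X.presheaf.stalk x) (F.obj (f i) : Type u) := fun i => (hf i).2
  let e : (F.obj (⨁ f) : Type u) ≃ₗ[X.presheaf.stalk x] ((i : Fin n) → (F.obj (f i) : Type u)) :=
    (F.mapBiproduct f ≪≫ ModuleCat.biproductIsoPi (F.obj ∘ f)).toLinearEquiv
  exact ⟨Module.Free.of_equiv e.symm, Module.Finite.equiv e.symm⟩

variable {E : X.Modules} (s : LTSeries (Subobject E))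

lemma freeAt_factor {x : X} (h : FreeAt (grObj s) x) (i : Fin s.length) : FreeAt (factor s i) x := by
  classical
  exact freeAt_retract (Sigma.ι (fun i : Fin s.length => factor s i) i)
    (Sigma.desc fun j => if e : j = i then eqToHom (congrArg (factor s) e) else 0)
    (by simp) h

lemma freeAt_grObj {x : X} (h : ∀ i : Fin s.length, FreeAt (factor s i) x) : FreeAt (grObj s) x := by
  letI := CategoryTheory.Abelian.hasFiniteBiproducts (C := X.Modules)
  exact DCohLocus.freeAt_of_iso (biproduct.isoCoproduct _) (freeAt_biproduct _ h)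

lemma freeAt_grObj_of_locFree {x : X}
    (h : ∃ U : X.Opens, x ∈ U ∧ FlatMod.IsFinLocFree ((grObj s).restrict U.ι)) : FreeAt (grObj s) x := by
  obtain ⟨U, hx, hU⟩ := h
  exact (DCohLocus.freeAt_restrict_iff _ U ⟨x, hx⟩).1 (DCohLocus.freeAt_of_isFinLocFree hU _)

lemma locFree_grObj [IsLocallyNoetherian X] {x : X} (hc : ∀ i : Fin s.length, Coh.IsCoh (factor s i))
    (h : ∀ i : Fin s.length, FreeAt (factor s i) x) :
    ∃ U : X.Opens, x ∈ U ∧ FlatMod.IsFinLocFree ((grObj s).restrict U.ι) := by
  letI := CategoryTheory.Abelian.hasFiniteBiproducts (C := X.Modules)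
  exact K0ResLF.exists_free_nhd (CohFinite.isCoh_of_iso (biproduct.isoCoproduct _)
    (Devissage.isCoh_biproduct _ hc)) (freeAt_grObj s h)

end Groth.Agent.StabLib.Sh

end
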