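/-
Jordan-Hölder filtrations of sub-sheaves and quotients of the same reduced polynomial.
-/
import Groth.Agent.StabLib.JHFree

set_option autoImplicit false
set_option linter.style.haveILetI false
set_option linter.unusedSectionVars false
set_option backward.isDefEq.respectTransparency false
set_option backward.isDefEq.respectTransparency.types false

universe u

open CategoryTheory CategoryTheory.Limits AlgebraicGeometry StabCat
open scoped Polynomial

noncomputable section

namespace Groth.Agent.StabLib.Sh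

variable {X : Scheme.{u}} (k : Type u) [Field k] [X.Over (Spec (CommRingCat.of k))]
  [IsProper (X ↘ Spec (CommRingCat.of k))] {L : X.Modules} (hL : CohB1.IsAmple L) (d : ℕ)

open DCohLocus (FreeAt)

/-- Stable sheaves with the reduced polynomial `P`, free at `x`. -/
def StF (P : ℚ[X]) (x : X) (A : X.Modules) : Prop :=
  Inv.Sto (inv k hL) d A ∧ D d ((inv k hL).hp A) P = 0 ∧ FreeAt A x

lemma built_of_jh {E : X.Modules} (hE : Coh.IsCoh E) (s : LTSeries (Subobject E))
    (hs : ShStab.IsJHFiltration k X L E d s) {x : X}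
    (hgr : ∃ U : X.Opens, x ∈ U ∧ FlatMod.IsFinLocFree ((grObj s).restrict U.ι)) :
    Built (StF k hL d ((inv k hL).hp E) x) E := by
  have hs' := (isJH_iff k hL hE d s).1 hs
  have hfr := freeAt_grObj_of_locFree s hgr
  exact Built.of_series s hs'.1 hs'.2.1 fun i =>
    ⟨(hs'.2.2 i).1, (hs'.2.2 i).2, freeAt_factor s hfr i⟩

lemma exists_jh_of_built {G : X.Modules} (hG : Coh.IsCoh G) {P : ℚ[X]} (hP : 0 < alpha d P)
    (hGP : D d ((inv k hL).hp G) P = 0) {x : X} (h : Built (StF k hL d P x) G) :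
    ∃ s : LTSeries (Subobject G), ShStab.IsJHFiltration k X L G d s ∧
      ∃ U : X.Opens, x ∈ U ∧ FlatMod.IsFinLocFree ((grObj s).restrict U.ι) := by
  haveI := CurveRR.isNoetherian_of_proper k X
  obtain ⟨s, s0, s1, sf⟩ := Built.exists_series (fun A hA => hA.1.2.1)
    (fun {A B} e (hA : StF k hL d P x A) => (⟨hA.1.of_iso e.symm,
      by rw [← (inv k hL).hp_iso e hA.1.1]; exact hA.2.1,
      DCohLocus.freeAt_of_iso e hA.2.2⟩ : StF k hL d P x B)) h
  refine ⟨s, (isJH_iff k hL hG d s).2 ⟨s0, s1, fun i => ⟨(sf i).1,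
    Inv.D_of_same hP (sf i).2.1 hGP⟩⟩, locFree_grObj s (fun i => (sf i).1.1) fun i => (sf i).2.2⟩

include hL in
/-- Sub-sheaves of the same reduced polynomial, and their quotients. -/
theorem jh_sub_quot {E G : X.Modules} (hE : ShStab.IsSemistable k X L E d)
    (sE : LTSeries (Subobject E)) (hsE : ShStab.IsJHFiltration k X L E d sE) {x : X}
    (hgr : ∃ U : X.Opens, x ∈ U ∧ FlatMod.IsFinLocFree ((grObj sE).restrict U.ι))
    (ι : G ⟶ E) [Mono ι] (hG : Coh.IsCoh G) (pG pE : ℚ[X])
    (hpG : ShStab.IsHilbPoly k X L G pG) (hpE : ShStab.IsHilbPoly k X L E pE) (hred : RedEq d pG pE) :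
    (∃ s : LTSeries (Subobject G), ShStab.IsJHFiltration k X L G d s ∧
        ∃ U : X.Opens, x ∈ U ∧ FlatMod.IsFinLocFree ((grObj s).restrict U.ι)) ∧
      ∃ s : LTSeries (Subobject (cokernel ι)), ShStab.IsJHFiltration k X L (cokernel ι) d s ∧
        ∃ U : X.Opens, x ∈ U ∧ FlatMod.IsFinLocFree ((grObj s).restrict U.ι) := by
  let I := inv k hL
  have hS : Inv.SSo I d E := (isSemistable_iff k hL E d).1 hE
  have hG' : I.ok G := hG
  have hQ : I.ok (cokernel ι) := I.ok_cokernel ι hG' hS.1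
  have hGP : D d (I.hp G) (I.hp E) = 0 := by
    rw [← redEq_iff]
    have e1 : pG = I.hp G := (hilb_iff k hL.1 hG pG).1 hpG
    have e2 : pE = I.hp E := (hilb_iff k hL.1 hE.1 pE).1 hpE
    rwa [← e1, ← e2]
  have hQP : D d (I.hp (cokernel ι)) (I.hp E) = 0 := by
    rw [show I.hp (cokernel ι) = I.hp E - I.hp G from
      eq_sub_of_add_eq' (Inv.hp_cokernel I ι hG' hS.1).symm, D_sub_left, D_self, hGP, sub_zero]
  have hsame : Inv.Same I d (I.hp E) G := by
    by_cases h0 : IsZero G
    · exact Or.inl h0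
    refine Or.inr ⟨⟨hG', h0, hS.2.2.1.of_mono ι, fun F j hj hF hF0 _ => ?_⟩, hGP⟩
    have aG := hS.2.2.1.alpha_pos ι hG' h0
    have aF := hS.2.2.1.alpha_pos (j ≫ ι) hF hF0
    exact nn_D_trans d hS.alpha_pos aF.le aG.le (hS.nn_sub (j ≫ ι) hF)
      (by rw [← D_neg, hGP, neg_zero]; exact nn_zero)
  obtain ⟨h1, h2⟩ := Inv.built_sub_quot hS.alpha_pos (fun A => FreeAt A x)
    (built_of_jh k hL d hE.1 sE hsE hgr) G ι inferInstance hsame
  exact ⟨exists_jh_of_built k hL d hG hS.alpha_pos hGP h1,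
    exists_jh_of_built k hL d hQ hS.alpha_pos hQP h2⟩

end Groth.Agent.StabLib.Sh

end
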