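/-
A morphism of semistable sheaves with free graded objects vanishes as soon as it does at a point.
-/
import Groth.Agent.StabLib.JHFreeApps
import Groth.Agent.FlatFunLib.ModCond
import Groth.Agent.DualGeneric.Basic

set_option autoImplicit false
set_option linter.style.haveILetI false
set_option linter.unusedSectionVars false
set_option backward.isDefEq.respectTransparency false
set_option backward.isDefEq.respectTransparency.types false

universe u

open CategoryTheory CategoryTheory.Limits AlgebraicGeometry StabCat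
open scoped Polynomial TensorProduct

noncomputable section

namespace Groth.Agent.StabLib.Sh

variable {X : Scheme.{u}}

open DCohLocus (FreeAt)

lemma splitting_stalk {S : ShortComplex X.Modules} (hS : S.ShortExact) {x : X} (h₁ : FreeAt S.X₁ x)
    (h₃ : FreeAt S.X₃ x) :
    FreeAt S.X₂ x ∧ ∃ r : (DerSch.stalkFunctor X x).obj S.X₂ ⟶ (DerSch.stalkFunctor X x).obj S.X₁,
      (DerSch.stalkFunctor X x).map S.f ≫ r = 𝟙 _ := by
  let St := DerSch.stalkFunctor X x
  have hT := hS.map_of_exact St
  haveI : Module.Free (X.presheaf.stalk x) ((S.map St).X₃ : Type u) := h₃.1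
  haveI : Module.Projective (X.presheaf.stalk x) ((S.map St).X₃ : Type u) := Module.Projective.of_free
  haveI : Projective (S.map St).X₃ := (IsProjective.iff_projective ((S.map St).X₃ : Type u)).1 inferInstance
  let sp := hT.splittingOfProjective
  haveI : Module.Free (X.presheaf.stalk x) ((S.map St).X₁ : Type u) := h₁.1
  haveI : Module.Finite (X.presheaf.stalk x) ((S.map St).X₁ : Type u) := h₁.2
  haveI : Module.Finite (X.presheaf.stalk x) ((S.map St).X₃ : Type u) := h₃.2
  letI := CategoryTheory.Abelian.hasFiniteBiproducts (C := ModuleCat.{u} (X.presheaf.stalk x))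
  let e : ((S.map St).X₂ : Type u) ≃ₗ[X.presheaf.stalk x] (((S.map St).X₁ : Type u) × ((S.map St).X₃ : Type u)) :=
    (sp.isoBinaryBiproduct ≪≫ ModuleCat.biprodIsoProd _ _).toLinearEquiv
  exact ⟨⟨Module.Free.of_equiv e.symm, Module.Finite.equiv e.symm⟩, sp.r, sp.f_r⟩

lemma freeAt_of_built {x : X} {A : X.Modules} {T : X.Modules → Prop} (hT : ∀ B, T B → FreeAt B x)
    (h : Built T A) : FreeAt A x := by
  induction h with
  | @zero B h =>
    haveI : Subsingleton (B.presheaf.stalk x) :=
      ModuleCat.subsingleton_of_isZero ((DerSch.stalkFunctor X x).map_isZero h)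
    exact ⟨Module.Free.of_subsingleton _ _, inferInstance⟩
  | ext hS _ h₃ ih => exact (splitting_stalk hS ih (hT _ h₃)).1

/-- A morphism which factors as an epimorphism and a map split on a stalk, and vanishes after pull-back. -/
lemma subsingleton_stalk_of_pullback_eq_zero {E I F : X.Modules} {Y : Scheme.{u}} (ξ : Y ⟶ X) (t : Y)
    (p : E ⟶ I) [Epi p] (i : I ⟶ F) (r : (DerSch.stalkFunctor X (ξ t)).obj F ⟶ (DerSch.stalkFunctor X (ξ t)).obj I)
    (hr : (DerSch.stalkFunctor X (ξ t)).map i ≫ r = 𝟙 _) (hI : FreeAt I (ξ t))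
    (h0 : (Scheme.Modules.pullback ξ).map (p ≫ i) = 0) : Subsingleton (I.presheaf.stalk (ξ t)) := by
  let St := DerSch.stalkFunctor X (ξ t)
  let ex := ModuleCat.extendScalars.{u, u, u} (ξ.stalkMap t).hom
  haveI : Epi ((Scheme.Modules.pullback ξ).map p) :=
    haveI := (Scheme.Modules.pullbackPushforwardAdjunction ξ).leftAdjoint_preservesColimits
    inferInstance
  have h1 : (Scheme.Modules.pullback ξ).map i = 0 := by
    rw [← cancel_epi ((Scheme.Modules.pullback ξ).map p), ← Functor.map_comp, h0, comp_zero]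
  have h2 : ex.map (St.map i) = 0 := by
    have h := (KFlat.pullStalkIso ξ t).hom.naturality i
    change (DerSch.stalkFunctor Y t).map ((Scheme.Modules.pullback ξ).map i) ≫ _ = _ ≫ ex.map (St.map i) at h
    rw [h1, Functor.map_zero, zero_comp] at h
    rwa [eq_comm, ← comp_zero, cancel_epi] at h
  have h3 : IsZero (ex.obj (St.obj I)) := (IsZero.iff_id_eq_zero _).2 (by
    rw [← ex.map_id, ← hr, Functor.map_comp, h2, zero_comp])
  haveI hz := ModuleCat.subsingleton_of_isZero h3
  letI : Algebra (X.presheaf.stalk (ξ t)) (Y.presheaf.stalk t) := (ξ.stalkMap t).hom.toAlgebra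
  haveI := hI.1
  let b := Module.Free.chooseBasis (X.presheaf.stalk (ξ t)) (I.presheaf.stalk (ξ t))
  haveI hz' : Subsingleton (Y.presheaf.stalk t ⊗[X.presheaf.stalk (ξ t)] I.presheaf.stalk (ξ t)) := hz
  haveI : IsEmpty (Module.Free.ChooseBasisIndex (X.presheaf.stalk (ξ t)) (I.presheaf.stalk (ξ t))) :=
    ⟨fun j => (Algebra.TensorProduct.basis (Y.presheaf.stalk t) b).ne_zero j (Subsingleton.elim _ _)⟩
  exact b.repr.toEquiv.subsingleton

variable (k : Type u) [Field k] [X.Over (Spec (CommRingCat.of k))]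
  [IsProper (X ↘ Spec (CommRingCat.of k))] {L : X.Modules} (hL : CohB1.IsAmple L) (d : ℕ)

include hL in
theorem eq_zero_of_pullback [IrreducibleSpace X] (hX : topologicalKrullDim X = (d : WithBot ℕ∞))
    {E F : X.Modules} (hE : ShStab.IsSemistable k X L E d) (hF : ShStab.IsSemistable k X L F d)
    (pE pF : ℚ[X]) (hpE : ShStab.IsHilbPoly k X L E pE) (hpF : ShStab.IsHilbPoly k X L F pF)
    (hred : RedEq d pE pF) {Y : Scheme.{u}} (ξ : Y ⟶ X) (t : Y)
    (sF : LTSeries (Subobject F)) (hsF : ShStab.IsJHFiltration k X L F d sF)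
    (hgrF : ∃ U : X.Opens, ξ t ∈ U ∧ FlatMod.IsFinLocFree ((grObj sF).restrict U.ι))
    (f : E ⟶ F) (hf : (Scheme.Modules.pullback ξ).map f = 0) : f = 0 := by
  let I := inv k hL
  have hE' : Inv.SSo I d E := (isSemistable_iff k hL E d).1 hE
  have hF' : Inv.SSo I d F := (isSemistable_iff k hL F d).1 hF
  haveI := CurveRR.isNoetherian_of_proper k X
  by_contra hf0
  have hIm := Inv.ok_image hE'.1 hF'.1 f
  have hI0 := Inv.not_isZero_image hE'.1 hF'.1 f hf0
  have heq : D d (I.hp E) (I.hp F) = 0 := by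
    rw [← redEq_iff]
    have e1 : pE = I.hp E := (hilb_iff k hL.1 hE.1 pE).1 hpE
    have e2 : pF = I.hp F := (hilb_iff k hL.1 hF.1 pF).1 hpF
    rwa [← e1, ← e2]
  have hIP : D d (I.hp (Abelian.image f)) (I.hp F) = 0 := by
    refine eq_zero_of_D d (hF'.nn_sub (Abelian.image.ι f) hIm) ?_
    exact nn_D_trans d hE'.alpha_pos hF'.alpha_pos.le (hF'.2.2.1.alpha_pos (Abelian.image.ι f) hIm hI0).le
      (by rw [← D_neg, heq, neg_zero]; exact nn_zero) (hE'.nn_image hF'.1 f)
  have hIs : Inv.SSo I d (Abelian.image f) := by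
    refine ⟨hIm, hI0, hF'.2.2.1.of_mono (Abelian.image.ι f), fun G j hj hG hG0 _ => ?_⟩
    have aI := hF'.2.2.1.alpha_pos (Abelian.image.ι f) hIm hI0
    have aG := hF'.2.2.1.alpha_pos (j ≫ Abelian.image.ι f) hG hG0
    exact nn_D_trans d hF'.alpha_pos aG.le aI.le (hF'.nn_sub (j ≫ Abelian.image.ι f) hG)
      (by rw [← D_neg, hIP, neg_zero]; exact nn_zero)
  obtain ⟨h1, h2⟩ := Inv.built_sub_quot hF'.alpha_pos (fun A => FreeAt A (ξ t))
    (built_of_jh k hL d hF.1 sF hsF hgrF) (Abelian.image f) (Abelian.image.ι f) inferInstance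
    (Or.inr ⟨hIs, hIP⟩)
  have g1 := freeAt_of_built (fun B hB => hB.2.2) h1
  have g2 := freeAt_of_built (fun B hB => hB.2.2) h2
  obtain ⟨-, r, hr⟩ := splitting_stalk
    (ShortComplex.ShortExact.mk' (ShortComplex.exact_cokernel (Abelian.image.ι f)) inferInstance inferInstance) g1 g2
  haveI hsub := subsingleton_stalk_of_pullback_eq_zero ξ t (Abelian.factorThruImage f) (Abelian.image.ι f) r hr g1
    (by rw [Abelian.image.fac]; exact hf)
  have hpure : topologicalKrullDim (CohB1.support (Abelian.image f)) = (d : WithBot ℕ∞) :=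
    hF.2.2.1 _ (Abelian.image.ι f) inferInstance hIm hI0
  have hne : CohB1.support (Abelian.image f) ≠ Set.univ := fun e =>
    absurd hsub (e.symm ▸ Set.mem_univ (ξ t) : ξ t ∈ CohB1.support (Abelian.image f))
  obtain ⟨e, he, hle⟩ := DualGeneric.krullDim_closed_lt
    (QC.isClosed_support (show Coh.IsCoh (Abelian.image f) from hIm).2) hne (support_nonempty hI0) hX.le
  rw [hpure, Nat.cast_le] at hle
  omega

end Groth.Agent.StabLib.Sh

end
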