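/-
Freeness along a rational point from freeness on the fibre and flatness.
-/
import Groth.Agent.StabLib.PointZero
import Groth.Agent.PicBdd.TauBdd

set_option autoImplicit false
set_option linter.style.haveILetI false
set_option linter.unusedSectionVars false
set_option backward.isDefEq.respectTransparency false

universe u

open CategoryTheory CategoryTheory.Limits AlgebraicGeometry
open TensorProduct

noncomputable section

namespace Groth.Agent.StabLib

open DCohLocus (FreeAt)

lemma freeAt_pullback {P Q : Scheme.{u}} (g : Q ⟶ P) {G : P.Modules} {z : Q} (h : FreeAt G (g z)) :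
    FreeAt ((Scheme.Modules.pullback g).obj G) z := by
  let e1 := ((KFlat.pullStalkIso g z).app G).toLinearEquiv
  letI : Algebra (P.presheaf.stalk (g z)) (Q.presheaf.stalk z) := (g.stalkMap z).hom.toAlgebra
  haveI := h.1
  haveI := h.2
  haveI : Module.Free (Q.presheaf.stalk z) (Q.presheaf.stalk z ⊗[P.presheaf.stalk (g z)] G.presheaf.stalk (g z)) :=
    inferInstance
  haveI : Module.Finite (Q.presheaf.stalk z) (Q.presheaf.stalk z ⊗[P.presheaf.stalk (g z)] G.presheaf.stalk (g z)) :=
    inferInstance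
  let e2 : ((Scheme.Modules.pullback g).obj G).presheaf.stalk z ≃ₗ[Q.presheaf.stalk z]
      (Q.presheaf.stalk z ⊗[P.presheaf.stalk (g z)] G.presheaf.stalk (g z)) := e1
  exact ⟨Module.Free.of_equiv e2.symm, Module.Finite.equiv e2.symm⟩

/-- Freeness from freeness of the fibre and flatness. -/
theorem freeAt_of_fibre {P T : Scheme.{u}} [IsLocallyNoetherian P] (f : P ⟶ T) {G : P.Modules}
    (hG : Coh.IsCoh G) (s : T) (y : ↥(f.fiber s)) (hflat : FlatMod.IsFlatOverAt f G (f.fiberι s y))
    (hfree : FreeAt ((Scheme.Modules.pullback (f.fiberι s)).obj G) y) : FreeAt G (f.fiberι s y) := by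
  classical
  haveI := hG.1
  set x := f.fiberι s y with hxdef
  obtain ⟨U, hU, hxU⟩ := Groth.Agent.QC.exists_affine_mem x
  haveI := LocFree.finitePresentation_sections_of_isFP hG.1 (Groth.Agent.QC.isFP_of_isQCoh_of_isFT hG.2) hU
  let A := ↑(T.presheaf.stalk (f x))
  let B := ↑(P.presheaf.stalk x)
  let N := ↑(G.presheaf.stalk x)
  letI : Algebra A B := (f.stalkMap x).hom.toAlgebra
  letI : Module A N := FlatMod.moduleStalkOver f G x
  haveI : IsScalarTower A B N := IsScalarTower.of_algebraMap_smul fun a m => rfl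
  haveI : Module.Flat A N := hflat
  letI := (P.presheaf.germ U x hxU).hom.toAlgebra
  haveI := hU.isLocalization_stalk ⟨x, hxU⟩
  obtain ⟨g, hg⟩ := LocFree.exists_stalkMap hU hG.1 hxU
  letI := Module.compHom N (P.presheaf.germ U x hxU).hom
  haveI : IsScalarTower Γ(P, U) B N := ⟨fun a c m => mul_smul ((P.presheaf.germ U x hxU).hom a) c m⟩
  haveI := hg
  haveI : Module.FinitePresentation B N :=
    FinitePresentation.of_isBaseChange g
      ((isLocalizedModule_iff_isBaseChange (hU.primeIdealOf ⟨x, hxU⟩).asIdeal.primeCompl B g).mp hg)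
  let 𝔞 : Ideal B := (IsLocalRing.maximalIdeal A).map (algebraMap A B)
  let O := ↑((f.fiber s).presheaf.stalk y)
  letI : Algebra B O := ((f.fiberι s).stalkMap y).hom.toAlgebra
  obtain ⟨hsur, hker⟩ := FibCrit.fiberι_stalkMap f s y
  have hker' : RingHom.ker (algebraMap B O) = 𝔞 := hker
  haveI : IsLocalHom (algebraMap A B) := inferInstanceAs (IsLocalHom (f.stalkMap x).hom)
  have hle : 𝔞 ≤ IsLocalRing.maximalIdeal B := Ideal.map_le_iff_le_comap.2 fun a ha =>
    (IsLocalRing.mem_maximalIdeal _).2 fun hu => (IsLocalRing.mem_maximalIdeal a).1 ha (IsUnit.of_map _ a hu)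
  let q : O ≃+* (B ⧸ 𝔞) :=
    ((RingHom.quotientKerEquivOfSurjective hsur).symm).trans (Ideal.quotEquivOfEq hker')
  have hq : ∀ b : B, q (algebraMap B O b) = Ideal.Quotient.mk 𝔞 b := by
    intro b
    have h : (RingHom.quotientKerEquivOfSurjective hsur).symm (algebraMap B O b) = Ideal.Quotient.mk _ b :=
      RingEquiv.symm_apply_eq _ |>.2 rfl
    simp only [q, RingEquiv.trans_apply]
    exact (congrArg (Ideal.quotEquivOfEq hker') h).trans (Ideal.quotEquivOfEq_mk hker' b)
  haveI : Module.Free O (O ⊗[B] N) := by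
    haveI := hfree.1
    let e2 : ((Scheme.Modules.pullback (f.fiberι s)).obj G).presheaf.stalk y ≃ₗ[O] (O ⊗[B] N) :=
      ((KFlat.pullStalkIso (f.fiberι s) y).app G).toLinearEquiv
    exact Module.Free.of_equiv e2
  have hfree' : Module.Free (B ⧸ 𝔞) ((B ⧸ 𝔞) ⊗[B] N) := by
    letI := RingHomInvPair.of_ringEquiv q
    letI := RingHomInvPair.of_ringEquiv q.symm
    haveI : RingHomSurjective (q : O →+* B ⧸ 𝔞) := ⟨q.surjective⟩
    let qa : O ≃ₐ[B] (B ⧸ 𝔞) := AlgEquiv.ofRingEquiv (f := q) hq
    let e0 : (O ⊗[B] N) ≃ₗ[B] ((B ⧸ 𝔞) ⊗[B] N) := TensorProduct.congr qa.toLinearEquiv (LinearEquiv.refl B N)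
    let e : (O ⊗[B] N) ≃ₛₗ[(q : O →+* B ⧸ 𝔞)] ((B ⧸ 𝔞) ⊗[B] N) :=
      { e0 with
        map_smul' := fun c z => by
          change e0 (c • z) = q c • e0 z
          induction z with
          | zero => simp
          | tmul a n => simp [e0, qa, TensorProduct.smul_tmul']
          | add a b ha hb => simp only [smul_add, map_add, ha, hb] }
    exact Module.Free.of_equiv e
  haveI := FlatRes.free_of_fibre_free (A := A) (S := B) (N := N) (IsLocalRing.maximalIdeal A) hle hfree'
  exact ⟨‹_›, inferInstance⟩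

/-- Freeness at a point of the slice over a rational point. -/
theorem freeAt_of_slice {k : Type u} [Field k] {P T : Scheme.{u}} [IsLocallyNoetherian P] (f : P ⟶ T)
    (q : T ⟶ Spec (CommRingCat.of k)) [IsSeparated q] (t : Spec (CommRingCat.of k) ⟶ T) (ht : t ≫ q = 𝟙 _)
    {G : P.Modules} (hG : Coh.IsCoh G) (z : ↥(pullback f t)) (hflat : FlatMod.IsFlatOverAt f G (pullback.fst f t z))
    (hfree : FreeAt ((Scheme.Modules.pullback (pullback.fst f t)).obj G) z) :
    FreeAt G (pullback.fst f t z) := by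
  let pt := pullback.snd f t z
  haveI : IsClosedImmersion t := by
    haveI : IsClosedImmersion (t ≫ q) := by rw [ht]; infer_instance
    exact IsClosedImmersion.of_comp t q
  obtain ⟨-, h2⟩ := PicBdd.rational_point k t ht pt
  let s := t.base pt
  let γ : f.fiber s ⟶ pullback f t := pullback.lift (f.fiberι s) (f.fiberToSpecResidueField s ≫ (T.fromSpecResidueField s ≫ q))
    (by
      rw [Category.assoc, ← h2]
      exact pullback.condition)
  have hγ : γ ≫ pullback.fst f t = f.fiberι s := pullback.lift_fst _ _ _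
  obtain ⟨y, hy⟩ : pullback.fst f t z ∈ Set.range (f.fiberι s).base := by
    rw [Scheme.Hom.range_fiberι]
    show f (pullback.fst f t z) = t pt
    rw [← Scheme.Hom.comp_apply, pullback.condition]
    rfl
  have hyz : γ y = z := by
    refine (pullback.fst f t).isEmbedding.injective ?_
    rw [← Scheme.Hom.comp_apply, hγ]
    exact hy
  have hy' : f.fiberι s y = pullback.fst f t z := hy
  rw [← hy'] at hflat ⊢
  refine freeAt_of_fibre f hG s y hflat ?_
  exact DCohLocus.freeAt_of_iso ((Scheme.Modules.pullbackComp γ (pullback.fst f t)).app G ≪≫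
    (Scheme.Modules.pullbackCongr hγ).app G) (freeAt_pullback γ (by rw [hyz]; exact hfree))

end Groth.Agent.StabLib

end
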