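/-
Morphisms of families which vanish on a section vanish, given the vanishing on the fibres.
-/
import Groth.Agent.StabLib.FamCore
import Groth.Agent.StabLib.FibreFree
import Groth.Agent.W7Strat.Strat

set_option autoImplicit false
set_option linter.style.haveILetI false
set_option linter.unusedSectionVars false
set_option backward.isDefEq.respectTransparency false

universe u

open CategoryTheory CategoryTheory.Limits AlgebraicGeometry TopologicalSpace Opposite

noncomputable section

namespace Groth.Agent.StabLib.Fam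

variable (k : Type u) [Field k]

lemma germ_spec_field_isUnit (p : ↑(Spec (CommRingCat.of k))) (u : Γ(Spec (CommRingCat.of k), ⊤)) (hu : u ≠ 0) :
    IsUnit ((Spec (CommRingCat.of k)).presheaf.germ ⊤ p trivial u) := by
  refine IsUnit.map ((Spec (CommRingCat.of k)).presheaf.germ ⊤ p trivial).hom ?_
  let e := (Scheme.ΓSpecIso (CommRingCat.of k)).commRingCatIsoToRingEquiv
  have he : IsUnit (e u) := (map_ne_zero_iff e e.injective).2 hu |>.isUnit
  simpa using he.map e.symm

lemma stalk_field_eq_zero (p : ↑(Spec (CommRingCat.of k))) (c : (Spec (CommRingCat.of k)).presheaf.stalk p)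
    (hc : ¬ IsUnit c) : c = 0 := by
  obtain ⟨U, hU, u, rfl⟩ := TopCat.Presheaf.exists_germ_eq (Spec (CommRingCat.of k)).presheaf c
  haveI : Subsingleton ↑(Spec (CommRingCat.of k)) := inferInstanceAs (Subsingleton (PrimeSpectrum k))
  obtain rfl : U = ⊤ := Opens.ext (Set.eq_univ_of_forall fun q => Subsingleton.elim p q ▸ hU)
  by_contra h
  exact hc (germ_spec_field_isUnit k p u fun h0 => h (by rw [h0, map_zero]))

/-- A local map to the local ring of a field point kills the maximal ideal. -/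
lemma stalkMap_field_eq_zero {X : Scheme.{u}} (h : Spec (CommRingCat.of k) ⟶ X) (p : ↑(Spec (CommRingCat.of k)))
    {b : X.presheaf.stalk (h p)} (hb : b ∈ IsLocalRing.maximalIdeal (X.presheaf.stalk (h p))) :
    h.stalkMap p b = 0 :=
  stalk_field_eq_zero k p _ fun hu =>
    (IsLocalRing.mem_maximalIdeal b).1 hb ((isUnit_map_iff (h.stalkMap p).hom b).1 hu)

variable {X S Y : Scheme.{u}} [IsAffine S] [IsLocallyNoetherian X] [IsLocallyNoetherian S] (f : X ⟶ S)

/-- The affine base case. -/
theorem stm_eq_zero_of_affine (ξ : S ⟶ X) (hξ : ξ ≫ f = 𝟙 S) {M N : X.Modules} (hN : Coh.IsCoh N)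
    (φ : M ⟶ N) (hflat : FlatMod.IsFlatOver f N) (hφ : (Scheme.Modules.pullback ξ).map φ = 0)
    (q : S ⟶ Spec (CommRingCat.of k)) [IsSeparated q] (t : Spec (CommRingCat.of k) ⟶ S) (ht : t ≫ q = 𝟙 _)
    (p₀ : ↑(Spec (CommRingCat.of k))) (hs : IsClosed ({t p₀} : Set S))
    (hfree : DCohLocus.FreeAt N (ξ (t p₀)))
    (g : Y ⟶ X) (b : Y ⟶ Spec (CommRingCat.of k)) (sq : IsPullback g b f t)
    (σ : Spec (CommRingCat.of k) ⟶ Y) (hσ : σ ≫ g = t ≫ ξ)
    (hzero : ∀ ψ : (Scheme.Modules.pullback g).obj M ⟶ (Scheme.Modules.pullback g).obj N,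
      (Scheme.Modules.pullback σ).map ψ = 0 → ψ = 0)
    (x : X) (hx : f x = t p₀) (v : M.presheaf.stalk x) : stm φ x v = 0 := by
  haveI : Subsingleton ↑(Spec (CommRingCat.of k)) := inferInstanceAs (Subsingleton (PrimeSpectrum k))
  haveI : IsClosedImmersion t := by
    haveI : IsClosedImmersion (t ≫ q) := by rw [ht]; infer_instance
    exact IsClosedImmersion.of_comp t q
  haveI : IsClosedImmersion g := MorphismProperty.of_isPullback sq.flip inferInstance
  let A := Γ(S, ⊤)
  haveI : IsNoetherianRing A := IsLocallyNoetherian.component_noetherian ⟨⊤, isAffineOpen_top S⟩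
  let ρ : A →+* Coh.Γtop X := f.appTop.hom
  let hU := isAffineOpen_top S
  let P : S → Ideal A := fun s => (hU.primeIdealOf ⟨s, trivial⟩).asIdeal
  let m := P (t p₀)
  letI alg : ∀ s : S, Algebra A (S.presheaf.stalk s) := fun s => (S.presheaf.germ ⊤ s trivial).hom.toAlgebra
  haveI hloc : ∀ s : S, IsLocalization.AtPrime (S.presheaf.stalk s) (P s) := fun s =>
    hU.isLocalization_stalk ⟨s, trivial⟩
  haveI : m.IsMaximal := hU.primeIdealOf_isMaximal_of_isClosed ⟨t p₀, trivial⟩ hs
  have hgρ : ∀ (y : X) (a : A), gρ ρ y a = f.stalkMap y (algebraMap A (S.presheaf.stalk (f y)) a) :=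
    fun y a => (Scheme.Hom.germ_stalkMap_apply f ⊤ y trivial a).symm
  have hmax : ∀ y : X, f y = t p₀ →
      ext ρ m y = (IsLocalRing.maximalIdeal (S.presheaf.stalk (f y))).map (f.stalkMap y).hom := by
    intro y hy
    rw [← IsLocalization.AtPrime.map_eq_maximalIdeal (P (f y)) (S.presheaf.stalk (f y)), Ideal.map_map,
      show m = P (f y) by simp only [m, hy], ext]
    congr 1
    exact RingHom.ext (hgρ y)
  have hle : ∀ y : X, f y = t p₀ → ext ρ m y ≤ IsLocalRing.maximalIdeal (X.presheaf.stalk y) := fun y hy => by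
    rw [hmax y hy, Ideal.map_le_iff_le_comap]
    exact fun a ha => (IsLocalRing.mem_maximalIdeal _).2 fun hu =>
      (IsLocalRing.mem_maximalIdeal a).1 ha ((isUnit_map_iff (f.stalkMap y).hom a).1 hu)
  have hkill : ∀ a ∈ m, ∀ z, g.stalkMap z (gρ ρ (g z) a) = 0 := by
    intro a ha z
    have h1 : g.stalkMap z (gρ ρ (g z) a) = Y.presheaf.germ ⊤ z trivial ((g ≫ f).appTop a) :=
      Scheme.Hom.germ_stalkMap_apply g ⊤ z trivial (f.appTop a)
    have h2 : t.appTop a = 0 := by
      by_contra hne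
      have hu := germ_spec_field_isUnit k p₀ _ hne
      rw [show (Spec (CommRingCat.of k)).presheaf.germ ⊤ p₀ trivial (t.appTop a) =
        t.stalkMap p₀ (algebraMap A (S.presheaf.stalk (t p₀)) a) from
          (Scheme.Hom.germ_stalkMap_apply t ⊤ p₀ trivial a).symm] at hu
      exact (IsLocalization.AtPrime.isUnit_to_map_iff (S.presheaf.stalk (t p₀)) m a).1
        ((isUnit_map_iff (t.stalkMap p₀).hom _).1 hu) ha
    rw [h1, sq.w, Scheme.Hom.comp_appTop]
    simp [h2]
  have hfib : ∀ y, ext ρ m y = ⊤ ∨ ∃ z, g z = y ∧ Function.Surjective (g.stalkMap z).hom ∧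
      RingHom.ker (g.stalkMap z).hom ≤ ext ρ m (g z) := by
    intro y
    by_cases hy : f y = t p₀
    · right
      let s := t.base p₀
      obtain ⟨-, hr⟩ := PicBdd.rational_point k t ht p₀
      let γ : f.fiber s ⟶ Y := sq.lift (f.fiberι s) (f.fiberToSpecResidueField s ≫ (S.fromSpecResidueField s ≫ q))
        (by
          rw [Category.assoc, ← hr]
          exact pullback.condition)
      have hγ : γ ≫ g = f.fiberι s := sq.lift_fst _ _ _
      obtain ⟨y', rfl⟩ : y ∈ Set.range (f.fiberι s).base := by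
        rw [Scheme.Hom.range_fiberι]
        exact hy
      have gen : ∀ h : f.fiber s ⟶ X, γ ≫ g = h → RingHom.ker (h.stalkMap y').hom ≤ ext ρ m (h y') →
          g (γ y') = h y' ∧ RingHom.ker (g.stalkMap (γ y')).hom ≤ ext ρ m (g (γ y')) := by
        rintro h rfl hk
        refine ⟨rfl, fun c hc => hk ?_⟩
        rw [RingHom.mem_ker, Scheme.Hom.stalkMap_comp]
        change γ.stalkMap y' (g.stalkMap (γ y') c) = 0
        rw [show g.stalkMap (γ y') c = 0 from hc, map_zero]
      obtain ⟨e, hk⟩ := gen _ hγ (by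
        rw [(FibCrit.fiberι_stalkMap f s y').2, hmax _ hy])
      exact ⟨γ y', e, g.stalkMap_surjective _, hk⟩
    · left
      by_contra hne
      refine hy ?_
      have hsub : m ≤ P (f y) := fun a ha => by
        by_contra hn
        refine hne (Ideal.eq_top_of_isUnit_mem _ (Ideal.mem_map_of_mem _ ha) ?_)
        rw [hgρ]
        exact ((IsLocalization.AtPrime.isUnit_to_map_iff (S.presheaf.stalk (f y)) (P (f y)) a).2 hn).map _
      have e : m = P (f y) := (‹m.IsMaximal›).eq_of_le (Ideal.IsPrime.ne_top inferInstance) hsub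
      have h1 := hU.fromSpec_primeIdealOf ⟨f y, trivial⟩
      have h2 := hU.fromSpec_primeIdealOf ⟨t p₀, trivial⟩
      rw [show hU.primeIdealOf ⟨f y, trivial⟩ = hU.primeIdealOf ⟨t p₀, trivial⟩ from
        PrimeSpectrum.ext e.symm] at h1
      exact h1.symm.trans h2
  have hflat' : ∀ y, letI := Module.compHom (N.presheaf.stalk y) (gρ ρ y);
      Module.Flat A (N.presheaf.stalk y) := by
    intro y
    letI := Module.compHom (N.presheaf.stalk y) (gρ ρ y)
    letI := FlatMod.moduleStalkOver f N y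
    haveI : IsScalarTower A (S.presheaf.stalk (f y)) (N.presheaf.stalk y) :=
      IsScalarTower.of_algebraMap_smul fun a w => by
        change f.stalkMap y (algebraMap A (S.presheaf.stalk (f y)) a) • w = gρ ρ y a • w
        rw [hgρ]
    haveI : Module.Flat (S.presheaf.stalk (f y)) (N.presheaf.stalk y) := hflat y
    haveI : Module.Flat A (S.presheaf.stalk (f y)) := IsLocalization.flat _ (P (f y)).primeCompl
    exact Module.Flat.trans A (S.presheaf.stalk (f y)) (N.presheaf.stalk y)
  -- the section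
  haveI := hfree.1
  let σ₀ : X.presheaf.stalk (ξ (t p₀)) →+* S.presheaf.stalk (t p₀) := (ξ.stalkMap (t p₀)).hom
  have hσ₀ : σ₀.comp (gρ ρ (ξ (t p₀))) = algebraMap A (S.presheaf.stalk (t p₀)) := by
    refine RingHom.ext fun a => ?_
    change ξ.stalkMap (t p₀) (X.presheaf.germ ⊤ (ξ (t p₀)) trivial (f.appTop a)) = _
    rw [Scheme.Hom.germ_stalkMap_apply]
    change S.presheaf.germ ⊤ (t p₀) trivial ((ξ ≫ f).appTop a) = _
    rw [hξ]
    rfl
  have hsurj : Function.Surjective σ₀ := by
    have gen : ∀ h : S ⟶ S, ξ ≫ f = h → Function.Bijective (h.stalkMap (t p₀)).hom → Function.Surjective σ₀ := by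
      rintro h rfl hb c
      obtain ⟨d, hd⟩ := hb.2 c
      rw [Scheme.Hom.stalkMap_comp] at hd
      exact ⟨f.stalkMap (ξ (t p₀)) d, hd⟩
    exact gen _ hξ (ConcreteCategory.bijective_of_isIso _)
  have hmem : ∀ n v, stm φ x v ∈ ext ρ (m ^ n) x • (⊤ : Submodule (X.presheaf.stalk x) (N.presheaf.stalk x)) := by
    refine fun n v => mem_pow_smul ρ m φ hflat' (ξ (t p₀)) σ₀ ?_ ?_ g σ ?_ ?_ hkill hfib hzero n x v
    · intro ε J' hcol c hc
      rw [show σ₀ (gρ ρ (ξ (t p₀)) ε) = algebraMap A (S.presheaf.stalk (t p₀)) ε from RingHom.congr_fun hσ₀ ε,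
        hσ₀] at hc
      obtain ⟨⟨a, u⟩, hau⟩ := IsLocalization.surj (P (t p₀)).primeCompl c
      have h1 : algebraMap A (S.presheaf.stalk (t p₀)) (ε * a) ∈ J'.map (algebraMap A (S.presheaf.stalk (t p₀))) := by
        rw [map_mul, ← hau, ← mul_assoc]
        exact Ideal.mul_mem_right _ _ hc
      obtain ⟨w, hw, hwa⟩ := (IsLocalization.algebraMap_mem_map_algebraMap_iff (P (t p₀)).primeCompl _ J' (ε * a)).1 h1
      rw [mul_left_comm] at hwa
      have ham : a ∈ m := ((‹m.IsMaximal›).isPrime.mem_or_mem ((hcol (w * a)).1 hwa)).resolve_left hw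
      rw [IsLocalRing.mem_maximalIdeal]
      intro hcu
      refine (IsLocalization.AtPrime.isUnit_to_map_iff (S.presheaf.stalk (t p₀)) m a).1 ?_ ham
      rw [← hau]
      exact hcu.mul (IsLocalization.map_units _ u)
    · exact fun v => mem_of_pullback_eq_zero ξ φ hφ (t p₀) hsurj le_rfl v
    · intro p
      rw [Subsingleton.elim p p₀, ← Scheme.Hom.comp_apply, hσ]
      rfl
    · exact fun p b hb => stalkMap_field_eq_zero k _ p hb
  haveI : Module.Finite (X.presheaf.stalk x) (N.presheaf.stalk x) := NegTwist.finite_stalk_of_isCoh hN x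
  have hne : ext ρ m x ≠ ⊤ := fun e =>
    (IsLocalRing.maximalIdeal.isMaximal _).ne_top (top_le_iff.1 (e ▸ hle x hx))
  have := Ideal.iInf_pow_smul_eq_bot_of_isLocalRing (M := N.presheaf.stalk x) (ext ρ m x) hne
  rw [← Submodule.mem_bot (X.presheaf.stalk x), ← this, Submodule.mem_iInf]
  intro n
  rw [ext, ← Ideal.map_pow]
  exact hmem n v

end Groth.Agent.StabLib.Fam

end
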