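/-
The last factor of a truncated Harder-Narasimhan filtration is the minimal quotient.
-/
import Groth.Agent.StabLib.ShApps
import Groth.Agent.StabLib.Trunc

set_option autoImplicit false
set_option linter.style.haveILetI false
set_option linter.unusedSectionVars false
set_option backward.isDefEq.respectTransparency false
set_option backward.isDefEq.respectTransparency.types false

universe v u

open CategoryTheory CategoryTheory.Limits StabCat
open scoped Polynomial

namespace Groth.Agent.StabLib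

variable {d ℓ : ℕ}

/-- The truncated comparison. -/
noncomputable def DL (d ℓ : ℕ) (P Q : ℚ[X]) : ℚ[X] := D d (topPart ℓ d P) (topPart ℓ d Q)

lemma topPart_add (P Q : ℚ[X]) : topPart ℓ d (P + Q) = topPart ℓ d P + topPart ℓ d Q := by
  ext i; simp only [Polynomial.coeff_add, coeff_topPart]; split_ifs <;> simp

lemma topPart_zero : topPart ℓ d (0 : ℚ[X]) = 0 := by ext i; simp [coeff_topPart]

lemma DL_add_right (P Q R : ℚ[X]) : DL d ℓ P (Q + R) = DL d ℓ P Q + DL d ℓ P R := by
  rw [DL, topPart_add, D_add_right]; rfl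

lemma DL_trans {P Q R : ℚ[X]} :
    alpha d Q • DL d ℓ P R = alpha d R • DL d ℓ P Q + alpha d P • DL d ℓ Q R := by
  have h := D_trans (d := d) (P := topPart ℓ d P) (Q := topPart ℓ d Q) (R := topPart ℓ d R)
  simpa only [alpha_topPart, DL] using h

lemma DL_sub_left (P Q : ℚ[X]) : DL d ℓ P (P - Q) = DL d ℓ Q P := by
  rw [DL, topPart_sub, D_sub_right, D_self, zero_sub, D_neg]; rfl

variable {C : Type u} [Category.{v} C] [Abelian C] {I : Inv C}

namespace Inv

/-- Semistable for the truncated comparison. -/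
def LSo (I : Inv C) (d ℓ : ℕ) (X : C) : Prop :=
  I.ok X ∧ ¬ IsZero X ∧ I.Pure d X ∧ ∀ (F : C) (ι : F ⟶ X), Mono ι → I.ok F →
    0 < alpha d (I.hp F) → alpha d (I.hp F) < alpha d (I.hp X) → Nn (DL d ℓ (I.hp F) (I.hp X))

lemma LSo.alpha_pos {X : C} (h : I.LSo d ℓ X) : 0 < alpha d (I.hp X) :=
  h.2.2.1.alpha_pos (𝟙 X) h.1 h.2.1

lemma LSo.nn_quot {F M : C} (h : I.LSo d ℓ F) (p : F ⟶ M) [Epi p] (hM : I.ok M) :
    Nn (DL d ℓ (I.hp F) (I.hp M)) := by
  have hK : I.ok (kernel p) := I.ok_kernel p h.1 hM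
  have e := I.hp_kernel p h.1 hM
  have hFd := h.2.2.1.deg_le h.1
  have hKd := (I.deg_le_of_mono (kernel.ι p) hK h.1).trans hFd
  have hMd : (I.hp M).natDegree ≤ d := by
    rw [eq_sub_of_add_eq' e.symm]
    exact (Polynomial.natDegree_sub_le _ _).trans (max_le hFd hKd)
  have hd' : I.hp M = I.hp F - I.hp (kernel p) := eq_sub_of_add_eq' e.symm
  by_cases hz : IsZero (kernel p)
  · rw [hd', I.hp_zero hz hK, sub_zero, DL, D_self]
    exact nn_zero
  have hKa := h.2.2.1.alpha_pos (kernel.ι p) hK hz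
  have hMa : 0 ≤ alpha d (I.hp M) := alpha_nonneg d (I.nn_hp hM) hMd
  have he : alpha d (I.hp F) = alpha d (I.hp (kernel p)) + alpha d (I.hp M) := by rw [e, alpha_add]
  rcases hMa.lt_or_eq with hlt | heq
  · rw [hd', DL_sub_left]
    exact h.2.2.2 _ (kernel.ι p) inferInstance hK hKa (by linarith)
  · rw [DL, D, alpha_topPart, alpha_topPart, ← heq, zero_smul, sub_zero]
    exact (nn_topPart (I.nn_hp hM) hMd).smul h.alpha_pos.le

/-- A pure quotient with the data of the last factor kills the previous term. -/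
theorem kills_of_DL {E G : C} (hE : I.ok E) (hG : I.ok G) (hGp : I.Pure d G) (q : E ⟶ G) [Epi q]
    (s : LTSeries (Subobject E)) (n : ℕ) (hn : s.length = n + 1) (hbot : s.head = ⊥) (htop : s.last = ⊤)
    (hss : ∀ i, I.LSo d ℓ (factor s i))
    (hdec : ∀ i j : Fin s.length, i.val + 1 = j.val → Pos (DL d ℓ (I.hp (factor s j)) (I.hp (factor s i))))
    (heq : DL d ℓ (I.hp (factor s ⟨n, by omega⟩)) (I.hp G) = 0) :
    (s ⟨n, by omega⟩).arrow ≫ q = 0 := by
  classical
  let F := factor s ⟨n, by omega⟩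
  have hok : ∀ i : Fin (s.length + 1), I.ok (s i : C) := fun i => by
    induction i using Fin.reverseInduction with
    | last => exact I.ok_iso (Subobject.isoOfEq (s (Fin.last _)) ⊤ htop ≪≫ asIso (⊤ : Subobject E).arrow).symm hE
    | cast i ih =>
      exact I.ok_iso (asIso (Abelian.factorThruImage
        (Subobject.ofLE (s i.castSucc) (s i.succ) (le_of_lt (s.step i))))).symm
          (I.ok_kernel _ ih (hss i).1)
  have hF : 0 < alpha d (I.hp F) := (hss _).alpha_pos
  have hpos : ∀ (t : ℕ) (i : Fin s.length), i.val + (t + 1) = n → Pos (DL d ℓ (I.hp F) (I.hp (factor s i))) := by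
    intro t
    induction t with
    | zero => intro i hi; exact hdec i ⟨n, by omega⟩ (by simpa using hi)
    | succ t ih =>
      intro i hi
      let i' : Fin s.length := ⟨i.val + 1, by omega⟩
      have h1 := ih i' (by show i.val + 1 + (t + 1) = n; omega)
      rw [← pos_smul_iff (hss i').alpha_pos, DL_trans]
      exact (h1.smul (hss i).alpha_pos).add_nn ((hdec i i' rfl).nn.smul hF.le)
  let g : Fin (s.length + 1) → C := fun i => Abelian.image ((s i).arrow ≫ q)
  have hg : ∀ i, I.ok (g i) := fun i => I.ok_kernel _ hG (I.ok_cokernel _ (hok i) hG)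
  have step : ∀ j : Fin s.length, ∃ (M : C) (p : factor s j ⟶ M), Epi p ∧ I.ok M ∧
      I.hp (g j.succ) = I.hp (g j.castSucc) + I.hp M ∧ (IsZero (g j.castSucc) → Nonempty (g j.succ ≅ M)) := by
    intro j
    let f := Subobject.ofLE (s j.castSucc) (s j.succ) (le_of_lt (s.step j))
    let a := (s j.castSucc).arrow ≫ q
    let b := (s j.succ).arrow ≫ q
    have hab : f ≫ b = a := by simp [a, b, f]
    have hz : Abelian.image.ι a ≫ cokernel.π b = 0 := by
      rw [← cancel_epi (Abelian.factorThruImage a), ← Category.assoc, Abelian.image.fac, comp_zero, ← hab,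
        Category.assoc, cokernel.condition, comp_zero]
    let m : g j.castSucc ⟶ g j.succ := kernel.lift (cokernel.π b) (Abelian.image.ι a) hz
    have hm : m ≫ Abelian.image.ι b = Abelian.image.ι a := kernel.lift_ι _ _ _
    haveI : Mono m := mono_of_mono_fac hm
    have hw : f ≫ Abelian.factorThruImage b = Abelian.factorThruImage a ≫ m := by
      rw [← cancel_mono (Abelian.image.ι b), Category.assoc, Category.assoc, Abelian.image.fac, hm,
        Abelian.image.fac, hab]
    let p : factor s j ⟶ cokernel m :=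
      cokernel.map f m (Abelian.factorThruImage a) (Abelian.factorThruImage b) hw
    haveI : Epi p := by
      have : Epi (cokernel.π f ≫ p) := by simp only [p, cokernel.π_desc]; infer_instance
      exact epi_of_epi (cokernel.π f) p
    exact ⟨cokernel m, p, inferInstance, I.ok_cokernel m (hg _) (hg _), I.hp_cokernel m (hg _) (hg _),
      fun h0 => by
        have : m = 0 := h0.eq_of_src _ _
        exact ⟨(cokernel.mapIso m (0 : g j.castSucc ⟶ g j.succ) (Iso.refl _) (Iso.refl _) (by simp [this]) ≪≫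
          cokernelZeroIsoTarget).symm⟩⟩
  have key : ∀ i : Fin (s.length + 1), i.val ≤ n →
      Nn (DL d ℓ (I.hp F) (I.hp (g i))) ∧ (DL d ℓ (I.hp F) (I.hp (g i)) = 0 → IsZero (g i)) := by
    intro i
    induction i using Fin.induction with
    | zero =>
      intro _
      have hz : IsZero (g 0) :=
        IsZero.of_epi (Abelian.factorThruImage _) ((isZero_zero C).of_iso
          (Subobject.isoOfEq (s 0) ⊥ hbot ≪≫ Subobject.botCoeIsoZero))
      rw [I.hp_zero hz (hg 0), DL, topPart_zero, D_zero_right]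
      exact ⟨nn_zero, fun _ => hz⟩
    | succ j ih =>
      intro hj
      have hj' : j.val + 1 ≤ n := hj
      obtain ⟨h1, h2⟩ := ih (by show j.val ≤ n; omega)
      obtain ⟨M, p, hp, hM, e, hiso⟩ := step j
      haveI := hp
      have hq := (hss j).nn_quot p hM
      have hFj := hpos (n - j.val - 1) j (by omega)
      have hMd : (I.hp M).natDegree ≤ d := by
        rw [eq_sub_of_add_eq' e.symm]
        exact (Polynomial.natDegree_sub_le _ _).trans (max_le
          ((I.deg_le_of_mono (Abelian.image.ι _) (hg _) hG).trans (hGp.deg_le hG))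
          ((I.deg_le_of_mono (Abelian.image.ι _) (hg _) hG).trans (hGp.deg_le hG)))
      have hMa := alpha_nonneg d (I.nn_hp hM) hMd
      have hnn : Nn (DL d ℓ (I.hp F) (I.hp M)) := by
        rw [← nn_smul_iff (hss j).alpha_pos, DL_trans]
        exact (hFj.nn.smul hMa).add (hq.smul hF.le)
      refine ⟨by rw [e, DL_add_right]; exact h1.add hnn, fun h0 => ?_⟩
      rw [e, DL_add_right] at h0
      have hA : DL d ℓ (I.hp F) (I.hp (g j.castSucc)) = 0 := eq_zero_of_nn_neg h1 (by
        rw [eq_neg_of_add_eq_zero_left h0, neg_neg]; exact hnn)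
      have hB : DL d ℓ (I.hp F) (I.hp M) = 0 := by rwa [hA, zero_add] at h0
      obtain ⟨ε⟩ := hiso (h2 hA)
      by_contra hne
      have hpa := hGp.alpha_pos (Abelian.image.ι _) (hg _) hne
      rw [I.hp_iso ε (hg _)] at hpa
      refine (((hFj.smul hpa).add_nn (hq.smul hF.le)).ne_zero ?_)
      rw [← DL_trans, hB, smul_zero]
  obtain ⟨h1, h2⟩ := key ⟨n, by omega⟩ le_rfl
  obtain ⟨M, p, hp, hM, e, -⟩ := step ⟨n, by omega⟩
  haveI := hp
  have hq := (hss _).nn_quot p hM
  have hlast : I.hp (g (Fin.succ ⟨n, by omega⟩)) = I.hp G := by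
    let l₀ : Fin s.length := ⟨n, by omega⟩
    have : IsIso (s (Fin.succ l₀)).arrow := (Subobject.isIso_arrow_iff_eq_top _).2 (by
      rw [← htop]; exact congrArg s (Fin.ext (show n + 1 = s.length by omega)))
    haveI : Epi ((s (Fin.succ l₀)).arrow ≫ q) := epi_comp _ _
    haveI : Epi (Abelian.image.ι ((s (Fin.succ l₀)).arrow ≫ q)) :=
      epi_of_epi_fac (Abelian.image.fac _)
    haveI := isIso_of_mono_of_epi (Abelian.image.ι ((s (Fin.succ l₀)).arrow ≫ q))
    exact I.hp_iso (asIso (Abelian.image.ι ((s (Fin.succ l₀)).arrow ≫ q))) (hg _)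
  have h0 : DL d ℓ (I.hp F) (I.hp (g (Fin.castSucc ⟨n, by omega⟩))) + DL d ℓ (I.hp F) (I.hp M) = 0 := by
    rw [← DL_add_right, ← e, hlast]; exact heq
  have hz := h2 (eq_zero_of_nn_neg h1 (by
    have := eq_neg_of_add_eq_zero_left h0
    exact (show -DL d ℓ (I.hp F) (I.hp (g ⟨n, by omega⟩)) = DL d ℓ (I.hp F) (I.hp M) by
      rw [show (⟨n, by omega⟩ : Fin (s.length + 1)) = Fin.castSucc ⟨n, by omega⟩ from rfl, this, neg_neg]) ▸ hq))
  rw [← Abelian.image.fac ((s ⟨n, by omega⟩).arrow ≫ q), hz.eq_of_src (Abelian.image.ι _) 0, comp_zero]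

end Inv

end Groth.Agent.StabLib
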